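import Groth.Agent.L09.EtSub.Push
import Groth.Agent.L23.AffineQuot
import Groth.Agent.L23.EtaleSepQc
import Mathlib.AlgebraicGeometry.ZariskisMainTheorem
import Mathlib.AlgebraicGeometry.EffectiveEpi
import Mathlib.AlgebraicGeometry.Morphisms.LocalFlatDescent
import Mathlib.AlgebraicGeometry.QuasiAffine

/-!
# Spaces with vanishing first cohomology are affine
-/

universe u

open CategoryTheory CategoryTheory.Limits AlgebraicGeometry Opposite AlgSp TopologicalSpace TensorProduct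

set_option autoImplicit false
set_option linter.style.haveILetI false
set_option backward.isDefEq.respectTransparency false
set_option backward.isDefEq.respectTransparency.types false

noncomputable section

namespace Groth.L09.EtSub

open Groth.L09.ModEt Groth.L09.Pull

variable {S : Scheme.{u}} {X : Sp S}

theorem appTop_congr {A B : Scheme.{u}} {f g : A ⟶ B} (h : f = g) (x : Γ(B, ⊤)) :
    f.appTop.hom x = g.appTop.hom x := by rw [h]

/-- A separated quasi-compact etale scheme over an affine scheme is quasi-affine. -/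
theorem isQuasiAffine_of_etale {R U : Scheme.{u}} [IsAffine U] [R.IsSeparated] [CompactSpace R] (f : R ⟶ U)
    [Etale f] : R.IsQuasiAffine := by
  haveI : IsSeparated (f ≫ terminal.from U) := by rw [terminal.comp_from]; infer_instance
  haveI : IsSeparated f := IsSeparated.of_comp f (terminal.from U)
  haveI : QuasiCompact f := quasiCompact_of_compactSpace _
  haveI : LocallyQuasiFinite f := Groth.L23.lqf_of_etale f
  haveI : IsAffine f.normalization := isAffine_of_isAffineHom f.fromNormalization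
  exact Scheme.IsQuasiAffine.of_isImmersion f.toNormalization

/-- A quasi-compact etale scheme over a field is affine. -/
theorem isAffine_of_etale_field {R : Scheme.{u}} [CompactSpace R] {K : CommRingCat.{u}} (hK : IsField K)
    (f : R ⟶ Spec K) [Etale f] : IsAffine R := by
  letI := hK.toField
  haveI : IsArtinianRing K := inferInstance
  haveI : IsLocallyArtinian (Spec K) := inferInstance
  haveI : QuasiCompact f := quasiCompact_of_compactSpace _
  haveI : LocallyQuasiFinite f := Groth.L23.lqf_of_etale f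
  haveI : IsFinite f := IsFinite.of_locallyQuasiFinite f
  exact isAffine_of_isAffineHom f

/-- Points of an affine scheme with values in a field factor through a residue field. -/
theorem exists_field_point {U : Scheme.{u}} [IsAffine U] {K : Type u} [Field K] (g : Γ(U, ⊤) →+* K) :
    ∃ (e : U) (h : Γ(Spec (U.residueField e), ⊤) →+* K),
      h.comp (U.fromSpecResidueField e).appTop.hom = g := by
  let a : Spec (CommRingCat.of K) ⟶ U := Spec.map (CommRingCat.ofHom g) ≫ U.isoSpec.inv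
  let b := Spec.map (U.descResidueField (Scheme.stalkClosedPointTo a))
  let e := a (IsLocalRing.closedPoint K)
  have hb : b ≫ U.fromSpecResidueField e = a :=
    U.descResidueField_stalkClosedPointTo_fromSpecResidueField K a
  refine ⟨e, (Scheme.ΓSpecIso (CommRingCat.of K)).hom.hom.comp b.appTop.hom, ?_⟩
  refine RingHom.ext fun x => ?_
  refine (congrArg (Scheme.ΓSpecIso (CommRingCat.of K)).hom.hom
    (appTop_congr hb x : b.appTop.hom ((U.fromSpecResidueField e).appTop.hom x) = a.appTop.hom x)).trans ?_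
  have key : a.appTop ≫ (Scheme.ΓSpecIso (CommRingCat.of K)).hom = CommRingCat.ofHom g := by
    simp only [a, Scheme.Hom.comp_appTop, Category.assoc, Scheme.ΓSpecIso_naturality]
    have hinv : U.isoSpec.inv.appTop ≫ (Scheme.ΓSpecIso Γ(U, ⊤)).hom = 𝟙 _ := by
      rw [← Scheme.toSpecΓ_appTop, ← Scheme.Hom.comp_appTop, ← Scheme.isoSpec_hom, Iso.hom_inv_id]
      rfl
    rw [← Category.assoc]
    erw [hinv, Category.id_comp]
  exact DFunLike.congr_fun (congrArg CommRingCat.Hom.hom key) x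

section Main

variable {U : Over S} [IsAffine U.left] (φ : (yon S).obj U ⟶ X) (hφ : RepWith @Etale φ)
  (hs : RepWith @Surjective φ)

/-- The atlas as an object of the site. -/
abbrev atlasObj : EtOver X := EtOver.mk φ hφ

instance : IsAffine (atlasObj φ hφ).obj.left.left := ‹IsAffine U.left›

theorem hπ₀ (a : Aring (atlasObj φ hφ)) :
    π₀ hφ.1 (atlasObj φ hφ) a = qs φ hφ.1 (atlasObj φ hφ) (sA (E₀ := atlasObj φ hφ) (𝟙 U) a) :=
  π_eq_qs φ hφ.1 (E₀ := atlasObj φ hφ) (𝟙 U)
    (by rw [CategoryTheory.Functor.map_id]; exact Category.id_comp φ) a.2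

/-- The comparison for the atlas. -/
abbrev Φ₁ := Φ φ hφ.1 (E₀ := atlasObj φ hφ) (𝟙 U) (hπ₀ φ hφ)

theorem bijective_Φ₁ (H : Hyp X) [QuasiSeparatedSpace ↥S] (hs : RepWith @Surjective φ) : Function.Bijective (Φ₁ φ hφ) :=
  bijective_Φ φ hφ.1 (E₀ := atlasObj φ hφ) (𝟙 U)
    (by rw [CategoryTheory.Functor.map_id]; exact Category.id_comp φ) hs H (hπ₀ φ hφ)

include hs in
theorem isAffine_rel (H : Hyp X) [QuasiSeparatedSpace ↥S] :
    IsAffine (EtOver.bcObj hφ.1 (atlasObj φ hφ)).obj.left.left := by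
  let E₀ := atlasObj φ hφ
  let hg : Representable φ := hφ.1
  let R := (EtOver.bcObj hg E₀).obj.left
  let t : R ⟶ U := qY φ hg E₀
  let p : R ⟶ U := EtOver.bcπ hg E₀
  have sqR : IsPullback ((yon S).map t) ((yon S).map p) φ φ := sqY φ hg E₀
  haveI : CompactSpace R.left := compactSpace_bcObj φ hg H.qs E₀
  haveI : R.left.IsSeparated := isSeparated_bcObj φ hg E₀
  haveI : Etale p.left := Groth.L23.repWith_prop hφ sqR
  haveI : R.left.IsQuasiAffine := isQuasiAffine_of_etale p.left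
  let A := Aring E₀
  letI algA : Algebra A Γ(U.left, ⊤) := ((sA (E₀ := E₀) (𝟙 U)).comp A.subtype).toAlgebra
  let Φ₀ := Φ₁ φ hφ
  have hΦ : Function.Bijective Φ₀ := bijective_Φ₁ φ hφ H hs
  suffices hsurj : Function.Surjective R.left.toSpecΓ by
    haveI : Surjective R.left.toSpecΓ := ⟨hsurj⟩
    haveI : IsIso R.left.toSpecΓ := (isIso_iff_isOpenImmersion_and_surjective _).2 ⟨inferInstance, inferInstance⟩
    exact ⟨inferInstance⟩
  intro P
  let L : Type u := P.asIdeal.ResidueField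
  let gΓ : Γ(R.left, ⊤) →+* L := algebraMap _ _
  obtain ⟨e, h, hh⟩ := exists_field_point (U := U.left)
    (gΓ.comp (Φ₀.comp (Algebra.TensorProduct.includeRight (R := A) (A := Γ₀ E₀) (B := Γ(U.left, ⊤))).toRingHom))
  let Y : Over S := Over.mk (U.left.fromSpecResidueField e ≫ U.hom)
  let s : Y ⟶ U := Over.homMk (U.left.fromSpecResidueField e)
  let g' : (yon S).obj Y ⟶ X := (yon S).map s ≫ φ
  have hg' : Representable g' := H.alg.representable_from_yon g'
  haveI : CompactSpace Y.left := inferInstanceAs (CompactSpace (Spec (U.left.residueField e)))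
  haveI : Y.left.IsSeparated := inferInstanceAs (Scheme.IsSeparated (Spec (U.left.residueField e)))
  letI algY : Algebra A Γ(Y.left, ⊤) := ((sA (E₀ := E₀) s).comp A.subtype).toAlgebra
  have hsg : (yon S).map s ≫ E₀.obj.hom = g' := congrArg ((yon S).map s ≫ ·) (rfl : E₀.obj.hom = φ)
  have hπ' : ∀ a : A, π₀ hg' E₀ a = qs g' hg' E₀ (sA (E₀ := E₀) s a) :=
    fun a => π_eq_qs (E₀ := E₀) g' hg' s hsg a.2
  let Φ' := Φ g' hg' (E₀ := E₀) s hπ'
  have hΦ' : Function.Bijective Φ' := bijective_Φ (E₀ := E₀) g' hg' s hsg hs H hπ'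
  let R' := (EtOver.bcObj hg' E₀).obj.left
  have sqR' : IsPullback ((yon S).map (qY g' hg' E₀)) ((yon S).map (EtOver.bcπ hg' E₀)) g' φ := sqY g' hg' E₀
  haveI : CompactSpace R'.left := compactSpace_bcObj g' hg' H.qs E₀
  haveI : Etale (qY g' hg' E₀).left := Groth.L23.repWith_prop hφ sqR'.flip
  haveI : IsAffine R'.left :=
    isAffine_of_etale_field (K := U.left.residueField e) (Field.toIsField _) (qY g' hg' E₀).left
  obtain ⟨ω, hω₁, hω₂⟩ := Groth.L23.exists_lift_yon sqR (qY g' hg' E₀ ≫ s) (EtOver.bcπ hg' E₀) (by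
    rw [Functor.map_comp, Category.assoc]
    exact sqR'.w)
  let gL : Γ₀ E₀ →+* L :=
    gΓ.comp (Φ₀.comp (Algebra.TensorProduct.includeLeftRingHom (R := A) (A := Γ₀ E₀) (B := Γ(U.left, ⊤))))
  letI algL : Algebra A L := (gL.comp A.subtype).toAlgebra
  have hh' : ∀ b : Γ(U.left, ⊤), h (sA (E₀ := E₀) s b) = gΓ (Φ₀ (1 ⊗ₜ b)) := fun b => DFunLike.congr_fun hh b
  let G : Γ₀ E₀ ⊗[A] Γ(Y.left, ⊤) →+* L := (Algebra.TensorProduct.productMap
    ({ toRingHom := gL, commutes' := fun _ => rfl } : Γ₀ E₀ →ₐ[A] L)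
    ({ toRingHom := h, commutes' := fun a => by
        show h (sA (E₀ := E₀) s a) = gΓ (Φ₀ ((a : Γ₀ E₀) ⊗ₜ 1))
        rw [hh']
        have e1 : ((a : Γ₀ E₀) ⊗ₜ[A] (1 : Γ(U.left, ⊤))) = (1 : Γ₀ E₀) ⊗ₜ (algebraMap A Γ(U.left, ⊤) a) := by
          rw [Algebra.algebraMap_eq_smul_one, ← TensorProduct.smul_tmul]
          exact congrArg (· ⊗ₜ[A] (1 : Γ(U.left, ⊤))) (mul_one (a : Γ₀ E₀)).symm
        rw [e1]
        rfl } : Γ(Y.left, ⊤) →ₐ[A] L)).toRingHom
  let Ψ : Γ(R'.left, ⊤) →+* L := G.comp (RingEquiv.ofBijective Φ' hΦ').symm.toRingHom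
  have hΦ't : ∀ b y, Φ' (b ⊗ₜ y) = π₀ hg' E₀ b * qs g' hg' E₀ y := fun b y => by
    letI : Algebra A (Γ₀ (EtOver.bcObj hg' E₀)) := ((π₀ hg' E₀).comp A.subtype).toAlgebra
    exact Algebra.TensorProduct.productMap_apply_tmul _ _ b y
  have hΦt : ∀ b y, Φ₀ (b ⊗ₜ y) = π₀ hg E₀ b * qs φ hg E₀ y := fun b y => by
    letI : Algebra A (Γ₀ (EtOver.bcObj hg E₀)) := ((π₀ hg E₀).comp A.subtype).toAlgebra
    exact Algebra.TensorProduct.productMap_apply_tmul _ _ b y
  have hcomp : ∀ x : Γ₀ E₀ ⊗[A] Γ(U.left, ⊤), Ψ (ω.left.appTop.hom (Φ₀ x)) = gΓ (Φ₀ x) := by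
    intro x
    induction x using TensorProduct.induction_on with
    | zero => simp only [map_zero]
    | add a b ha hb => simp only [map_add, ha, hb]
    | tmul b y =>
      have hw : ω.left.appTop.hom (Φ₀ (b ⊗ₜ y)) = Φ' (b ⊗ₜ sA (E₀ := E₀) s y) := by
        rw [hΦt, hΦ't, map_mul]
        refine congrArg₂ (· * ·) ?_ ?_
        · exact (appTop_comp_apply ω p b).symm.trans (appTop_congr (congrArg CommaMorphism.left hω₂) b)
        · exact (appTop_comp_apply ω t y).symm.trans (appTop_congr (congrArg CommaMorphism.left hω₁) y)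
      show G ((RingEquiv.ofBijective Φ' hΦ').symm (ω.left.appTop.hom (Φ₀ (b ⊗ₜ y)))) = _
      rw [hw, show (RingEquiv.ofBijective Φ' hΦ').symm (Φ' (b ⊗ₜ sA (E₀ := E₀) s y)) = b ⊗ₜ sA (E₀ := E₀) s y from
        ((RingEquiv.ofBijective Φ' hΦ').symm_apply_eq).2 rfl]
      refine (Algebra.TensorProduct.productMap_apply_tmul _ _ b _).trans ?_
      show gΓ (Φ₀ (b ⊗ₜ 1)) * h (sA (E₀ := E₀) s y) = _
      rw [hh', ← map_mul, ← map_mul, Algebra.TensorProduct.tmul_mul_tmul, mul_one, one_mul]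
  let P' : Spec Γ(R'.left, ⊤) := ⟨RingHom.ker Ψ, RingHom.ker_isPrime Ψ⟩
  refine ⟨ω.left (R'.left.isoSpec.inv P'), ?_⟩
  rw [← Scheme.Hom.comp_apply, Scheme.toSpecΓ_naturality, Scheme.Hom.comp_apply,
    ← Scheme.isoSpec_hom, ← Scheme.Hom.comp_apply R'.left.isoSpec.inv, Iso.inv_hom_id]
  refine PrimeSpectrum.ext (Ideal.ext fun r => ?_)
  show Ψ (ω.left.appTop.hom r) = 0 ↔ r ∈ P.asIdeal
  obtain ⟨x, rfl⟩ := hΦ.2 r
  rw [hcomp]
  exact Ideal.algebraMap_residueField_eq_zero

/-- The map from the atlas to the spectrum of global functions. -/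
abbrev quotMap : U.left ⟶ Spec (CommRingCat.of (Aring (atlasObj φ hφ))) :=
  U.left.isoSpec.hom ≫ Spec.map (CommRingCat.ofHom (Aring (atlasObj φ hφ)).subtype :
    CommRingCat.of (Aring (atlasObj φ hφ)) ⟶ Γ(U.left, ⊤))

include hs in
theorem isPullback_quotMap (H : Hyp X) [QuasiSeparatedSpace ↥S] :
    IsPullback (qY φ hφ.1 (atlasObj φ hφ)).left (EtOver.bcπ hφ.1 (atlasObj φ hφ)).left
      (quotMap φ hφ) (quotMap φ hφ) := by
  let E₀ := atlasObj φ hφ
  let hg : Representable φ := hφ.1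
  let R := (EtOver.bcObj hg E₀).obj.left
  haveI : IsAffine R.left := isAffine_rel φ hφ hs H
  let t : R ⟶ U := qY φ hg E₀
  let p : R ⟶ U := EtOver.bcπ hg E₀
  let A := Aring E₀
  letI algA : Algebra A Γ(U.left, ⊤) := ((sA (E₀ := E₀) (𝟙 U)).comp A.subtype).toAlgebra
  let ι₀ : CommRingCat.of A ⟶ Γ(U.left, ⊤) := CommRingCat.ofHom A.subtype
  let q := quotMap φ hφ
  let Φ₀ := Φ₁ φ hφ
  have hΦ : Function.Bijective Φ₀ := bijective_Φ₁ φ hφ H hs
  have hpo : CategoryTheory.IsPushout ι₀ ι₀ p.left.appTop t.left.appTop := by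
    have h0 := CommRingCat.isPushout_tensorProduct A (Γ₀ E₀) Γ(U.left, ⊤)
    refine h0.of_iso (Iso.refl _) (Iso.refl _) (Iso.refl _)
      (RingEquiv.toCommRingCatIso (RingEquiv.ofBijective Φ₀ hΦ)) ?_ ?_ ?_ ?_
    · rfl
    · refine CommRingCat.hom_ext (RingHom.ext fun a => ?_)
      exact ((appTop_congr (rfl : (𝟙 U : U ⟶ U).left = 𝟙 U.left) (a : Γ₀ E₀)).trans (by simp [Scheme.Hom.id_app]; rfl))
    · refine CommRingCat.hom_ext (RingHom.ext fun b => ?_)
      letI : Algebra A (Γ₀ (EtOver.bcObj hg E₀)) := ((π₀ hg E₀).comp A.subtype).toAlgebra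
      show Φ₀ (b ⊗ₜ 1) = π₀ hg E₀ b
      rw [show Φ₀ (b ⊗ₜ 1) = π₀ hg E₀ b * qs φ hg E₀ 1 from
        Algebra.TensorProduct.productMap_apply_tmul _ _ b 1, map_one, mul_one]
    · refine CommRingCat.hom_ext (RingHom.ext fun b => ?_)
      letI : Algebra A (Γ₀ (EtOver.bcObj hg E₀)) := ((π₀ hg E₀).comp A.subtype).toAlgebra
      show Φ₀ (1 ⊗ₜ b) = qs φ hg E₀ b
      rw [show Φ₀ (1 ⊗ₜ b) = π₀ hg E₀ 1 * qs φ hg E₀ b from
        Algebra.TensorProduct.productMap_apply_tmul _ _ 1 b, map_one, one_mul]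
  have h1 := (isPullback_SpecMap_of_isPushout _ _ _ _ hpo).flip
  refine h1.of_iso R.left.isoSpec.symm U.left.isoSpec.symm U.left.isoSpec.symm (Iso.refl _) ?_ ?_ ?_ ?_
  · exact Scheme.isoSpec_inv_naturality t.left
  · exact Scheme.isoSpec_inv_naturality p.left
  · simp [q]; rfl
  · simp [q]; rfl

end Main

/-- A quasi-compact quasi-separated space on which the first cohomology of quasi-coherent modules vanishes is
an affine scheme. -/
theorem exists_iso_affine (H : Hyp X) :
    ∃ T : Over S, IsAffine T.left ∧ Nonempty ((yon S).obj T ≅ X) := by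
  haveI := H.qsS
  obtain ⟨U, φ, hU, hφ, hs⟩ := Groth.L09.Filtration.exists_affine_atlas H.qc
  haveI := hU
  let E₀ := atlasObj φ hφ
  let t := qY φ hφ.1 E₀
  let p : (EtOver.bcObj hφ.1 E₀).obj.left ⟶ U := EtOver.bcπ hφ.1 E₀
  have sqR : IsPullback ((yon S).map t) ((yon S).map p) φ φ := sqY φ hφ.1 E₀
  haveI : Etale t.left := Groth.L23.repWith_prop hφ sqR.flip
  let A := Aring E₀
  haveI : Module.FaithfullyFlat A (Γ₀ E₀) := faithfullyFlat_Aring hs H
  let ι₀ : CommRingCat.of A ⟶ Γ(U.left, ⊤) := CommRingCat.ofHom A.subtype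
  let q : U.left ⟶ Spec (CommRingCat.of A) := quotMap φ hφ
  haveI : Flat (Spec.map ι₀) := Flat.SpecMap_iff.mpr
    ((RingHom.flat_algebraMap_iff (R := A) (S := Γ₀ E₀)).mpr inferInstance : RingHom.Flat A.subtype)
  haveI : Surjective (Spec.map ι₀) :=
    ⟨PrimeSpectrum.comap_surjective_of_faithfullyFlat (A := A) (B := Γ₀ E₀)⟩
  haveI : Flat q := inferInstanceAs (Flat (U.left.isoSpec.hom ≫ Spec.map ι₀))
  haveI : Surjective q := inferInstanceAs (Surjective (U.left.isoSpec.hom ≫ Spec.map ι₀))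
  haveI : QuasiCompact q := quasiCompact_of_compactSpace _
  have hpb : IsPullback t.left p.left q q := isPullback_quotMap φ hφ hs H
  haveI hq : Etale q := MorphismProperty.of_isPullback_of_descendsAlong (P := @Etale)
    (Q := @Surjective ⊓ @Flat ⊓ @QuasiCompact) hpb ⟨⟨‹Surjective q›, ‹Flat q›⟩, ‹QuasiCompact q›⟩ ‹Etale t.left›
  haveI : IsAffine (Spec (CommRingCat.of A)) := inferInstance
  haveI : IsRegularEpi q := isRegularEpi_of_flat_of_surjective_of_isAffine q
  have hw : t.left ≫ U.hom = p.left ≫ U.hom := (Over.w t).trans (Over.w p).symm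
  obtain ⟨m, hm⟩ : ∃ m : Spec (CommRingCat.of A) ⟶ S, q ≫ m = U.hom := by
    refine ⟨EffectiveEpi.desc q U.hom fun {Z} g₁ g₂ e => ?_, EffectiveEpi.fac q U.hom _⟩
    obtain ⟨l, hl₁, hl₂⟩ := hpb.exists_lift g₁ g₂ e
    rw [← hl₁, ← hl₂, Category.assoc, Category.assoc, hw]
  let T : Over S := Over.mk m
  let qT : U ⟶ T := Over.homMk q hm
  have sT : IsPullback t p qT qT := IsPullback.of_map (Over.forget S) (Over.OverMorphism.ext hpb.w) hpb
  have hqf : RepWith @Flat ((yon S).map qT) := Groth.L23.repWith_map (show Flat qT.left from ‹Flat q›)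
  have hqp : RepWith @LocallyOfFinitePresentation ((yon S).map qT) :=
    Groth.L23.repWith_map (show LocallyOfFinitePresentation qT.left from inferInstanceAs (LocallyOfFinitePresentation q))
  have hqs : RepWith @Surjective ((yon S).map qT) := Groth.L23.repWith_map (show Surjective qT.left from ‹Surjective q›)
  haveI : Sheaf.IsLocallySurjective ((yon S).map qT) := Groth.L23.isLocallySurjective_of_repWith _ hqf hqp hqs
  haveI : Epi ((yon S).map qT) := inferInstance
  haveI := Groth.L23.epi_of_repWith φ hφ hs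
  obtain ⟨h₁⟩ := Groth.L23.nonempty_isColimit_cofork _ (sT.map (yon S))
  obtain ⟨h₂⟩ := Groth.L23.nonempty_isColimit_cofork φ sqR
  exact ⟨T, inferInstanceAs (IsAffine (Spec (CommRingCat.of A))), ⟨h₁.coconePointUniqueUpToIso h₂⟩⟩

end Groth.L09.EtSub
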