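import Groth.Agent.L23.AffineMor
import Groth.Agent.L23.QsTop
import Groth.Agent.L23.Univ
import Groth.Agent.L23.QcCalc
import Mathlib.AlgebraicGeometry.Morphisms.Separated

/-!
# Spaces affine over quasi-compact quasi-separated spaces
-/

universe u

open CategoryTheory CategoryTheory.Limits AlgebraicGeometry Opposite AlgSp

set_option autoImplicit false
set_option linter.style.haveILetI false
set_option backward.isDefEq.respectTransparency false
set_option backward.isDefEq.respectTransparency.types false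

noncomputable section

namespace Groth.L09.EtSub

variable {S : Scheme.{u}} {X Y : Sp S}

theorem exists_lift_rep {F G : Sp S} {f : F ⟶ G} (hf : Representable f) {U T : Over S} {g : (yon S).obj U ⟶ G}
    (i : (yon S).obj T ⟶ F) (h : T ⟶ U) (e : i ≫ f = (yon S).map h ≫ g) :
    ∃ σ : T ⟶ hf.pullback g, (yon S).map σ ≫ hf.fst g = i ∧ σ ≫ hf.snd g = h :=
  ⟨hf.lift i h e, hf.lift_fst i h e, hf.lift_snd i h e⟩

theorem isQuasiCompactSp_of_repWith_affine {f : X ⟶ Y} (hf : RepWith @IsAffineHom f) (hY : IsAlgSpace Y)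
    (hqc : IsQuasiCompactSp Y) : IsQuasiCompactSp X :=
  Groth.L23.isQuasiCompactMor_of_repWith
    (Groth.L23.repWith_mono (Q := (@QuasiCompact : MorphismProperty Scheme.{u}))
      (fun φ (_ : IsAffineHom φ) => inferInstanceAs (QuasiCompact φ)) hf)
    hY hqc (𝟙 Y) (𝟙 X) f (IsPullback.of_horiz_isIso ⟨by simp⟩)

theorem isQuasiSeparatedSp_of_repWith_affine [QuasiSeparatedSpace ↥S] {f : X ⟶ Y} (hf : RepWith @IsAffineHom f)
    (hX : IsAlgSpace X) (hY : IsAlgSpace Y) (hqs : IsQuasiSeparatedSp Y) : IsQuasiSeparatedSp X := by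
  refine Groth.L23.Qs.isQuasiSeparatedSp_of_compact hX fun U V P a b fst snd hU hV sP => ?_
  haveI := hU
  haveI := hV
  obtain ⟨P', p₁, p₂, sP'⟩ := Groth.L23.exists_isPullback_of_representable (hY.representable_from_yon (a ≫ f)) (b ≫ f)
  haveI : CompactSpace P'.left := Groth.L23.compactSpace_of_qs hqs sP'
  let g : (yon S).obj P' ⟶ Y := (yon S).map p₁ ≫ a ≫ f
  obtain ⟨σ₁, hσ₁, hσ₁'⟩ := exists_lift_rep hf.1 (g := g) ((yon S).map p₁ ≫ a) (𝟙 P')
    (by rw [CategoryTheory.Functor.map_id, Category.id_comp, Category.assoc])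
  obtain ⟨σ₂, hσ₂, hσ₂'⟩ := exists_lift_rep hf.1 (g := g) ((yon S).map p₂ ≫ b) (𝟙 P')
    (by rw [CategoryTheory.Functor.map_id, Category.id_comp, Category.assoc]; exact sP'.w.symm)
  haveI : IsAffineHom (hf.1.snd g).left := Groth.L23.repWith_snd hf g
  have hσl : σ₂.left ≫ (hf.1.snd g).left = 𝟙 P'.left := congrArg (fun m => Over.Hom.left m) hσ₂'
  haveI : IsClosedImmersion (σ₂.left ≫ (hf.1.snd g).left) := by rw [hσl]; infer_instance
  haveI : IsClosedImmersion σ₂.left := IsClosedImmersion.of_comp σ₂.left (hf.1.snd g).left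
  let E : Over S := Over.mk (pullback.fst σ₁.left σ₂.left ≫ P'.hom)
  let e : E ⟶ P' := Over.homMk (pullback.fst σ₁.left σ₂.left)
  haveI : CompactSpace E.left := QuasiCompact.compactSpace_of_compactSpace (pullback.fst σ₁.left σ₂.left)
  have hσl₁ : σ₁.left ≫ (hf.1.snd g).left = 𝟙 P'.left := congrArg (fun m => Over.Hom.left m) hσ₁'
  have heq : e ≫ σ₁ = e ≫ σ₂ := by
    refine Over.OverMorphism.ext ?_
    show pullback.fst σ₁.left σ₂.left ≫ σ₁.left = pullback.fst σ₁.left σ₂.left ≫ σ₂.left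
    have hc := pullback.condition (f := σ₁.left) (g := σ₂.left)
    have h2 : pullback.fst σ₁.left σ₂.left = pullback.snd σ₁.left σ₂.left := by
      have := congrArg (· ≫ (hf.1.snd g).left) hc
      simpa only [Category.assoc, hσl, hσl₁, Category.comp_id] using this
    rw [hc, h2]
  have hab : (yon S).map (e ≫ p₁) ≫ a = (yon S).map (e ≫ p₂) ≫ b := by
    rw [Functor.map_comp, Functor.map_comp, Category.assoc, Category.assoc, ← hσ₁, ← hσ₂,
      ← Category.assoc, ← Category.assoc, ← Functor.map_comp, ← Functor.map_comp, heq]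
  obtain ⟨k, hk₁, hk₂⟩ := Groth.L23.exists_lift_yon sP (e ≫ p₁) (e ≫ p₂) hab
  obtain ⟨l, hl₁, hl₂⟩ := Groth.L23.exists_lift_yon sP' fst snd (by rw [← Category.assoc, ← Category.assoc, sP.w])
  have hlσ : l ≫ σ₁ = l ≫ σ₂ := by
    refine hf.1.hom_ext ?_ ?_
    · rw [Functor.map_comp, Functor.map_comp, Category.assoc, Category.assoc, hσ₁, hσ₂, ← Category.assoc,
        ← Category.assoc, ← Functor.map_comp, ← Functor.map_comp, hl₁, hl₂, sP.w]
    · rw [Category.assoc, Category.assoc, hσ₁', hσ₂']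
  let m : P.left ⟶ E.left := pullback.lift l.left l.left (congrArg (fun m => Over.Hom.left m) hlσ)
  have hm : m ≫ pullback.fst σ₁.left σ₂.left = l.left := pullback.lift_fst _ _ _
  let m' : P ⟶ E := Over.homMk m (by
    show m ≫ pullback.fst σ₁.left σ₂.left ≫ P'.hom = P.hom
    rw [← Category.assoc, hm]
    exact Over.w l)
  have hm' : m' ≫ e = l := Over.OverMorphism.ext hm
  have key : m' ≫ k = 𝟙 P := by
    refine (yon S).map_injective (sP.hom_ext ?_ ?_) <;>
      rw [← Functor.map_comp, ← Functor.map_comp, Category.assoc, Category.id_comp]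
    · rw [hk₁, ← Category.assoc, hm', hl₁]
    · rw [hk₂, ← Category.assoc, hm', hl₂]
  have hsur : Function.Surjective k.left := fun x =>
    ⟨m'.left x, DFunLike.congr_fun (congrArg (fun q : P.left ⟶ P.left => q.toLRSHom'.base.hom)
      (congrArg (fun q => Over.Hom.left q) key)) x⟩
  exact hsur.compactSpace k.left.continuous

end Groth.L09.EtSub
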