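import Groth.Agent.L09.EtSub.SubObj
import Groth.Agent.L09.Pull.EtaleAdj
import Groth.Agent.L09.ModEt.PushQcoh
import Groth.Agent.L09.ModEt.Ext
import Groth.Agent.L23.QcohClosure

/-!
# Amalgamating modules with modules on objects etale over the space
-/

universe u

open CategoryTheory CategoryTheory.Limits AlgebraicGeometry Opposite AlgSp

set_option autoImplicit false
set_option linter.style.haveILetI false
set_option backward.isDefEq.respectTransparency false
set_option backward.isDefEq.respectTransparency.types false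

noncomputable section

namespace Groth.L09.EtSub

open Groth.L09.ModEt Groth.L09.Pull

variable {S : Scheme.{u}} {X Y : Sp S}

theorem sapp_add {A B : ModEt X} (f g : A ⟶ B) (E : EtOver X) (x : sectModEt A E) :
    sapp (f + g) E x = sapp f E x + sapp g E x := rfl

theorem sapp_sub {A B : ModEt X} (f g : A ⟶ B) (E : EtOver X) (x : sectModEt A E) :
    sapp (f - g) E x = sapp f E x - sapp g E x := rfl

theorem sapp_id {A : ModEt X} (E : EtOver X) (x : sectModEt A E) : sapp (𝟙 A) E x = x := rfl

theorem isQuasicoherent_biprod (A B : ModEt X) [hA : A.IsQuasicoherent] [hB : B.IsQuasicoherent] :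
    (A ⊞ B).IsQuasicoherent :=
  isQuasicoherent_middle (ShortComplex.Splitting.ofHasBinaryBiproduct A B).shortExact hA hB

variable {p : Y ⟶ X} (hp : RepWith @Etale p)

theorem isQuasicoherent_restr (N : ModEt X) [N.IsQuasicoherent] : ((restr hp).obj N).IsQuasicoherent :=
  isQuasicoherent_of_bc_affine _ fun E E' _ _ g =>
    haveI : IsAffine (pushObj hp E).obj.left.left := ‹IsAffine E.obj.left.left›
    haveI : IsAffine (pushObj hp E').obj.left.left := ‹IsAffine E'.obj.left.left›
    bc_of_isQuasicoherent N (pushMap hp g)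

/-- Base changes of affine objects along `p` are quasi-compact and quasi-separated. -/
def Bdd : Prop :=
  ∀ (E : EtOver X) [IsAffine E.obj.left.left],
    CompactSpace (EtOver.bcObj hp.1 E).obj.left.left ∧ QuasiSeparatedSpace (EtOver.bcObj hp.1 E).obj.left.left

theorem isQuasicoherent_pushBdd (hb : Bdd hp) (Q : ModEt Y) [Q.IsQuasicoherent] :
    ((pushModEt hp.1).obj Q).IsQuasicoherent :=
  isQuasicoherent_of_bc_affine _ fun E₀ _ _ _ g₀ =>
    haveI := (hb E₀).1
    haveI := (hb E₀).2
    bc_push hp.1 Q g₀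

theorem unit_app (N : ModEt X) (E : EtOver X) (a : sectModEt N E) :
    unpush hp.1 ((restr hp).obj N) E (sapp ((restrAdj hp hp.1).unit.app N) E a) =
      res N (coun hp hp.1 E) a := by
  rfl

theorem push_smul (Q : ModEt Y) (E : EtOver X) (b : Γ₀ E) (x : sectModEt ((pushModEt hp.1).obj Q) E) :
    unpush hp.1 Q E (b • x) = π₀ hp.1 E b • unpush hp.1 Q E x := rfl

variable {N : ModEt X} {Q : ModEt Y} (π : Q ⟶ (restr hp).obj N)

/-- The comparison. -/
def amalgDiff : N ⊞ (pushModEt hp.1).obj Q ⟶ (pushModEt hp.1).obj ((restr hp).obj N) :=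
  biprod.fst ≫ (restrAdj hp hp.1).unit.app N - biprod.snd ≫ (pushModEt hp.1).map π

/-- Sections of `N` with lifts to `Q`. -/
def amalg : ModEt X := kernel (amalgDiff hp π)

/-- The first projection. -/
def amalgFst : amalg hp π ⟶ N := kernel.ι _ ≫ biprod.fst

/-- The second projection. -/
def amalgSnd : amalg hp π ⟶ (pushModEt hp.1).obj Q := kernel.ι _ ≫ biprod.snd

/-- The second component of a section. -/
def second (E : EtOver X) (z : sectModEt (amalg hp π) E) : sectModEt Q (EtOver.bcObj hp.1 E) :=
  unpush hp.1 Q E (sapp (amalgSnd hp π) E z)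

theorem second_res {E E' : EtOver X} (g : E' ⟶ E) (z : sectModEt (amalg hp π) E) :
    second hp π E' (res (amalg hp π) g z) = res Q (EtOver.bcMap hp.1 g) (second hp π E z) :=
  (sapp_res (amalgSnd hp π) g z).trans rfl

theorem second_smul (E : EtOver X) (b : Γ₀ E) (z : sectModEt (amalg hp π) E) :
    second hp π E (b • z) = π₀ hp.1 E b • second hp π E z := by
  exact (congrArg (unpush hp.1 Q E) (map_smul (sapp (amalgSnd hp π) E) b z)).trans (push_smul hp Q E b _)

theorem second_add (E : EtOver X) (z z' : sectModEt (amalg hp π) E) :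
    second hp π E (z + z') = second hp π E z + second hp π E z' :=
  map_add (sapp (amalgSnd hp π) E) z z'

theorem amalg_condition (E : EtOver X) (z : sectModEt (amalg hp π) E) :
    sapp π (EtOver.bcObj hp.1 E) (second hp π E z) = res N (coun hp hp.1 E) (sapp (amalgFst hp π) E z) := by
  have h : sapp (amalgDiff hp π) E (sapp (kernel.ι (amalgDiff hp π)) E z) = 0 :=
    sapp_g_f (C := ShortComplex.mk _ _ (kernel.condition (amalgDiff hp π))) E z
  unfold amalgDiff at h
  rw [sapp_sub, sapp_comp, sapp_comp, sub_eq_zero] at h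
  refine Eq.symm ?_
  rw [← unit_app]
  exact congrArg (unpush hp.1 _ E) h

theorem amalg_ext {E : EtOver X} {z z' : sectModEt (amalg hp π) E}
    (h₁ : sapp (amalgFst hp π) E z = sapp (amalgFst hp π) E z') (h₂ : second hp π E z = second hp π E z') :
    z = z' := by
  refine injective_sapp_of_mono (kernel.ι (amalgDiff hp π)) E ?_
  have key : ∀ y : sectModEt (N ⊞ (pushModEt hp.1).obj Q) E,
      sapp biprod.fst E y = 0 → sapp biprod.snd E y = 0 → y = 0 := fun y e₁ e₂ => by
    rw [← sapp_id E y, ← biprod.total, sapp_add, sapp_comp, sapp_comp]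
    erw [e₁, e₂]
    simp
  refine sub_eq_zero.1 (key _ ?_ ?_)
  · refine (map_sub (sapp biprod.fst E) _ _).trans (sub_eq_zero.2 ?_)
    exact h₁
  · refine (map_sub (sapp biprod.snd E) _ _).trans (sub_eq_zero.2 ?_)
    exact h₂

theorem exists_amalg {E : EtOver X} (a : sectModEt N E) (x : sectModEt Q (EtOver.bcObj hp.1 E))
    (h : sapp π (EtOver.bcObj hp.1 E) x = res N (coun hp hp.1 E) a) :
    ∃ z : sectModEt (amalg hp π) E, sapp (amalgFst hp π) E z = a ∧ second hp π E z = x := by
  let x' : sectModEt ((pushModEt hp.1).obj Q) E := x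
  let y := sapp biprod.inl E a + sapp biprod.inr E x'
  have h₁ : sapp (biprod.fst : N ⊞ (pushModEt hp.1).obj Q ⟶ N) E y = a := by
    show sapp biprod.fst E (_ + _) = _
    rw [map_add, ← sapp_comp, ← sapp_comp, biprod.inl_fst, biprod.inr_fst, sapp_id]
    exact add_eq_left.2 rfl
  have h₂ : sapp (biprod.snd : N ⊞ (pushModEt hp.1).obj Q ⟶ _) E y = x' := by
    show sapp biprod.snd E (_ + _) = _
    rw [map_add, ← sapp_comp, ← sapp_comp, biprod.inl_snd, biprod.inr_snd, sapp_id]
    exact add_eq_right.2 rfl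
  have hy : sapp (amalgDiff hp π) E y = 0 := by
    unfold amalgDiff
    rw [sapp_sub, sapp_comp, sapp_comp, sub_eq_zero]
    erw [h₁, h₂]
    exact ((unit_app hp N E a).trans h.symm : _)
  obtain ⟨z, hz⟩ := ((exact_sapp (C := ShortComplex.mk _ _ (kernel.condition (amalgDiff hp π)))
    (ShortComplex.exact_of_f_is_kernel _ (kernelIsKernel _)) inferInstance E).2 y).1 hy
  refine ⟨z, ?_, ?_⟩
  · show sapp (kernel.ι _ ≫ biprod.fst) E z = a
    rw [sapp_comp]
    exact (congrArg _ hz).trans h₁
  · show sapp (kernel.ι _ ≫ biprod.snd) E z = x'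
    rw [sapp_comp]
    exact (congrArg _ hz).trans h₂

theorem isQuasicoherent_amalg [N.IsQuasicoherent] [Q.IsQuasicoherent] (hb : Bdd hp) :
    (amalg hp π).IsQuasicoherent := by
  haveI := isQuasicoherent_pushBdd hp hb Q
  haveI := isQuasicoherent_restr hp N
  haveI := isQuasicoherent_pushBdd hp hb ((restr hp).obj N)
  haveI := isQuasicoherent_biprod N ((pushModEt hp.1).obj Q)
  exact Groth.L23.QcClosure.isQuasicoherent_kernel (amalgDiff hp π)

end Groth.L09.EtSub
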