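import Groth.Agent.L09.ModEt.FiniteType
import Groth.Agent.L09.ModEt.PushQcoh

/-!
# Submodules of sections on affine objects and flat base change
-/

universe u

open CategoryTheory CategoryTheory.Limits AlgebraicGeometry Opposite AlgSp TensorProduct

set_option autoImplicit false
set_option linter.style.haveILetI false
set_option backward.isDefEq.respectTransparency false
set_option backward.isDefEq.respectTransparency.types false

noncomputable section

namespace Groth.L09.EtSub

open Groth.L09.ModEt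

variable {S : Scheme.{u}} {X : Sp S} (M : ModEt X)

/-- The submodule spanned by the restrictions of a submodule. -/
abbrev push {E E' : EtOver X} (g : E' ⟶ E) (P : Submodule (Γ₀ E) (sectModEt M E)) :
    Submodule (Γ₀ E') (sectModEt M E') := Submodule.span (Γ₀ E') (res M g '' (P : Set (sectModEt M E)))

theorem res_mem_push {E E' : EtOver X} (g : E' ⟶ E) {P : Submodule (Γ₀ E) (sectModEt M E)} {s : sectModEt M E}
    (hs : s ∈ P) : res M g s ∈ push M g P := Submodule.subset_span ⟨s, hs, rfl⟩

theorem res_span {E E' : EtOver X} (g : E' ⟶ E) {T : Set (sectModEt M E)} {s : sectModEt M E}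
    (hs : s ∈ Submodule.span (Γ₀ E) T) : res M g s ∈ Submodule.span (Γ₀ E') (res M g '' T) := by
  induction hs using Submodule.span_induction with
  | mem x hx => exact Submodule.subset_span ⟨x, hx, rfl⟩
  | zero => simp
  | add x y _ _ hx hy => rw [map_add]; exact add_mem hx hy
  | smul r x _ hx => rw [res_smul]; exact Submodule.smul_mem _ _ hx

theorem push_mono {E E' : EtOver X} (g : E' ⟶ E) {P Q : Submodule (Γ₀ E) (sectModEt M E)} (h : P ≤ Q) :
    push M g P ≤ push M g Q := Submodule.span_mono (Set.image_mono h)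

theorem push_span {E E' : EtOver X} (g : E' ⟶ E) (T : Set (sectModEt M E)) :
    push M g (Submodule.span (Γ₀ E) T) = Submodule.span (Γ₀ E') (res M g '' T) :=
  le_antisymm (Submodule.span_le.2 (by rintro _ ⟨s, hs, rfl⟩; exact res_span M g hs))
    (Submodule.span_mono (Set.image_mono Submodule.subset_span))

theorem push_comp {E E' E'' : EtOver X} (h : E'' ⟶ E') (g : E' ⟶ E) (P : Submodule (Γ₀ E) (sectModEt M E)) :
    push M (h ≫ g) P = push M h (push M g P) :=
  (congrArg (Submodule.span _) ((Set.image_congr fun s _ => res_comp M h g s :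
    res M (h ≫ g) '' (P : Set (sectModEt M E)) = (fun s => res M h (res M g s)) '' P).trans
      (Set.image_image (res M h) (res M g) _).symm)).trans (push_span M h _).symm

theorem push_id {E : EtOver X} (P : Submodule (Γ₀ E) (sectModEt M E)) : push M (𝟙 E) P = P := by
  rw [push, Set.image_congr (fun s _ => res_id M s), Set.image_id', Submodule.span_eq]

theorem push_fg {E E' : EtOver X} (g : E' ⟶ E) {P : Submodule (Γ₀ E) (sectModEt M E)} (hP : P.FG) :
    (push M g P).FG := by
  classical
  obtain ⟨T, rfl⟩ := hP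
  refine ⟨T.image (res M g), ?_⟩
  rw [push_span, Finset.coe_image]

/-- A pointwise family has a finite subfamily covering a quasi-compact object. -/
theorem exists_finite_sub {E : EtOver X} [CompactSpace E.obj.left.left] {ι : Type*} {V : ι → EtOver X}
    {c : ∀ i, V i ⟶ E} (hc : IsCover c) :
    ∃ (κ : Type u) (_ : Finite κ) (a : κ → ι), IsCover fun k => c (a k) := by
  choose i hi using hc
  haveI := fun x => EtOver.etale_left (c (i x))
  obtain ⟨t, ht⟩ := isCompact_univ.elim_finite_subcover (fun x : ↥E.obj.left.left => Set.range (c (i x)).hom.left.left)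
    (fun x => (c (i x)).hom.left.left.isOpenMap.isOpen_range) (fun x _ => Set.mem_iUnion.2 ⟨x, hi x⟩)
  refine ⟨t, inferInstance, fun k => i k, fun x => ?_⟩
  obtain ⟨k, hk, h⟩ := Set.mem_iUnion₂.1 (ht (Set.mem_univ x))
  exact ⟨⟨k, hk⟩, h⟩

variable [M.IsQuasicoherent]

/-- Membership in a submodule is local. -/
theorem mem_of_local {E : EtOver X} [IsAffine E.obj.left.left] (N : Submodule (Γ₀ E) (sectModEt M E))
    {s : sectModEt M E}
    (h : ∀ e : ↥E.obj.left.left, ∃ (V : EtOver X) (_ : IsAffine V.obj.left.left) (g : V ⟶ E),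
      e ∈ Set.range g.hom.left.left ∧ res M g s ∈ push M g N) : s ∈ N := by
  choose V hV g hg hs using h
  obtain ⟨κ, _, a, ha⟩ := exists_finite_sub (c := g) fun e => ⟨e, hg e⟩
  haveI := fun k => hV (a k)
  have := mem_span_of_cover M ha (I := (N : Set (sectModEt M E))) Subtype.val (m := s) fun k => by
    refine Submodule.span_mono ?_ (hs (a k))
    rintro _ ⟨x, hx, rfl⟩
    exact ⟨⟨x, hx⟩, rfl⟩
  rwa [Subtype.range_coe, Submodule.span_eq] at this

section Overlap

variable {E E' D : EtOver X} [IsAffine E.obj.left.left] [IsAffine E'.obj.left.left] [IsAffine D.obj.left.left]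
  (g : E' ⟶ E) (d : D ⟶ E)

/-- Sections on an object over another as a module over the functions of the base. -/
@[reducible] def secOver (M : ModEt X) {E D : EtOver X} (d : D ⟶ E) : Module (Γ₀ E) (sectModEt M D) :=
  Module.compHom _ (pb d)

/-- Sections on an object, extended along the base. -/
def θo :
    letI := (pb g).toAlgebra
    letI := secOver M d
    Γ₀ E' ⊗[Γ₀ E] sectModEt M D →+ sectModEt M (EtOver.pullbackObj g d) :=
  letI := (pb g).toAlgebra
  letI := secOver M d
  TensorProduct.liftAddHom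
    (AddMonoidHom.mk' (fun b => (DistribSMul.toAddMonoidHom (sectModEt M (EtOver.pullbackObj g d))
      (pb (EtOver.pullbackFst g d) b)).comp (res M (EtOver.pullbackSnd g d)))
      fun b b' => AddMonoidHom.ext fun m => by simp [map_add, add_smul])
    fun a b m => by
      show pb (EtOver.pullbackFst g d) (pb g a * b) • res M (EtOver.pullbackSnd g d) m =
        pb (EtOver.pullbackFst g d) b • res M (EtOver.pullbackSnd g d) (pb d a • m)
      rw [res_smul, smul_smul, map_mul, mul_comm, ← pb_comp, ← pb_comp, EtOver.pullback_condition]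

omit [M.IsQuasicoherent] [IsAffine E.obj.left.left] [IsAffine E'.obj.left.left] [IsAffine D.obj.left.left] in
theorem θo_tmul (b : Γ₀ E') (m : sectModEt M D) :
    letI := (pb g).toAlgebra
    letI := secOver M d
    θo M g d (b ⊗ₜ m) = pb (EtOver.pullbackFst g d) b • res M (EtOver.pullbackSnd g d) m := rfl

theorem eq_zero_of_θo_mem (P : Submodule (Γ₀ D) (sectModEt M D)) :
    letI := (pb g).toAlgebra
    letI := secOver M d
    ∀ {Q : Type (u + 1)} [AddCommGroup Q] [Module (Γ₀ E) Q] (f : sectModEt M D →ₗ[Γ₀ E] Q), (∀ x ∈ P, f x = 0) →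
      ∀ y : Γ₀ E' ⊗[Γ₀ E] sectModEt M D, θo M g d y ∈ push M (EtOver.pullbackSnd g d) P →
        f.lTensor (Γ₀ E') y = 0 := by
  letI := (pb g).toAlgebra
  letI := secOver M d
  intro Q _ _ f hf y hy
  haveI := isAffine_pullback g d
  let s := EtOver.pullbackSnd g d
  let p := EtOver.pullbackFst g d
  letI := (pb d).toAlgebra
  haveI : IsScalarTower (Γ₀ E) (Γ₀ D) (sectModEt M D) := ⟨fun a b m => mul_smul (pb d a) b m⟩
  letI := (pb p).toAlgebra
  letI := (pb s).toAlgebra
  letI : Algebra (Γ₀ E) (Γ₀ (EtOver.pullbackObj g d)) := ((pb p).comp (pb g)).toAlgebra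
  haveI : IsScalarTower (Γ₀ E) (Γ₀ E') (Γ₀ (EtOver.pullbackObj g d)) := IsScalarTower.of_algebraMap_eq fun r => rfl
  haveI : IsScalarTower (Γ₀ E) (Γ₀ D) (Γ₀ (EtOver.pullbackObj g d)) :=
    IsScalarTower.of_algebraMap_eq fun r => by
      show pb p (pb g r) = pb s (pb d r)
      rw [← pb_comp, ← pb_comp, EtOver.pullback_condition]
  haveI : Algebra.IsPushout (Γ₀ E) (Γ₀ E') (Γ₀ D) (Γ₀ (EtOver.pullbackObj g d)) :=
    CommRingCat.isPushout_iff_isPushout.1 (isPushout_pb g d)
  have hbij : Function.Bijective (θo M g d) :=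
    bijective_cancel (θo M g d) (θ M s) (bc_of_isQuasicoherent M s) fun b m => rfl
  let eP := Algebra.IsPushout.cancelBaseChange (Γ₀ E) (Γ₀ E') (Γ₀ D) (Γ₀ (EtOver.pullbackObj g d)) P
  have key : ∀ w : Γ₀ E' ⊗[Γ₀ E] P, θo M g d (((P.subtype).restrictScalars (Γ₀ E)).lTensor (Γ₀ E') w) =
      θ M s (P.subtype.lTensor (Γ₀ (EtOver.pullbackObj g d)) (eP.symm w)) := by
    intro w
    induction w using TensorProduct.induction_on with
    | zero => simp
    | tmul b m =>
      rw [Algebra.IsPushout.cancelBaseChange_symm_tmul, LinearMap.lTensor_tmul, LinearMap.lTensor_tmul, θ_tmul]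
      rfl
    | add a b ha hb => simp only [map_add, ha, hb]
  suffices h : ∀ z ∈ push M s P, ∃ w : Γ₀ E' ⊗[Γ₀ E] P,
      θo M g d (((P.subtype).restrictScalars (Γ₀ E)).lTensor (Γ₀ E') w) = z by
    obtain ⟨w, hw⟩ := h _ hy
    rw [← hbij.1 hw, ← LinearMap.comp_apply, ← LinearMap.lTensor_comp,
      show f.comp (P.subtype.restrictScalars (Γ₀ E)) = 0 from LinearMap.ext fun x => hf x.1 x.2,
      LinearMap.lTensor_zero, LinearMap.zero_apply]
  intro z hz
  rw [push, Submodule.mem_span_image_iff_exists_fun] at hz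
  obtain ⟨t, ht, c, rfl⟩ := hz
  refine ⟨eP (∑ a : ↥t, c a ⊗ₜ[Γ₀ D] ⟨a.1, ht a.2⟩), ?_⟩
  rw [key, LinearEquiv.symm_apply_apply, map_sum, map_sum]
  exact Finset.sum_congr rfl fun a _ => by rw [LinearMap.lTensor_tmul, θ_tmul]; rfl

end Overlap

/-- Sections satisfying finitely many conditions commute with affine base change. -/
theorem mem_push_kerSub {E E' : EtOver X} [IsAffine E.obj.left.left] [IsAffine E'.obj.left.left] (g : E' ⟶ E)
    {ι : Type*} [Finite ι] {D : ι → EtOver X} [∀ i, IsAffine (D i).obj.left.left] (d : ∀ i, D i ⟶ E)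
    (P : ∀ i, Submodule (Γ₀ (D i)) (sectModEt M (D i))) {z : sectModEt M E'}
    (hz : ∀ i, res M (EtOver.pullbackFst g (d i)) z ∈ push M (EtOver.pullbackSnd g (d i)) (P i)) :
    z ∈ Submodule.span (Γ₀ E') (res M g '' {s : sectModEt M E | ∀ i, res M (d i) s ∈ P i}) := by
  classical
  cases nonempty_fintype ι
  letI := (pb g).toAlgebra
  haveI : Module.Flat (Γ₀ E) (Γ₀ E') := flat_pb g
  letI := fun i => secOver M (d i)
  letI := fun i => (pb (d i)).toAlgebra
  haveI : ∀ i, IsScalarTower (Γ₀ E) (Γ₀ (D i)) (sectModEt M (D i)) := fun i =>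
    ⟨fun a b m => mul_smul (pb (d i) a) b m⟩
  obtain ⟨y, rfl⟩ := (bc_of_isQuasicoherent M g).2 z
  let r : ∀ i, sectModEt M E →ₗ[Γ₀ E] sectModEt M (D i) := fun i =>
    { toFun := res M (d i)
      map_add' := map_add _
      map_smul' := fun a m => res_smul M (d i) a m }
  let Φ : sectModEt M E →ₗ[Γ₀ E] Π i, sectModEt M (D i) ⧸ (P i).restrictScalars (Γ₀ E) :=
    LinearMap.pi fun i => ((P i).restrictScalars (Γ₀ E)).mkQ.comp (r i)
  have hr : ∀ i y, θo M g (d i) ((r i).lTensor (Γ₀ E') y) = res M (EtOver.pullbackFst g (d i)) (θ M g y) := by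
    intro i y
    induction y using TensorProduct.induction_on with
    | zero => simp
    | tmul b m =>
      rw [LinearMap.lTensor_tmul, θo_tmul, θ_tmul, res_smul]
      exact congrArg _ (res_congr M (EtOver.pullback_condition g (d i)).symm m)
    | add p q hp hq => simp only [map_add, hp, hq]
  have hpi : ∀ i y, TensorProduct.piRight (Γ₀ E) (Γ₀ E) (Γ₀ E') _ (Φ.lTensor (Γ₀ E') y) i =
      (((P i).restrictScalars (Γ₀ E)).mkQ.comp (r i)).lTensor (Γ₀ E') y := by
    intro i y
    induction y using TensorProduct.induction_on with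
    | zero => simp
    | tmul b m =>
      rw [LinearMap.lTensor_tmul, LinearMap.lTensor_tmul, TensorProduct.piRight_apply,
        TensorProduct.piRightHom_tmul]
      rfl
    | add p q hp hq => simp only [map_add, Pi.add_apply, hp, hq]
  have h0 : Φ.lTensor (Γ₀ E') y = 0 := by
    refine (TensorProduct.piRight (Γ₀ E) (Γ₀ E) (Γ₀ E') _).injective ?_
    rw [map_zero]
    funext i
    rw [hpi, LinearMap.lTensor_comp, LinearMap.comp_apply]
    exact eq_zero_of_θo_mem M g (d i) (P i) _ (fun x hx => (Submodule.Quotient.mk_eq_zero _).2 hx) _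
      ((hr i y).symm ▸ hz i)
  obtain ⟨k, rfl⟩ := (Module.Flat.lTensor_exact (Γ₀ E') (LinearMap.exact_subtype_ker_map Φ) y).1 h0
  clear hz h0
  induction k using TensorProduct.induction_on with
  | zero => simp
  | tmul b m =>
    rw [LinearMap.lTensor_tmul, θ_tmul]
    exact Submodule.smul_mem _ b (Submodule.subset_span ⟨m.1, fun i =>
      (Submodule.Quotient.mk_eq_zero _).1 (congrFun (LinearMap.mem_ker.1 m.2) i), rfl⟩)
  | add p q hp hq => rw [map_add, map_add]; exact add_mem hp hq

end Groth.L09.EtSub
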