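import Groth.Agent.L09.EtSub.FpKill
import Groth.Agent.L09.ModEt.Colim
import Mathlib.CategoryTheory.Limits.ConcreteCategory.Basic
import Mathlib.Algebra.Category.Grp.FilteredColimits

/-!
# Filtered colimits of quasi-coherent modules on affine objects
-/

universe u

open CategoryTheory CategoryTheory.Limits AlgebraicGeometry Opposite AlgSp

set_option autoImplicit false
set_option linter.style.haveILetI false
set_option backward.isDefEq.respectTransparency false
set_option backward.isDefEq.respectTransparency.types false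

noncomputable section

namespace Groth.L09.EtSub

open Groth.L09.ModEt

variable {S : Scheme.{u}} {X : Sp S} {J : Type (u + 1)} [SmallCategory J] [IsFiltered J]

/-- Affine sections of a filtered colimit come from stages. -/
theorem exists_stage (D : J ⥤ ModEt X) (hD : ∀ j, (D.obj j).IsQuasicoherent) (E : EtOver X) [IsAffine E.obj.left.left]
    (y : sectModEt (colimit D) E) : ∃ j x, sapp (colimit.ι D j) E x = y := by
  let F := SheafOfModules.forget.{u + 1} (OEtRing X)
  let D₀ : J ⥤ Pre X := D ⋙ F
  have hbc : BCP (colimit D₀) :=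
    bcp_of_isColimit (colimit.isColimit D₀) fun j A B _ _ g =>
      haveI := hD j
      bc_of_isQuasicoherent (D.obj j) g
  let η : colimit D₀ ⟶ (colimit D).val := colimit.post D F
  let L := PresheafOfModules.sheafification (R := OEtRing X) (𝟙 (OEtRing X).obj)
  let adj := PresheafOfModules.sheafificationAdjunction (R := OEtRing X) (𝟙 (OEtRing X).obj)
  let e : D ≅ D₀ ⋙ L := Functor.isoWhiskerLeft D (asIso adj.counit).symm
  let e' : L.obj (colimit D₀) ≅ colimit D := preservesColimitIso L D₀ ≪≫ (HasColimit.isoOfNatIso e).symm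
  let π : colimit D₀ ⟶ (colimit D).val := adj.unit.app (colimit D₀) ≫ e'.hom.val
  haveI : IsIso e'.hom.val := inferInstanceAs (IsIso (F.map e'.hom))
  haveI : Presheaf.IsLocallyInjective (etTop X) ((PresheafOfModules.toPresheaf _).map (adj.unit.app (colimit D₀))) :=
    inferInstanceAs (Presheaf.IsLocallyInjective (etTop X) (CategoryTheory.toSheafify (etTop X) (colimit D₀).presheaf))
  haveI : Presheaf.IsLocallySurjective (etTop X) ((PresheafOfModules.toPresheaf _).map (adj.unit.app (colimit D₀))) :=
    inferInstanceAs (Presheaf.IsLocallySurjective (etTop X) (CategoryTheory.toSheafify (etTop X) (colimit D₀).presheaf))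
  haveI : Presheaf.IsLocallyInjective (etTop X) ((PresheafOfModules.toPresheaf _).map π) := by
    rw [Functor.map_comp]; infer_instance
  haveI : Presheaf.IsLocallySurjective (etTop X) ((PresheafOfModules.toPresheaf _).map π) := by
    rw [Functor.map_comp]; infer_instance
  obtain ⟨n, rfl⟩ := (app_bijective π hbc E).2 y
  let G := PresheafOfModules.toPresheaf (OEtRing X).obj ⋙ (evaluation _ _).obj (op E)
  obtain ⟨j, x, hx⟩ := Concrete.isColimit_exists_rep (D₀ ⋙ G) (isColimitOfPreserves G (colimit.isColimit D₀)) n
  have hj : colimit.ι D₀ j ≫ π = (colimit.ι D j).val := by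
    have h1 : colimit.ι D₀ j ≫ π = adj.unit.app (D₀.obj j) ≫ (L.map (colimit.ι D₀ j)).val ≫ e'.hom.val := by
      show colimit.ι D₀ j ≫ adj.unit.app (colimit D₀) ≫ e'.hom.val = _
      rw [← Category.assoc]
      exact (congrArg (· ≫ e'.hom.val) (adj.unit.naturality (colimit.ι D₀ j))).trans (Category.assoc _ _ _)
    have h2 : L.map (colimit.ι D₀ j) ≫ e'.hom = adj.counit.app (D.obj j) ≫ colimit.ι D j := by
      simp [e', e, L, D₀, F]
    rw [h1]
    refine (congrArg (adj.unit.app (D₀.obj j) ≫ ·) (congrArg (fun f => f.val) h2)).trans ?_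
    show adj.unit.app (F.obj (D.obj j)) ≫ (adj.counit.app (D.obj j)).val ≫ (colimit.ι D j).val = _
    rw [← Category.assoc]
    exact (congrArg (· ≫ (colimit.ι D j).val) (adj.right_triangle_components (D.obj j))).trans (Category.id_comp _)
  refine ⟨j, x, ?_⟩
  exact (ConcreteCategory.congr_hom ((PresheafOfModules.evaluation (OEtRing X).obj (op E)).congr_map hj) x).symm.trans
    (congrArg (app π E) hx)

/-- A criterion for a cocone on a filtered diagram of quasi-coherent modules to be a colimit. -/
theorem nonempty_isColimit_of_affine (D : J ⥤ ModEt X) (hD : ∀ j, (D.obj j).IsQuasicoherent) (M : ModEt X)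
    (ι : D ⟶ (Functor.const J).obj M)
    (hsurj : ∀ (W : EtOver X) [IsAffine W.obj.left.left] (s : sectModEt M W), ∃ j x, sapp (ι.app j) W x = s)
    (hzero : ∀ (W : EtOver X) [IsAffine W.obj.left.left] (j : J) (x : sectModEt (D.obj j) W),
      sapp (ι.app j) W x = 0 → ∃ (k : J) (f : j ⟶ k), sapp (D.map f) W x = 0) :
    Nonempty (IsColimit (Cocone.mk M ι)) := by
  let κ := colimit.desc D (Cocone.mk M ι)
  have hκ : ∀ (W : EtOver X) j x, sapp κ W (sapp (colimit.ι D j) W x) = sapp (ι.app j) W x := fun W j x =>
    congrArg (fun f => sapp f W x) (colimit.ι_desc (Cocone.mk M ι) j)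
  haveI : IsIso κ := isIso_of_bijective_affine κ fun W hW => by
    haveI := hW
    refine ⟨(injective_iff_map_eq_zero _).2 fun y hy => ?_, fun s => ?_⟩
    · obtain ⟨j, x, rfl⟩ := exists_stage D hD W y
      rw [hκ] at hy
      obtain ⟨k, f, hf⟩ := hzero W j x hy
      refine (congrArg (fun g => sapp g W x) (colimit.w D f)).symm.trans ?_
      show sapp (colimit.ι D k) W (sapp (D.map f) W x) = 0
      rw [hf, map_zero]
    · obtain ⟨j, x, hx⟩ := hsurj W s
      exact ⟨_, (hκ W j x).trans hx⟩
  haveI : IsIso ((colimit.isColimit D).desc (Cocone.mk M ι)) := ‹IsIso κ›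
  exact ⟨(colimit.isColimit D).ofPointIso⟩

end Groth.L09.EtSub
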