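import Groth.Agent.L09.EtSub.SubObj
import Groth.Agent.L09.Pull.EtaleAdj
import Groth.Agent.L09.Pull.Qcoh
import Groth.Agent.L09.Filtration.Main

/-!
# Extending quasi-coherent submodules of finite type from open subspaces
-/

universe u

open CategoryTheory CategoryTheory.Limits AlgebraicGeometry Opposite AlgSp TopologicalSpace

set_option autoImplicit false
set_option linter.style.haveILetI false
set_option backward.isDefEq.respectTransparency false
set_option backward.isDefEq.respectTransparency.types false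

noncomputable section

namespace Groth.L09.EtSub

open Groth.L09.ModEt Groth.L09.EtMV Groth.L09.EtAlt Groth.L23.SubQcoh Groth.L09.Pull

variable {S : Scheme.{u}} {X U : Sp S} {j : U ⟶ X}

/-- An open immersion is etale. -/
theorem repWith_etale_of_open (hi : RepWith @IsOpenImmersion j) : RepWith @Etale j :=
  Groth.L23.repWith_mono (fun f (h : IsOpenImmersion f) => (inferInstance : Etale f)) hi

variable (hp : RepWith @Etale j)

/-- The region covered by a space etale over `X`. -/
def region : Opens (Points X) := ⨆ Z : EtOver U, img (pushObj hp Z) ⊤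

theorem inB_pushObj (Z : EtOver U) : InB (region hp) (pushObj hp Z) := fun z =>
  Opens.mem_iSup.2 ⟨Z, z, trivial, rfl⟩

theorem mem_range_coun (hrep : Representable j) {E : EtOver X} {e : E.obj.left.left}
    (he : Points.ofPt E.obj.hom e ∈ region hp) : e ∈ Set.range (coun hp hrep E).hom.left.left := by
  obtain ⟨Z, z, -, hz⟩ := Opens.mem_iSup.1 he
  obtain ⟨w, -, hw⟩ := Groth.L23.exists_point_of_isPullback (EtOver.isPullback_bcObj hrep E)
    (x := Points.ofPt Z.obj.hom z) (u := e) ((Points.map_ofPt _ _ _).trans hz)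
  exact ⟨w, hw⟩

variable (hi : RepWith @IsOpenImmersion j)

include hi in
theorem isIso_coun {E : EtOver X} (hE : InB (region hp) E) : IsIso (coun hp hi.1 E) := by
  haveI : IsOpenImmersion (hi.1.snd E.obj.hom).left := Groth.L23.repWith_snd hi _
  haveI : Surjective (hi.1.snd E.obj.hom).left := ⟨fun e => mem_range_coun hp hi.1 (hE e)⟩
  haveI : IsIso (hi.1.snd E.obj.hom).left := (isIso_iff_isOpenImmersion_and_surjective _).2 ⟨inferInstance, inferInstance⟩
  haveI : IsIso (hi.1.snd E.obj.hom) :=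
    haveI : IsIso ((Over.forget S).map (hi.1.snd E.obj.hom)) := ‹IsIso (hi.1.snd E.obj.hom).left›
    isIso_of_reflects_iso (hi.1.snd E.obj.hom) (Over.forget S)
  exact ⟨EtOver.homMk (inv (hi.1.snd E.obj.hom)) (by
      rw [Functor.map_inv, IsIso.inv_comp_eq]
      exact (EtOver.w (coun hp hi.1 E)).symm),
    EtOver.hom_ext _ _ (IsIso.hom_inv_id (hi.1.snd E.obj.hom)),
    EtOver.hom_ext _ _ (IsIso.inv_hom_id (hi.1.snd E.obj.hom))⟩

include hi in
theorem isAffine_bcObj {E : EtOver X} [IsAffine E.obj.left.left] (hE : InB (region hp) E) :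
    IsAffine (EtOver.bcObj hi.1 E).obj.left.left := by
  haveI := isIso_coun hp hi hE
  haveI : IsAffine ((EtOver.toScheme X).obj E) := ‹IsAffine E.obj.left.left›
  exact IsAffine.of_isIso ((EtOver.toScheme X).map (coun hp hi.1 E))

/-- The section of the projection. -/
def sec {E : EtOver X} (hE : InB (region hp) E) : E ⟶ pushObj hp (EtOver.bcObj hi.1 E) :=
  haveI := isIso_coun hp hi hE
  inv (coun hp hi.1 E)

theorem sec_coun {E : EtOver X} (hE : InB (region hp) E) : sec hp hi hE ≫ coun hp hi.1 E = 𝟙 E := by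
  haveI := isIso_coun hp hi hE
  exact IsIso.inv_hom_id (coun hp hi.1 E)

theorem coun_sec {E : EtOver X} (hE : InB (region hp) E) : coun hp hi.1 E ≫ sec hp hi hE = 𝟙 _ := by
  haveI := isIso_coun hp hi hE
  exact IsIso.hom_inv_id (coun hp hi.1 E)

theorem sec_nat {E E' : EtOver X} (g : E' ⟶ E) (hE : InB (region hp) E) :
    g ≫ sec hp hi hE = sec hp hi (hE.comp g) ≫ pushMap hp (EtOver.bcMap hi.1 g) := by
  haveI := isIso_coun hp hi hE
  rw [← cancel_mono (coun hp hi.1 E), Category.assoc, Category.assoc, sec_coun, Category.comp_id,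
    show pushMap hp (EtOver.bcMap hi.1 g) ≫ coun hp hi.1 E = coun hp hi.1 E' ≫ g from
      EtOver.hom_ext _ _ (EtOver.bcMap_snd hi.1 g),
    ← Category.assoc, sec_coun, Category.id_comp]

variable {hp} {F : ModEt X} (A : AffSub ((restr hp).obj F))

/-- A submodule of the restriction, seen on the original space. -/
abbrev up (Z : EtOver U) [IsAffine Z.obj.left.left] :
    Submodule (Γ₀ (pushObj hp Z)) (sectModEt F (pushObj hp Z)) := A.P Z

theorem push_up {Z Z' : EtOver U} [IsAffine Z.obj.left.left] [IsAffine Z'.obj.left.left] (g : Z' ⟶ Z) :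
    push F (pushMap hp g) (up A Z) = up A Z' :=
  le_antisymm (Submodule.span_le.2 (by rintro _ ⟨s, hs, rfl⟩; exact A.res_mem g hs))
    fun _ hz => A.mem_span g hz

/-- The submodule on an affine object over the region. -/
def regP (E : EtOver X) [IsAffine E.obj.left.left] (hE : InB (region hp) E) :
    Submodule (Γ₀ E) (sectModEt F E) :=
  haveI := isAffine_bcObj hp hi hE
  push F (sec hp hi hE) (up A (EtOver.bcObj hi.1 E))

theorem push_regP {E E' : EtOver X} [IsAffine E.obj.left.left] [IsAffine E'.obj.left.left] (g : E' ⟶ E)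
    (hE : InB (region hp) E) : push F g (regP hi A E hE) = regP hi A E' (hE.comp g) := by
  haveI := isAffine_bcObj hp hi hE
  haveI := isAffine_bcObj hp hi (hE.comp g)
  rw [regP, regP, ← push_comp, sec_nat, push_comp, push_up]

/-- The submodules over the region. -/
def regSub : RegSub F (region hp) where
  P E _ hE := regP hi A E hE
  res_mem {E E'} _ _ g hE {s} hs := push_regP hi A g hE ▸ res_mem_push F g hs
  mem_push {E E'} _ _ g hE {z} hz := (push_regP hi A g hE).symm ▸ hz

theorem regSub_fg (hA : ∀ (Z : EtOver U) [IsAffine Z.obj.left.left], (A.P Z).FG) : (regSub hi A).FG := by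
  intro E _ hE
  haveI := isAffine_bcObj hp hi hE
  exact push_fg F _ (hA _)

theorem regP_pushObj (Z : EtOver U) [IsAffine Z.obj.left.left]
    (hZ : InB (region hp) (pushObj hp Z)) :
    haveI : IsAffine (pushObj hp Z).obj.left.left := ‹IsAffine Z.obj.left.left›
    regP hi A (pushObj hp Z) hZ = up A Z := by
  haveI : IsAffine (pushObj hp Z).obj.left.left := ‹IsAffine Z.obj.left.left›
  haveI := isAffine_bcObj hp hi hZ
  have hd : pushMap hp (diag hp hi.1 Z) ≫ coun hp hi.1 (pushObj hp Z) = 𝟙 _ :=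
    EtOver.hom_ext _ _ (hi.1.lift_snd _ _ _)
  have hs : sec hp hi hZ = pushMap hp (diag hp hi.1 Z) := by
    haveI := isIso_coun hp hi hZ
    rw [← cancel_mono (coun hp hi.1 (pushObj hp Z)), sec_coun, hd]
  rw [regP, hs, push_up]

include hi in
theorem isCompact_preOpen_region [QuasiSeparatedSpace ↥S] (hqs : IsQuasiSeparatedSp X) (hU : IsQuasiCompactSp U)
    (V : EtOver X) [CompactSpace V.obj.left.left] :
    IsCompact (preOpen (region hp) V : Set V.obj.left.left) := by
  obtain ⟨U₀, φ, hU₀, hφ, hs⟩ := Groth.L09.Filtration.exists_affine_atlas hU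
  haveI := hU₀
  let W₀ : EtOver U := EtOver.mk φ hφ
  let E₀ : EtOver X := pushObj hp W₀
  haveI : CompactSpace E₀.obj.left.left := inferInstanceAs (CompactSpace U₀.left)
  haveI := compactSpace_prodObj hqs E₀ V
  let q := (EtOver.prodSnd E₀ V).hom.left.left
  suffices h : (preOpen (region hp) V : Set V.obj.left.left) = Set.range q by
    rw [h]
    exact isCompact_range q.continuous
  ext v
  constructor
  · intro hv
    obtain ⟨w, hw⟩ := mem_range_coun hp hi.1 (E := V) hv
    obtain ⟨u₀, hu₀⟩ := Groth.L23.surjective_ofPt hs (Points.ofPt (EtOver.bcObj hi.1 V).obj.hom w)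
    have h1 : Points.ofPt E₀.obj.hom u₀ = Points.ofPt V.obj.hom v := by
      show Points.ofPt (φ ≫ j) u₀ = _
      rw [← Points.map_ofPt, hu₀, Groth.L23.map_ofPt_of_isPullback (EtOver.isPullback_bcObj hi.1 V)]
      exact congrArg _ hw
    obtain ⟨W', -, g₁, g₂, w', hw₁, hw₂⟩ := exists_common (E₁ := E₀) (E₂ := V) u₀ v h1
    refine ⟨(pl g₁ g₂).hom.left.left w', ?_⟩
    exact (congrArg (fun m => m.hom.left.left w') (pl_snd g₁ g₂)).trans hw₂
  · rintro ⟨p, rfl⟩
    show Points.ofPt V.obj.hom _ ∈ region hp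
    rw [← ofPt_map, ofPt_map (EtOver.prodFst E₀ V) p]
    exact inB_pushObj hp W₀ _

variable [F.IsQuasicoherent]

include hi in
/-- Finitely generated submodules over the region extend. -/
theorem exists_extension [QuasiSeparatedSpace ↥S] (hX : IsAlgSpace X) (hqc : IsQuasiCompactSp X)
    (hqs : IsQuasiSeparatedSp X) (hU : IsQuasiCompactSp U)
    (hA : ∀ (Z : EtOver U) [IsAffine Z.obj.left.left], (A.P Z).FG) :
    ∃ B : AffSub F, (∀ (E : EtOver X) [IsAffine E.obj.left.left], (B.P E).FG) ∧
      ∀ (Z : EtOver U) [IsAffine Z.obj.left.left],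
        haveI : IsAffine (pushObj hp Z).obj.left.left := ‹IsAffine Z.obj.left.left›
        B.P (pushObj hp Z) = up A Z := by
  let C : Opens (Points X) → Prop := fun L => ∃ R : RegSub F (region hp ⊔ L), R.FG ∧
    ∀ (W : EtOver X) [IsAffine W.obj.left.left] (hW : InB (region hp) W),
      R.P W (hW.mono le_sup_left) = regP hi A W hW
  have bot : C ⊥ := by
    refine ⟨{ P := fun E _ hE => (regSub hi A).P E (hE.mono (sup_bot_eq _).le)
              res_mem := fun {E E'} _ _ g hE {s} hs => (regSub hi A).res_mem g _ hs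
              mem_push := fun {E E'} _ _ g hE {z} hz => (regSub hi A).mem_push g _ hz },
      fun E _ hE => regSub_fg hi A hA E _, fun W _ hW => rfl⟩
  obtain ⟨R, hR, hold⟩ := induction_affine hX hqc hqs C bot fun L' L V hV h hc ⟨R, hR, hold⟩ => by
    haveI := hV
    have h' : Sq (region hp ⊔ L') (region hp ⊔ L) V :=
      { le := sup_le_sup_left h.le _
        inB := h.inB.mono le_sup_right
        cover := fun x hx hx' => h.cover x (hx.resolve_left fun hm => hx' (Or.inl hm)) fun hm => hx' (Or.inr hm)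
        sep := fun W g₁ g₂ w hw => h.sep W g₁ g₂ w fun hm => hw (Or.inr hm) }
    have hc' : IsCompact (preOpen (region hp ⊔ L') V : Set V.obj.left.left) :=
      (isCompact_preOpen_region hi hqs hU V).union hc
    obtain ⟨R', hR', hold', -⟩ := exists_step hqs h' hc' R hR (E₀ := V) ∅ (fun _ _ _ _ s hs => absurd hs (Finset.notMem_empty s))
    exact ⟨R', hR', fun W _ hW => (hold' W (hW.mono le_sup_left)).trans (hold W hW)⟩
  refine ⟨{ P := fun E _ => R.P E (fun _ => Or.inr trivial)
            res_mem := fun {E E'} _ _ g {s} hs => R.res_mem g _ hs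
            mem_span := fun {E E'} _ _ g {z} hz => R.mem_push g _ hz }, fun E _ => hR E _, fun Z _ => ?_⟩
  haveI : IsAffine (pushObj hp Z).obj.left.left := ‹IsAffine Z.obj.left.left›
  exact (hold _ (inB_pushObj hp Z)).trans (regP_pushObj hi A Z _)

omit [F.IsQuasicoherent] in
/-- Two monomorphisms with the same affine sections have isomorphic sources. -/
theorem exists_iso_of_range {Y : Sp S} {N₁ N₂ M : ModEt Y} [M.IsQuasicoherent] [N₂.IsQuasicoherent]
    (a : N₁ ⟶ M) (b : N₂ ⟶ M) [Mono a] [Mono b]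
    (h : ∀ (E : EtOver Y) [IsAffine E.obj.left.left], Set.range (sapp a E) = Set.range (sapp b E)) :
    ∃ e : N₁ ≅ N₂, e.hom ≫ b = a := by
  let A := ofHom b
  have key : ∀ {N : ModEt Y} (c : N ⟶ M), Mono c →
      (∀ (E : EtOver Y) [IsAffine E.obj.left.left], Set.range (sapp c E) = Set.range (sapp b E)) →
      ∃ ψ : N ⟶ A.mod, IsIso ψ ∧ ψ ≫ A.ι = c := by
    intro N c hc h'
    obtain ⟨ψ, hψ⟩ := exists_lift A c fun E _ x => by
      show sapp c E x ∈ Set.range (sapp b E)
      rw [← h' E]
      exact ⟨x, rfl⟩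
    refine ⟨ψ, isIso_of_bijective_affine ψ fun E hE => ⟨fun x y hxy => ?_, fun y => ?_⟩, hψ⟩
    · refine injective_sapp_of_mono c E ?_
      rw [← hψ, sapp_comp, sapp_comp, hxy]
    · haveI := hE
      have hy : sapp A.ι E y ∈ Set.range (sapp c E) := by
        rw [h' E]
        exact (Set.ext_iff.1 (A.range_ι E) _).1 ⟨y, rfl⟩
      obtain ⟨x, hx⟩ := hy
      refine ⟨x, injective_sapp_of_mono A.ι E ?_⟩
      rw [← sapp_comp, hψ, hx]
  obtain ⟨ψ₁, h₁, e₁⟩ := key a inferInstance h
  obtain ⟨ψ₂, h₂, e₂⟩ := key b inferInstance fun _ _ => rfl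
  refine ⟨asIso ψ₁ ≪≫ (asIso ψ₂).symm, ?_⟩
  simp [← e₁, ← e₂]

include hi in
/-- Quasi-coherent submodules of finite type extend from quasi-compact open subspaces. -/
theorem exists_submodule_extending [QuasiSeparatedSpace ↥S] (hX : IsAlgSpace X) (hqc : IsQuasiCompactSp X)
    (hqs : IsQuasiSeparatedSp X) (hU : IsQuasiCompactSp U)
    [(SheafOfModules.pushforward.{u + 1} (bcRingHom hi.1)).IsRightAdjoint]
    (G : ModEt U) (g : G ⟶ (pullModEt hi.1).obj F) [Mono g] [G.IsQuasicoherent] [G.IsFiniteType] :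
    ∃ (G' : ModEt X) (g' : G' ⟶ F), Mono g' ∧ G'.IsQuasicoherent ∧ G'.IsFiniteType ∧
      ∃ e : (pullModEt hi.1).obj G' ≅ G, e.hom ≫ g = (pullModEt hi.1).map g' := by
  let hp := repWith_etale_of_open hi
  let ρ := pullIso hp hi.1
  haveI : ((restr hp).obj F).IsQuasicoherent :=
    (SheafOfModules.isQuasicoherent (OEtRing U)).prop_of_iso (ρ.app F) (isQuasicoherent_pullM hi.1 F hX)
  let g₁ : G ⟶ (restr hp).obj F := g ≫ ρ.hom.app F
  haveI : Mono g₁ := mono_comp _ _
  obtain ⟨B, hB, hBA⟩ := exists_extension (hp := hp) hi (ofHom g₁) hX hqc hqs hU fun Z _ => by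
    haveI := finite_sectModEt G Z
    exact Module.Finite.iff_fg.1 (Module.Finite.range _)
  haveI := B.isQuasicoherent
  haveI : Mono ((restr hp).map B.ι) := by
    haveI := preservesFiniteLimits_restr hp
    exact (restr hp).map_mono B.ι
  obtain ⟨e, he⟩ := exists_iso_of_range ((restr hp).map B.ι) g₁ fun Z _ => by
    haveI : IsAffine (pushObj hp Z).obj.left.left := ‹IsAffine Z.obj.left.left›
    refine ((B.range_ι (pushObj hp Z)).trans ?_)
    rw [hBA Z]
    rfl
  refine ⟨B.mod, B.ι, inferInstance, inferInstance, isFiniteType_mod B hB, ρ.app B.mod ≪≫ e, ?_⟩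
  rw [← cancel_mono (ρ.hom.app F), Category.assoc]
  show (ρ.hom.app B.mod ≫ e.hom) ≫ g₁ = _
  rw [Category.assoc, he]
  exact (ρ.hom.naturality B.ι).symm

end Groth.L09.EtSub
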