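import Groth.Agent.L09.EtSub.SubObj
import Groth.Agent.L23.QcohClosure
import Groth.Agent.L09.ModEt.Ext

/-!
# Global sections detect quasi-coherent modules when first cohomology vanishes
-/

universe u

open CategoryTheory CategoryTheory.Limits AlgebraicGeometry Opposite AlgSp TopologicalSpace CategoryTheory.Abelian

set_option autoImplicit false
set_option linter.style.haveILetI false
set_option backward.isDefEq.respectTransparency false
set_option backward.isDefEq.respectTransparency.types false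

noncomputable section

namespace Groth.L09.EtSub

open Groth.L09.ModEt Groth.L09.EtMV Groth.L09.EtCoh Groth.L09.Filtration Groth.L23.SubQcoh

variable {S : Scheme.{u}} {X : Sp S}

theorem epi_toAb {M N : ModEt X} (g : M ⟶ N) [Epi g] : Epi ((toAbEt X).map g) := ⟨fun {Z} a b hab => by
  refine Sheaf.hom_ext (NatTrans.ext (funext fun W => AddCommGrpCat.hom_ext (AddMonoidHom.ext fun t => ?_)))
  obtain ⟨R, hR, hm⟩ := exists_cover_range g W.unop t
  choose V _hV e he hw using exists_refinement hR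
  refine aeq_of_cover Z (c := e) (fun w => ⟨w, hw w⟩) fun w => ?_
  obtain ⟨m, hm'⟩ := hm (e w) (he w)
  refine ((app_res a (e w) t).symm).trans (Eq.trans ?_ (app_res b (e w) t))
  have h : (((toAbEt X).map g ≫ a).hom.app (op (V w))) (show ((toAbEt X).obj M).obj.obj (op (V w)) from m) =
      (((toAbEt X).map g ≫ b).hom.app (op (V w))) (show ((toAbEt X).obj M).obj.obj (op (V w)) from m) := by rw [hab]
  change a.hom.app _ (sapp g (V w) m) = b.hom.app _ (sapp g (V w) m) at h
  rw [hm'] at h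
  exact h⟩

theorem shortExact_toAb {T : ShortComplex (ModEt X)} (hT : T.ShortExact) : (T.map (toAbEt X)).ShortExact := by
  haveI := hT.mono_f
  haveI := hT.epi_g
  exact
    { exact := hT.exact.map_of_mono_of_preservesKernel (toAbEt X) hT.mono_f inferInstance
      mono_f := inferInstanceAs (Mono ((toAbEt X).map T.f))
      epi_g := epi_toAb T.g }

/-- Families of sections on all objects of a module. -/
abbrev GFam (M : ModEt X) : Type (u + 1) := Fam (⊤ : Opens (Points X)) ((toAbEt X).obj M).obj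

theorem GFam.nat' {M : ModEt X} (t : GFam M) {W W' : EtOver X} (g : W' ⟶ W) :
    res M g (t.val W fun _ => trivial) = t.val W' fun _ => trivial := t.nat g _

/-- Global families lift along short exact sequences with acyclic kernel. -/
theorem exists_lift_fam {T : ShortComplex (ModEt X)} (hT : T.ShortExact) (h : Subsingleton (HModEt X T.X₁ 1))
    (t : GFam T.X₃) : ∃ s : GFam T.X₂, ∀ W, sapp T.g W (s.val W fun _ => trivial) = t.val W fun _ => trivial := by
  let i := (presheafToSheaf (etTop X) AddCommGrpCat.{u + 1}).mapIso (zTopIso (X := X))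
  let k := (shBEquiv (⊤ : Opens (Points X)) ((toAbEt X).obj T.X₃)).symm t
  have hT' := shortExact_toAb hT
  haveI : Subsingleton (Ext.{u + 1} (shB (⊤ : Opens (Points X))) (T.map (toAbEt X)).X₁ 1) :=
    subsingleton_of_forall_eq 0 fun x => by
      haveI := h
      have h' : (Ext.mk₀ i.inv).comp ((Ext.mk₀ i.hom).comp x (zero_add _)) (zero_add _) = x := by
        rw [Ext.mk₀_comp_mk₀_assoc, Iso.inv_hom_id, Ext.mk₀_id_comp]
      have h0 : (Ext.mk₀ i.hom).comp x (zero_add _) = 0 := @Subsingleton.elim _ h _ _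
      rw [← h', h0, Ext.comp_zero]
  obtain ⟨y, hy⟩ := Ext.covariant_sequence_exact₃ _ hT' (Ext.mk₀ k : Ext.{u + 1} _ (T.map (toAbEt X)).X₃ 0)
    (n₁ := 1) (zero_add 1) (Subsingleton.elim _ _)
  obtain ⟨l, rfl⟩ := (Ext.mk₀_bijective _ _).2 y
  rw [Ext.mk₀_comp_mk₀] at hy
  have hl := (Ext.mk₀_bijective _ _).1 hy
  refine ⟨shBEquiv _ _ l, fun W => ?_⟩
  refine ((shBEquiv_comp (⊤ : Opens (Points X)) l ((toAbEt X).map T.g) W fun _ => trivial).symm).trans ?_
  exact congrArg (fun s : GFam T.X₃ => s.val W fun _ => trivial)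
    ((congrArg (shBEquiv _ _) hl).trans (Equiv.apply_symm_apply _ t))

theorem compactSpace_points (hqc : IsQuasiCompactSp X) : CompactSpace (Points X) := by
  obtain ⟨U, φ, hU, -, hs⟩ := exists_affine_atlas hqc
  haveI := hU
  exact ⟨by
    rw [← (Groth.L23.surjective_ofPt hs).range_eq]
    exact isCompact_range (Points.continuous_ofPt φ)⟩

theorem isMaximal_primeAtPt {V : EtOver X} [IsAffine V.obj.left.left] {v : V.obj.left.left}
    (hv : IsClosed ({v} : Set V.obj.left.left)) : (primeAtPt V.obj.left.left v).IsMaximal := by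
  have h : IsClosed (V.obj.left.left.isoSpec.hom '' {v}) :=
    V.obj.left.left.isoSpec.hom.homeomorph.isClosedMap _ hv
  rw [Set.image_singleton] at h
  exact (PrimeSpectrum.isClosed_singleton_iff_isMaximal _).1 h

theorem exists_pt_of_prime {W : EtOver X} [IsAffine W.obj.left.left] (P : Ideal (Γ₀ W)) [P.IsPrime] :
    ∃ w, primeAtPt W.obj.left.left w = P := by
  obtain ⟨w, hw⟩ := W.obj.left.left.isoSpec.hom.surjective ⟨P, inferInstance⟩
  exact ⟨w, congrArg PrimeSpectrum.asIdeal hw⟩

theorem comap_primeAtPt {V W : EtOver X} (g : W ⟶ V) (w : W.obj.left.left) :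
    Ideal.comap (pb g) (primeAtPt W.obj.left.left w) = primeAtPt V.obj.left.left (g.hom.left.left w) := by
  show Ideal.comap _ (W.obj.left.left.toSpecΓ w).asIdeal = (V.obj.left.left.toSpecΓ (g.hom.left.left w)).asIdeal
  rw [← Scheme.Hom.comp_apply, Scheme.toSpecΓ_naturality, Scheme.Hom.comp_apply]
  rfl

theorem eq_zero_of_local (M : ModEt X) {E : EtOver X} (s : sectModEt M E)
    (h : ∀ (W : EtOver X) [IsAffine W.obj.left.left] (g : W ⟶ E), res M g s = 0) : s = 0 := by
  choose W hW c hc _hr using fun e : E.obj.left.left => exists_affine_nhd E e ⊤ trivial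
  refine eq_of_cover M (c := c) (fun e => ⟨e, hc e⟩) fun e => ?_
  haveI := hW e
  rw [h (W e) (c e), map_zero]

theorem eq_bot_of_killed {M : ModEt X} (A : AffSub M) {V W : EtOver X} [IsAffine V.obj.left.left]
    [IsAffine W.obj.left.left] (k : W ⟶ V) {r : Γ₀ V} (hu : IsUnit (pb k r)) (hk : ∀ q ∈ A.P V, r • q = 0) :
    A.P W = ⊥ := by
  rw [eq_bot_iff]
  intro z hz
  obtain ⟨u, hu⟩ := hu.exists_left_inv
  have hz' := A.mem_span k hz
  clear hz
  have h0 : pb k r • z = 0 := by
    induction hz' using Submodule.span_induction with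
    | mem y hy =>
      obtain ⟨q, hq, rfl⟩ := hy
      rw [← res_smul, hk q hq, map_zero]
    | zero => rw [smul_zero]
    | add a b _ _ ha hb => rw [smul_add, ha, hb, add_zero]
    | smul a y _ hy => rw [smul_comm, hy, smul_zero]
  refine (Submodule.mem_bot (Γ₀ W)).2 ?_
  rw [← one_smul (Γ₀ W) z, ← hu, mul_smul, h0, smul_zero]

/-- A closed point with a square around it, inside a given nonempty closed set. -/
theorem exists_closed_point [QuasiSeparatedSpace ↥S] (hX : IsAlgSpace X) (hqc : IsQuasiCompactSp X)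
    (hqs : IsQuasiSeparatedSp X) {C : Set (Points X)} (hC : IsClosed C) (hne : C.Nonempty) :
    ∃ (x₀ : Points X) (hx₀ : IsClosed {x₀}) (V : EtOver X) (v : V.obj.left.left),
      x₀ ∈ C ∧ IsAffine V.obj.left.left ∧ Points.ofPt V.obj.hom v = x₀ ∧
      (∀ v', Points.ofPt V.obj.hom v' = x₀ → v' = v) ∧ Sq ⟨{x₀}ᶜ, hx₀.isOpen_compl⟩ ⊤ V := by
  haveI := compactSpace_points hqc
  obtain ⟨C₀, hsub, hne₀, hcl₀, hmin⟩ := hC.exists_minimal_nonempty_closed_subset hne
  obtain ⟨L', L, V, hV, hS, h', hL⟩ : ∃ (L' L : Opens (Points X)) (V : EtOver X),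
      IsAffine V.obj.left.left ∧ Sq L' L V ∧ (∀ x ∈ C₀, x ∉ L') ∧ ∃ x ∈ C₀, x ∈ L := by
    refine induction_affine hX hqc hqs
      (fun L₀ => (∃ x ∈ C₀, x ∈ L₀) → ∃ (L' L : Opens (Points X)) (V : EtOver X),
        IsAffine V.obj.left.left ∧ Sq L' L V ∧ (∀ x ∈ C₀, x ∉ L') ∧ ∃ x ∈ C₀, x ∈ L) ?_ ?_
      (hne₀.imp fun x hx => ⟨hx, trivial⟩)
    · rintro ⟨x, -, hx⟩
      exact hx.elim
    · intro L' L V hV hS _ ih hL
      by_cases h' : ∃ x ∈ C₀, x ∈ L'
      · exact ih h'
      · exact ⟨L', L, V, hV, hS, fun x hx hxL => h' ⟨x, hx, hxL⟩, hL⟩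
  haveI := hV
  obtain ⟨x, hxC, hxL⟩ := hL
  have hCL : ∀ y ∈ C₀, y ∈ L := fun y hy => by
    by_contra hyL
    exact ((hmin (C₀ ∩ (L : Set (Points X))ᶜ) Set.inter_subset_left ⟨y, hy, hyL⟩
      (hcl₀.inter L.isOpen.isClosed_compl)).ge hxC).2 hxL
  obtain ⟨v₀, hv₀⟩ := hS.cover x hxL (h' x hxC)
  obtain ⟨v, hvZ, hv⟩ : ∃ v ∈ Points.ofPt V.obj.hom ⁻¹' C₀, IsClosed ({v} : Set V.obj.left.left) :=
    (hcl₀.preimage (Points.continuous_ofPt V.obj.hom)).exists_closed_singleton
      ⟨v₀, show Points.ofPt V.obj.hom v₀ ∈ C₀ from hv₀.symm ▸ hxC⟩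
  let x₀ := Points.ofPt V.obj.hom v
  have huniq : ∀ v', Points.ofPt V.obj.hom v' = x₀ → v' = v := fun v' he =>
    eq_of_ofPt hS he (fun hm => h' x₀ hvZ (he ▸ hm))
  have hC₀ : C₀ = {x₀} := by
    let O : Opens (Points X) := img V ⟨{v}ᶜ, hv.isOpen_compl⟩
    have hx₀O : x₀ ∉ O := fun ⟨v', hv', he⟩ => hv' (huniq v' he)
    refine Set.Subset.antisymm (fun y hy => ?_) (Set.singleton_subset_iff.2 hvZ)
    have hyO : y ∉ O := fun hyO =>
      ((hmin (C₀ ∩ (O : Set (Points X))ᶜ) Set.inter_subset_left ⟨x₀, hvZ, hx₀O⟩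
        (hcl₀.inter O.isOpen.isClosed_compl)).ge hy).2 hyO
    obtain ⟨v', rfl⟩ := hS.cover y (hCL y hy) (h' y hy)
    by_cases he : v' = v
    · rw [he]; rfl
    · exact absurd ⟨v', he, rfl⟩ hyO
  refine ⟨x₀, hC₀ ▸ hcl₀, V, v, hsub hvZ, hV, rfl, huniq, le_top, fun _ => trivial,
    fun y _ hy => ⟨v, (not_not.1 hy).symm⟩, fun W g₁ g₂ w hw => hS.sep W g₁ g₂ w ?_⟩
  rw [not_not.1 hw]
  exact h' x₀ hvZ

/-- If first cohomology vanishes, a quasi-coherent module without global sections is zero. -/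
theorem eq_zero_of_gfam [QuasiSeparatedSpace ↥S] (hX : IsAlgSpace X) (hqc : IsQuasiCompactSp X)
    (hqs : IsQuasiSeparatedSp X)
    (h1 : ∀ M : ModEt X, M.IsQuasicoherent → Subsingleton (HModEt X M 1)) (M : ModEt X) [M.IsQuasicoherent]
    (hΓ : ∀ (t : GFam M) (W : EtOver X), t.val W (fun _ => trivial) = 0)
    {E : EtOver X} (s : sectModEt M E) : s = 0 := by
  classical
  refine eq_zero_of_local M s fun E₀ _ g₀ => ?_
  generalize res M g₀ s = s₀
  by_contra hs₀
  obtain ⟨A, hA, hsA⟩ := exists_affSub_fg M hX hqc hqs {s₀}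
  let O : Set (Points X) := ⋃ W : {W : EtOver X // ∃ h : IsAffine W.obj.left.left, @AffSub.P _ _ _ A W h = ⊥},
    Set.range (Points.ofPt W.1.obj.hom)
  have hO : IsOpen O := isOpen_iUnion fun W => (Groth.L23.isOpenMap_ofPt W.1.property).isOpen_range
  have hne : Oᶜ.Nonempty := by
    by_contra hall
    rw [Set.not_nonempty_iff_eq_empty, Set.compl_empty_iff] at hall
    refine hs₀ ?_
    have hmem : ∀ e : E₀.obj.left.left, ∃ (W : EtOver X) (c : W ⟶ E₀), e ∈ Set.range c.hom.left.left ∧
        res M c s₀ = 0 := fun e => by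
      obtain ⟨⟨W, hW, hbot⟩, w, hw⟩ := Set.mem_iUnion.1 (hall.symm ▸ Set.mem_univ (Points.ofPt E₀.obj.hom e) :
        Points.ofPt E₀.obj.hom e ∈ O)
      obtain ⟨W', hW', g₁, g₂, w', hw₁, -⟩ := exists_common e w hw.symm
      haveI := hW; haveI := hW'
      refine ⟨W', g₁, ⟨w', hw₁⟩, (Submodule.mem_bot (Γ₀ W')).1 ?_⟩
      have hz := A.mem_span g₂ (E := W) (A.res_mem g₁ (hsA s₀ (Finset.mem_singleton_self _)))
      refine Submodule.span_le.2 ?_ hz
      rintro _ ⟨y, hy, rfl⟩
      show res M g₂ y ∈ (⊥ : Submodule (Γ₀ W') (sectModEt M W'))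
      rw [(Submodule.mem_bot _).1 (hbot ▸ hy : y ∈ (⊥ : Submodule (Γ₀ W) (sectModEt M W))), map_zero]
      exact zero_mem _
    choose W c hc hz using hmem
    exact eq_of_cover M (c := c) (fun e => ⟨e, hc e⟩) fun e => (hz e).trans (map_zero _).symm
  obtain ⟨x₀, hx₀, V, v, hxC, hV, hvx, huniq, hS⟩ := exists_closed_point hX hqc hqs hO.isClosed_compl hne
  haveI := hV
  let L₀ : Opens (Points X) := ⟨{x₀}ᶜ, hx₀.isOpen_compl⟩
  have hvcl : IsClosed ({v} : Set V.obj.left.left) := by
    rw [show ({v} : Set V.obj.left.left) = Points.ofPt V.obj.hom ⁻¹' {x₀} from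
      Set.ext fun v' => ⟨fun h => h ▸ hvx, huniq v'⟩]
    exact hx₀.preimage (Points.continuous_ofPt _)
  let m := primeAtPt V.obj.left.left v
  haveI hm : m.IsMaximal := isMaximal_primeAtPt hvcl
  let R₀ : RegSub M L₀ :=
    { P := fun W _ _ => A.P W
      res_mem := fun g _ _ hs => A.res_mem g hs
      mem_push := fun g _ _ hz => A.mem_span g hz }
  let G : Submodule (Γ₀ V) (sectModEt M V) := m • A.P V
  have hG : ∀ (W : EtOver X) [IsAffine W.obj.left.left] (hW : InB L₀ W) (k : W ⟶ V), push M k G = R₀.P W hW := by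
    intro W _ hW k
    refine le_antisymm (Submodule.span_le.2 ?_) fun z hz => ?_
    · rintro _ ⟨t, ht, rfl⟩
      exact A.res_mem k (Submodule.smul_le_right ht)
    · have h1' : (1 : Γ₀ W) ∈ m.map (pb k) := by
        by_contra hne1
        obtain ⟨P, hP, hle⟩ := Ideal.exists_le_maximal (m.map (pb k))
          (fun htop => hne1 (by rw [htop]; exact Submodule.mem_top))
        haveI := hP.isPrime
        obtain ⟨w, hw⟩ := exists_pt_of_prime P
        have hkw : primeAtPt V.obj.left.left (k.hom.left.left w) = m := by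
          rw [← comap_primeAtPt, hw]
          exact (hm.eq_of_le (Ideal.comap_ne_top _ hP.ne_top) (Ideal.map_le_iff_le_comap.1 hle)).symm
        have hkv : k.hom.left.left w = v := V.obj.left.left.isoSpec.hom.homeomorph.injective
          (PrimeSpectrum.ext hkw)
        exact hW w (show Points.ofPt W.obj.hom w = x₀ by rw [ofPt_map k, hkv, hvx])
      have key : ∀ a ∈ m.map (pb k), ∀ y ∈ push M k (A.P V), a • y ∈ push M k G := by
        intro a ha y hy
        induction hy using Submodule.span_induction with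
        | zero => rw [smul_zero]; exact zero_mem _
        | add y y' _ _ hy hy' => rw [smul_add]; exact add_mem hy hy'
        | smul r y _ hy => rw [smul_comm]; exact Submodule.smul_mem _ _ hy
        | mem y hy =>
          obtain ⟨p, hp, rfl⟩ := hy
          induction ha using Submodule.span_induction with
          | zero => rw [zero_smul]; exact zero_mem _
          | add a a' _ _ ha ha' => rw [add_smul]; exact add_mem ha ha'
          | smul r a _ ha => rw [smul_eq_mul, mul_smul]; exact Submodule.smul_mem _ _ ha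
          | mem a ha =>
            obtain ⟨b, hb, rfl⟩ := ha
            rw [← res_smul]
            exact res_mem_push M k (Submodule.smul_mem_smul hb hp)
      simpa using key 1 h1' z (A.mem_span k hz)
  let B := (glue hS R₀ G hG).toAffSub
  haveI := A.isQuasicoherent
  haveI := B.isQuasicoherent
  have hBA : ∀ (W : EtOver X) [IsAffine W.obj.left.left] (z : sectModEt M W), z ∈ B.P W → z ∈ A.P W := by
    intro W _ z hz
    obtain ⟨κ, _, W', c, hc, hW'⟩ := exists_good_cover hS (E := W) fun _ => trivial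
    haveI := fun j => (hW' j).1
    refine A.mem_of_cover fun e => ?_
    obtain ⟨j, hj⟩ := hc e
    obtain ⟨Q, hQ⟩ := exists_val hS hG (hW' j).2
    refine ⟨W' j, inferInstance, c j, hj, ?_⟩
    have hzQ : res M (c j) z ∈ Q := hz _ (c j) Q hQ
    rcases hQ.good with hin | ⟨⟨k⟩⟩
    · rw [hQ.old hin] at hzQ
      exact hzQ
    · rw [hQ.hom k] at hzQ
      refine Submodule.span_le.2 ?_ hzQ
      rintro _ ⟨t, ht, rfl⟩
      exact A.res_mem k (Submodule.smul_le_right ht)
  obtain ⟨ψ, hψ⟩ := exists_lift A B.ι fun W _ x => hBA W _ (by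
    rw [← SetLike.mem_coe, ← B.range_ι]
    exact ⟨x, rfl⟩)
  haveI : Mono ψ := mono_of_mono_fac hψ
  haveI hQq : (cokernel ψ).IsQuasicoherent := Groth.L23.QcClosure.isQuasicoherent_cokernel ψ
  let T : ShortComplex (ModEt X) := ShortComplex.mk ψ (cokernel.π ψ) (cokernel.condition ψ)
  have hT : T.ShortExact :=
    { exact := ShortComplex.exact_of_g_is_cokernel _ (cokernelIsCokernel ψ) }
  haveI : T.X₁.IsQuasicoherent := B.isQuasicoherent
  -- Nakayama
  obtain ⟨p, hp, hpG⟩ : ∃ p ∈ A.P V, p ∉ G := by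
    by_contra hall
    simp only [not_exists, not_and, not_not] at hall
    obtain ⟨r, hr, hkill⟩ := Submodule.exists_sub_one_mem_and_smul_eq_zero_of_fg_of_le_smul m (A.P V) (hA V) hall
    let W := openObj V (V.obj.left.left.basicOpen r)
    haveI : IsAffine W.obj.left.left := (isAffineOpen_top V.obj.left.left).basicOpen r
    let k : W ⟶ V := openι V _
    have hunit : IsUnit (pb k r) := by
      by_contra hu
      obtain ⟨P, hP, hle⟩ := Ideal.exists_le_maximal (Ideal.span {pb k r}) (Ideal.span_singleton_eq_top.not.2 hu)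
      haveI := hP.isPrime
      obtain ⟨w, hw⟩ := exists_pt_of_prime P
      have h1 : r ∈ primeAtPt V.obj.left.left (k.hom.left.left w) := by
        rw [← comap_primeAtPt, hw]
        exact hle (Ideal.mem_span_singleton_self _)
      have h2 : k.hom.left.left w ∈ V.obj.left.left.basicOpen r := w.2
      rw [Scheme.mem_basicOpen_top] at h2
      exact (IsLocalRing.mem_maximalIdeal _).1 (Ideal.mem_comap.1 h1) h2
    have hzero : A.P W = ⊥ := eq_bot_of_killed A k hunit hkill
    have hv : v ∈ V.obj.left.left.basicOpen r := by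
      have hrm : r ∉ m := fun hrm => hm.ne_top ((Ideal.eq_top_iff_one _).2 (by simpa using m.sub_mem hrm hr))
      rw [Scheme.mem_basicOpen_top]
      by_contra hu
      exact hrm ((IsLocalRing.mem_maximalIdeal _).2 hu)
    exact hxC (Set.mem_iUnion.2 ⟨⟨W, inferInstance, hzero⟩, ⟨v, hv⟩, (ofPt_map k _).trans hvx⟩)
  obtain ⟨x, hx⟩ : p ∈ Set.range (A.ι.val.app (op V)).hom := by rw [A.range_ι]; exact hp
  have hq : sapp T.g V x ≠ 0 := fun h0 => by
    obtain ⟨y, hy⟩ := ((exact_sapp hT.exact hT.mono_f V).2 x).1 h0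
    refine hpG ?_
    rw [← glue_self hS R₀ G hG]
    show p ∈ (B.P V : Set (sectModEt M V))
    rw [← B.range_ι]
    refine ⟨y, ?_⟩
    rw [← hx]
    exact (congrArg (fun f => sapp f V y) hψ).symm.trans ((sapp_comp ψ A.ι V y).trans (congrArg _ hy))
  have hvan : ∀ (W : EtOver X) [IsAffine W.obj.left.left], InB L₀ W → ∀ z : sectModEt T.X₃ W, z = 0 := by
    intro W _ hW z
    obtain ⟨y, rfl⟩ := surjective_sapp hT W z
    have hy : sapp A.ι W y ∈ B.P W := by
      rw [show B.P W = A.P W from glue_old hS R₀ G hG hW, ← SetLike.mem_coe, ← A.range_ι]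
      exact ⟨y, rfl⟩
    rw [← SetLike.mem_coe, ← B.range_ι] at hy
    obtain ⟨y', hy'⟩ := hy
    rw [show y = sapp ψ W y' from injective_sapp_of_mono A.ι W
      (hy'.symm.trans ((congrArg (fun f => sapp f W y') hψ).symm.trans (sapp_comp ψ A.ι W y')))]
    exact sapp_g_f (C := T) W y'
  obtain ⟨t, -, htV⟩ := exists_fam hS (G := (toAbEt X).obj T.X₃)
    { val := fun W _ => (0 : sectModEt T.X₃ W), nat := fun g _ => map_zero (res T.X₃ g) } (sapp T.g V x)
    (eq_zero_of_local T.X₃ _ fun W _ g => hvan W ((inB_openObj L₀ V).comp g) _).symm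
  obtain ⟨t', ht'⟩ := exists_lift_fam hT (h1 _ B.isQuasicoherent) t
  let tM : GFam M :=
    { val := fun W _ => sapp A.ι W (t'.val W fun _ => trivial)
      nat := fun g _ => (sapp_res A.ι g _).symm.trans (congrArg _ (t'.nat' g)) }
  have ht0 : (t'.val V fun _ => trivial) = 0 :=
    injective_sapp_of_mono A.ι V ((hΓ tM V).trans (map_zero _).symm)
  exact hq (((htV.symm).trans (ht' V).symm).trans ((congrArg _ ht0).trans (map_zero _)))

end Groth.L09.EtSub
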