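import Groth.Agent.L09.EtSub.Colimits

/-!
# Filtered colimits of modules on affine objects
-/

universe u

open CategoryTheory CategoryTheory.Limits AlgebraicGeometry Opposite AlgSp

set_option autoImplicit false
set_option linter.style.haveILetI false
set_option backward.isDefEq.respectTransparency false
set_option backward.isDefEq.respectTransparency.types false

noncomputable section

namespace Groth.L09.EtSub

open Groth.L09.ModEt

variable {S : Scheme.{u}} {X : Sp S} {J : Type (u + 1)} [SmallCategory J] [IsFiltered J] (D : J ⥤ ModEt X)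

omit [IsFiltered J] in
theorem sapp_colimit_w {j k : J} (f : j ⟶ k) (E : EtOver X) (x : sectModEt (D.obj j) E) :
    sapp (colimit.ι D k) E (sapp (D.map f) E x) = sapp (colimit.ι D j) E x :=
  congrArg (fun g => sapp g E x) (colimit.w D f)

omit [IsFiltered J] in
theorem sapp_map_comp {j k l : J} (f : j ⟶ k) (g : k ⟶ l) (E : EtOver X) (x : sectModEt (D.obj j) E) :
    sapp (D.map g) E (sapp (D.map f) E x) = sapp (D.map (f ≫ g)) E x :=
  (congrArg (fun h => sapp h E x) (D.map_comp f g)).symm

/-- Finitely many stages out of an object have a common bound. -/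
theorem exists_common_map {ι : Type*} [Finite ι] {j : J} (k : ι → J) (f : ∀ i, j ⟶ k i) :
    ∃ (m : J) (g : j ⟶ m), ∀ i, ∃ p : k i ⟶ m, f i ≫ p = g := by
  have : ∀ (n : ℕ) (k : Fin n → J) (f : ∀ i, j ⟶ k i), ∃ (m : J) (g : j ⟶ m), ∀ i, ∃ p : k i ⟶ m, f i ≫ p = g := by
    intro n
    induction n with
    | zero => exact fun k f => ⟨j, 𝟙 j, fun i => i.elim0⟩
    | succ n ih =>
      intro k f
      obtain ⟨m, g, hg⟩ := ih (fun i => k i.succ) fun i => f _
      obtain ⟨m', p, q, hpq⟩ := IsFiltered.span (f 0) g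
      refine ⟨m', f 0 ≫ p, Fin.cases ⟨p, rfl⟩ fun i => ?_⟩
      obtain ⟨r, hr⟩ := hg i
      exact ⟨r ≫ q, by rw [← Category.assoc, hr, hpq]⟩
  obtain ⟨n, ⟨e⟩⟩ := Finite.exists_equiv_fin ι
  obtain ⟨m, g, hg⟩ := this n (fun a => k (e.symm a)) fun a => f (e.symm a)
  refine ⟨m, g, fun i => ?_⟩
  have h := hg (e i)
  generalize he : e.symm (e i) = i' at h
  rw [Equiv.symm_apply_apply] at he
  subst he
  exact h

/-- Sections of a colimit locally come from stages, and local vanishing is detected at stages. -/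
theorem colimit_local :
    (∀ (E : EtOver X) (y : sectModEt (colimit D) E), ∃ R ∈ etTop X E, ∀ ⦃W : EtOver X⦄ (g : W ⟶ E), R g →
      ∃ j x, sapp (colimit.ι D j) W x = res (colimit D) g y) ∧
    ∀ (E : EtOver X) (j : J) (x : sectModEt (D.obj j) E), sapp (colimit.ι D j) E x = 0 →
      ∃ R ∈ etTop X E, ∀ ⦃W : EtOver X⦄ (g : W ⟶ E), R g →
        ∃ (k : J) (f : j ⟶ k), sapp (D.map f) W (res (D.obj j) g x) = 0 := by
  let F := SheafOfModules.forget.{u + 1} (OEtRing X)
  let D₀ : J ⥤ Pre X := D ⋙ F
  let L := PresheafOfModules.sheafification (R := OEtRing X) (𝟙 (OEtRing X).obj)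
  let adj := PresheafOfModules.sheafificationAdjunction (R := OEtRing X) (𝟙 (OEtRing X).obj)
  let e : D ≅ D₀ ⋙ L := Functor.isoWhiskerLeft D (asIso adj.counit).symm
  let e' : L.obj (colimit D₀) ≅ colimit D := preservesColimitIso L D₀ ≪≫ (HasColimit.isoOfNatIso e).symm
  let π : colimit D₀ ⟶ (colimit D).val := adj.unit.app (colimit D₀) ≫ e'.hom.val
  haveI : IsIso e'.hom.val := inferInstanceAs (IsIso (F.map e'.hom))
  haveI : Presheaf.IsLocallyInjective (etTop X) ((PresheafOfModules.toPresheaf _).map (adj.unit.app (colimit D₀))) :=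
    inferInstanceAs (Presheaf.IsLocallyInjective (etTop X) (CategoryTheory.toSheafify (etTop X) (colimit D₀).presheaf))
  haveI : Presheaf.IsLocallySurjective (etTop X) ((PresheafOfModules.toPresheaf _).map (adj.unit.app (colimit D₀))) :=
    inferInstanceAs (Presheaf.IsLocallySurjective (etTop X) (CategoryTheory.toSheafify (etTop X) (colimit D₀).presheaf))
  haveI : Presheaf.IsLocallyInjective (etTop X) ((PresheafOfModules.toPresheaf _).map π) := by
    rw [Functor.map_comp]; infer_instance
  haveI : Presheaf.IsLocallySurjective (etTop X) ((PresheafOfModules.toPresheaf _).map π) := by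
    rw [Functor.map_comp]; infer_instance
  have hj : ∀ j, colimit.ι D₀ j ≫ π = (colimit.ι D j).val := fun j => by
    have h1 : colimit.ι D₀ j ≫ π = adj.unit.app (D₀.obj j) ≫ (L.map (colimit.ι D₀ j)).val ≫ e'.hom.val := by
      show colimit.ι D₀ j ≫ adj.unit.app (colimit D₀) ≫ e'.hom.val = _
      rw [← Category.assoc]
      exact (congrArg (· ≫ e'.hom.val) (adj.unit.naturality (colimit.ι D₀ j))).trans (Category.assoc _ _ _)
    have h2 : L.map (colimit.ι D₀ j) ≫ e'.hom = adj.counit.app (D.obj j) ≫ colimit.ι D j := by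
      simp [e', e, L, D₀, F]
    rw [h1]
    refine (congrArg (adj.unit.app (D₀.obj j) ≫ ·) (congrArg (fun f => f.val) h2)).trans ?_
    show adj.unit.app (F.obj (D.obj j)) ≫ (adj.counit.app (D.obj j)).val ≫ (colimit.ι D j).val = _
    rw [← Category.assoc]
    exact (congrArg (· ≫ (colimit.ι D j).val) (adj.right_triangle_components (D.obj j))).trans (Category.id_comp _)
  let G : EtOver X → (Pre X ⥤ AddCommGrpCat.{u + 1}) := fun E =>
    PresheafOfModules.toPresheaf (OEtRing X).obj ⋙ (evaluation _ _).obj (op E)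
  have hπι : ∀ (W : EtOver X) (j : J) (x : sectModEt (D.obj j) W),
      ((PresheafOfModules.toPresheaf _).map π).app (op W)
        ((G W).map (colimit.ι D₀ j) x) = sapp (colimit.ι D j) W x := fun W j x =>
    ConcreteCategory.congr_hom ((PresheafOfModules.evaluation (OEtRing X).obj (op W)).congr_map (hj j)) x
  refine ⟨fun E y => ⟨_, Presheaf.imageSieve_mem (etTop X) ((PresheafOfModules.toPresheaf _).map π) (U := op E) y,
    fun W g hg => ?_⟩, fun E j x hx => ⟨_, Presheaf.equalizerSieve_mem (etTop X)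
      ((PresheafOfModules.toPresheaf _).map π) (X := op E) ((G E).map (colimit.ι D₀ j) x) 0
      ((hπι E j x).trans (hx.trans (map_zero _).symm)), fun W g hg => ?_⟩⟩
  · obtain ⟨n, hn⟩ := hg
    obtain ⟨j, x, hx⟩ := Concrete.isColimit_exists_rep (D₀ ⋙ G W) (isColimitOfPreserves (G W) (colimit.isColimit D₀)) n
    refine ⟨j, x, (hπι W j x).symm.trans ?_⟩
    exact (congrArg (((PresheafOfModules.toPresheaf _).map π).app (op W)) hx).trans hn
  · have h0 : (G W).map (colimit.ι D₀ j) (res (D.obj j) g x) = 0 := by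
      refine Eq.trans ?_ (hg.trans (map_zero _))
      exact NatTrans.naturality_apply ((PresheafOfModules.toPresheaf _).map (colimit.ι D₀ j)) g.op x
    obtain ⟨k, f, f', hf⟩ := Concrete.isColimit_exists_of_rep_eq (D₀ ⋙ G W)
      (isColimitOfPreserves (G W) (colimit.isColimit D₀)) (i := j) (j := j) (res (D.obj j) g x) 0
      (h0.trans (map_zero _).symm)
    exact ⟨k, f, hf.trans (map_zero _)⟩

/-- Local vanishing at stages on affine objects. -/
theorem exists_zero_affine (E : EtOver X) [IsAffine E.obj.left.left] (j : J) (x : sectModEt (D.obj j) E)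
    (hx : sapp (colimit.ι D j) E x = 0) : ∃ (k : J) (f : j ⟶ k), sapp (D.map f) E x = 0 := by
  obtain ⟨R, hR, hd⟩ := (colimit_local D).2 E j x hx
  obtain ⟨ι, _, V, g, -, hg, hcov⟩ := exists_finite_cover hR
  choose k f hf using fun i => hd (g i) (hg i)
  obtain ⟨m, h, hh⟩ := exists_common_map k f
  refine ⟨m, h, eq_of_cover (D.obj m) hcov fun i => ?_⟩
  obtain ⟨p, hp⟩ := hh i
  rw [map_zero, ← sapp_res, ← hp, ← sapp_map_comp, hf, map_zero]

/-- Finitely many sections vanishing in the colimit vanish at a common stage. -/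
theorem exists_zero_finite {ι : Type*} [Finite ι] (E : ι → EtOver X) [∀ i, IsAffine (E i).obj.left.left] (j : J)
    (x : ∀ i, sectModEt (D.obj j) (E i)) (hx : ∀ i, sapp (colimit.ι D j) (E i) (x i) = 0) :
    ∃ (k : J) (f : j ⟶ k), ∀ i, sapp (D.map f) (E i) (x i) = 0 := by
  choose k f hf using fun i => exists_zero_affine D (E i) j (x i) (hx i)
  obtain ⟨m, h, hh⟩ := exists_common_map k f
  refine ⟨m, h, fun i => ?_⟩
  obtain ⟨p, hp⟩ := hh i
  rw [← hp, ← sapp_map_comp, hf, map_zero]

/-- Sections of a colimit on affine objects come from stages. -/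
theorem exists_stage_affine (E : EtOver X) [IsAffine E.obj.left.left] (y : sectModEt (colimit D) E) :
    ∃ j x, sapp (colimit.ι D j) E x = y := by
  classical
  obtain ⟨R, hR, hd⟩ := (colimit_local D).1 E y
  obtain ⟨ι, _, V, g, hV, hg, hcov⟩ := exists_finite_cover hR
  haveI := hV
  cases nonempty_fintype ι
  choose jj x hx using fun i => hd (g i) (hg i)
  obtain ⟨j, hj⟩ := IsFiltered.sup_objs_exists (Finset.univ.image jj)
  let z : ∀ i, sectModEt (D.obj j) (V i) := fun i =>
    sapp (D.map (hj (Finset.mem_image_of_mem jj (Finset.mem_univ i))).some) (V i) (x i)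
  have hz : ∀ i, sapp (colimit.ι D j) (V i) (z i) = res (colimit D) (g i) y := fun i =>
    (sapp_colimit_w D _ _ _).trans (hx i)
  haveI : ∀ p : ι × ι, IsAffine (EtOver.pullbackObj (g p.1) (g p.2)).obj.left.left := fun _ => isAffine_pullback _ _
  obtain ⟨k, f, hf⟩ := exists_zero_finite D (fun p : ι × ι => EtOver.pullbackObj (g p.1) (g p.2)) j
    (fun p => res (D.obj j) (EtOver.pullbackFst (g p.1) (g p.2)) (z p.1) -
      res (D.obj j) (EtOver.pullbackSnd (g p.1) (g p.2)) (z p.2)) fun p => by
    rw [map_sub, sapp_res, sapp_res, hz, hz, sub_eq_zero]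
    exact res_congr _ (EtOver.pullback_condition _ _) _
  obtain ⟨s, hs⟩ := exists_glue (D.obj k) hcov (fun i => sapp (D.map f) (V i) (z i)) fun a b => by
    refine (sapp_res (D.map f) _ (z a)).symm.trans (Eq.trans ?_ (sapp_res (D.map f) _ (z b)))
    exact sub_eq_zero.1 ((map_sub (sapp (D.map f) _) _ _).symm.trans (hf (a, b)))
  refine ⟨k, s, eq_of_cover (colimit D) hcov fun i => ?_⟩
  rw [← sapp_res, hs, sapp_colimit_w, hz]

end Groth.L09.EtSub
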