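import Groth.Agent.L09.EtSub.Gen
import Mathlib.RingTheory.Flat.EquationalCriterion
import Mathlib.RingTheory.Flat.FaithfullyFlat.Basic

/-!
# A chart is faithfully flat over the ring of global functions
-/

universe u

open CategoryTheory CategoryTheory.Limits AlgebraicGeometry Opposite AlgSp TopologicalSpace

set_option autoImplicit false
set_option linter.style.haveILetI false
set_option backward.isDefEq.respectTransparency false
set_option backward.isDefEq.respectTransparency.types false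

noncomputable section

namespace Groth.L09.EtSub

open Groth.L09.ModEt Groth.L09.EtMV Groth.L09.EtAlt

variable {S : Scheme.{u}} {X : Sp S} {E₀ : EtOver X} (hs : RepWith @Surjective E₀.obj.hom) (H : Hyp X)
  [IsAffine E₀.obj.left.left]
include hs H

theorem exists_comb_of_mem_span :
    ∀ (n : ℕ) (M : ModEt X) [M.IsQuasicoherent] (m : Fin n → sectModEt M E₀), (∀ i, m i ∈ GM E₀ M) →
      ∀ x ∈ GM E₀ M, x ∈ Submodule.span (Γ₀ E₀) (Set.range m) →
        ∃ a : Fin n → Γ₀ E₀, (∀ i, a i ∈ Aring E₀) ∧ ∑ i, a i • m i = x := by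
  intro n
  induction n with
  | zero =>
    intro M _ m _ x _ hx
    refine ⟨fun i => i.elim0, fun i => i.elim0, ?_⟩
    rw [Set.range_eq_empty, Submodule.span_empty, Submodule.mem_bot] at hx
    simp [hx]
  | succ n ih =>
    intro M _ m hm x hx hxm
    obtain ⟨Q, hQ, π, hπ0, hπlift, -⟩ := exists_quot hs H M (hm 0)
    obtain ⟨b, hb⟩ := (Submodule.mem_span_range_iff_exists_fun _).1 hxm
    obtain ⟨a, ha, hax⟩ := ih Q (fun i => sapp π E₀ (m i.succ))
      (fun i => by rw [mem_GM, ← sapp_res, ← sapp_res, mem_GM.1 (hm i.succ)]) (sapp π E₀ x)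
      (by rw [mem_GM, ← sapp_res, ← sapp_res, mem_GM.1 hx]) (by
        refine (Submodule.mem_span_range_iff_exists_fun _).2 ⟨b ∘ Fin.succ, ?_⟩
        rw [← hb, Fin.sum_univ_succ, map_add, hπ0, zero_add, map_sum]
        exact Finset.sum_congr rfl fun i _ => (map_smul _ _ _).symm)
    have hy : x - ∑ i, a i • m i.succ ∈ GM E₀ M :=
      sub_mem hx (AddSubgroup.sum_mem _ fun i _ => smul_mem_GM (ha i) (hm i.succ))
    obtain ⟨a₀, ha₀, hay⟩ := hπlift _ hy (by
      rw [map_sub, map_sum, sub_eq_zero, ← hax]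
      exact Finset.sum_congr rfl fun i _ => (map_smul _ _ _).symm)
    refine ⟨Fin.cons a₀ a, fun i => Fin.cases ?_ (fun i => ?_) i, ?_⟩
    · rw [Fin.sum_univ_succ]
      simp only [Fin.cons_zero, Fin.cons_succ]
      rw [hay]
      exact sub_add_cancel _ _
    · rw [Fin.cons_zero]
      exact ha₀
    · rw [Fin.cons_succ]
      exact ha i

theorem flat_Aring : Module.Flat (Aring E₀) (Γ₀ E₀) := by
  classical
  refine Module.Flat.iff_forall_isTrivialRelation.2 fun {l f x} hfx => ?_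
  let m : Fin l → sectModEt (unitModEt X) E₀ := fun i => up₀ (f i : Γ₀ E₀)
  have hm : ∀ i, m i ∈ GM E₀ (unitModEt X) := fun i => ULift.ext _ _ (f i).2
  haveI := isQuasicoherent_unit₀ (X := X)
  have hdn : ∀ k : Fin l → Γ₀ E₀, dn₀ E₀ (∑ i, k i • m i) = ∑ i, k i * (f i : Γ₀ E₀) := fun k => by
    rw [map_sum]
    exact Finset.sum_congr rfl fun i _ => (map_smul (dn₀ E₀) (k i) (m i)).trans rfl
  have h0 : ∑ i, x i • m i = 0 := by
    refine ULift.ext _ _ ((hdn x).trans ?_)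
    refine (Finset.sum_congr rfl fun i _ => ?_).trans hfx
    rw [mul_comm]
    rfl
  obtain ⟨c, hc, hcx⟩ := (Submodule.mem_span_iff_exists_finset_subset).1 (mem_span_rel hs H l _ m hm x h0)
  obtain ⟨T, hT, -, hcx⟩ : ∃ T : Finset (Fin l → Γ₀ E₀),
      (T : Set (Fin l → Γ₀ E₀)) ⊆ {k | (∀ i, k i ∈ Aring E₀) ∧ ∑ i, k i • m i = 0} ∧ True ∧
        ∑ k ∈ T, c k • k = x := ⟨hc, hcx.1, trivial, hcx.2.2⟩
  let e := T.equivFin
  refine ⟨T.card, fun i j => ⟨(e.symm j).1 i, (hT (e.symm j).2).1 i⟩, fun j => c (e.symm j).1, fun i => ?_, fun j => ?_⟩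
  · rw [← hcx, Finset.sum_apply, ← T.sum_coe_sort, ← e.symm.sum_comp]
    exact Finset.sum_congr rfl fun j _ => mul_comm (c (e.symm j).1) ((e.symm j).1 i)
  · refine Subtype.ext ?_
    have h2 := congrArg (dn₀ E₀) (hT (e.symm j).2).2
    rw [hdn, map_zero] at h2
    rw [AddSubmonoidClass.coe_finsetSum]
    refine (Finset.sum_congr rfl fun i _ => ?_).trans h2
    exact mul_comm _ _

theorem faithfullyFlat_Aring : Module.FaithfullyFlat (Aring E₀) (Γ₀ E₀) := by
  haveI := flat_Aring hs H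
  refine ⟨fun I hI htop => ?_⟩
  have h1 : (1 : Γ₀ E₀) ∈ I • (⊤ : Submodule (Aring E₀) (Γ₀ E₀)) := by rw [htop]; exact Submodule.mem_top
  have h2 : (1 : Γ₀ E₀) ∈ Submodule.span (Γ₀ E₀) ((fun a : Aring E₀ => (a : Γ₀ E₀)) '' (I : Set (Aring E₀))) := by
    refine Submodule.smul_induction_on h1 (fun a ha b _ => ?_) (fun a b ha hb => add_mem ha hb)
    rw [show a • b = b • (a : Γ₀ E₀) from mul_comm (a : Γ₀ E₀) b]
    exact Submodule.smul_mem _ b (Submodule.subset_span ⟨a, ha, rfl⟩)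
  classical
  obtain ⟨T, hT, hT1⟩ := Submodule.mem_span_finite_of_mem_span h2
  obtain ⟨T', hT', rfl⟩ := Finset.subset_set_image_iff.1 hT
  let e := T'.equivFin
  let m : Fin T'.card → sectModEt (unitModEt X) E₀ := fun i => up₀ ((e.symm i).1 : Γ₀ E₀)
  haveI := isQuasicoherent_unit₀ (X := X)
  have hone : up₀ (1 : Γ₀ E₀) ∈ GM E₀ (unitModEt X) := ULift.ext _ _ ((map_one _).trans (map_one _).symm)
  have hmem : up₀ (1 : Γ₀ E₀) ∈ Submodule.span (Γ₀ E₀) (Set.range m) := by
    let L : Γ₀ E₀ →ₗ[Γ₀ E₀] sectModEt (unitModEt X) E₀ :=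
      { toFun := up₀, map_add' := fun _ _ => rfl, map_smul' := fun _ _ => rfl }
    have h3 := Submodule.mem_map_of_mem (f := L) hT1
    rw [Submodule.map_span] at h3
    refine Submodule.span_mono ?_ h3
    rintro _ ⟨_, ha, rfl⟩
    obtain ⟨a, ha', rfl⟩ := Finset.mem_image.1 ha
    exact ⟨e ⟨a, ha'⟩, by simp [m, L]⟩
  obtain ⟨a, ha, hsum⟩ := exists_comb_of_mem_span hs H _ (unitModEt X) m
    (fun i => ULift.ext _ _ (e.symm i).1.2) _ hone hmem
  refine hI.ne_top ((Ideal.eq_top_iff_one I).2 ?_)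
  have h4 : (∑ i, (⟨a i, ha i⟩ : Aring E₀) * (e.symm i).1) = 1 := by
    refine Subtype.ext ?_
    have h5 := congrArg (dn₀ E₀) hsum
    rw [map_sum] at h5
    rw [AddSubmonoidClass.coe_finsetSum]
    refine (Finset.sum_congr rfl fun i _ => ?_).trans h5
    exact (map_smul (dn₀ E₀) (a i) (m i)).symm
  rw [← h4]
  exact I.sum_mem fun i _ => I.mul_mem_left _ (hT' (e.symm i).2)

end Groth.L09.EtSub
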