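import Groth.Agent.L09.EtSub.FpSquare

/-!
# Extending finite presentation across a square
-/

universe u

open CategoryTheory CategoryTheory.Limits AlgebraicGeometry Opposite AlgSp TopologicalSpace

set_option autoImplicit false
set_option linter.style.haveILetI false
set_option backward.isDefEq.respectTransparency false
set_option backward.isDefEq.respectTransparency.types false

noncomputable section

namespace Groth.L09.EtSub

open Groth.L09.ModEt Groth.L09.EtMV Groth.L09.EtAlt Groth.L09.Pull

variable {S : Scheme.{u}} {X : Sp S}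

theorem hom_ext_sapp {A B : ModEt X} {f g : A ⟶ B} (h : ∀ E x, sapp f E x = sapp g E x) : f = g :=
  SheafOfModules.hom_ext (PresheafOfModules.hom_ext fun E => ModuleCat.hom_ext (LinearMap.ext fun x => h E.unop x))

theorem toV_top (V : EtOver X) (Z : EtOver (spV V)) :
    pushMap (hpV V) (tY V Z) ≫ toV V (topV V) = toV V Z := toV_nat V (tY V Z)

theorem bdd_piece [QuasiSeparatedSpace ↥S] (hqs : IsQuasiSeparatedSp X) (V : EtOver X) [IsAffine V.obj.left.left] :
    Bdd (hpV V) := by
  intro E _
  haveI := compactSpace_bcObj V.obj.hom (hpV V).1 hqs E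
  haveI := isSeparated_bcObj V.obj.hom (hpV V).1 E
  exact ⟨inferInstance, inferInstance⟩

/-- Coordinates pulled back to an object over the piece. -/
def vZ {V : EtOver X} {n : ℕ} (Z : EtOver (spV V)) (f : Fin n → Γ₀ V) : Fin n → Γ₀ Z :=
  (vres (E := V) (E' := pushObj (hpV V) Z) (toV V Z) f : Fin n → Γ₀ (pushObj (hpV V) Z))

/-- Sections pulled back to an object over the piece. -/
def uZ {V : EtOver X} {N : ModEt X} {n : ℕ} (u : Fin n → sectModEt N V) (Z : EtOver (spV V)) :
    Fin n → sectModEt ((restr (hpV V)).obj N) Z := fun i => res N (toV V Z) (u i)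

theorem vZ_top {V : EtOver X} {n : ℕ} (Z : EtOver (spV V)) (f : Fin n → Γ₀ V) :
    vres (tY V Z) (vZ (topV V) f) = vZ Z f := by
  funext i
  unfold vZ
  show pb (pushMap (hpV V) (tY V Z)) (pb (toV V (topV V)) (f i)) = pb (toV V Z) (f i)
  rw [← pb_comp, toV_top]

/-- A presented module on the piece mapping to a given one. -/
theorem exists_presented {V : EtOver X} {N : ModEt X} [N.IsQuasicoherent] {n : ℕ} (u : Fin n → sectModEt N V)
    (C : Finset (Fin n → Γ₀ V)) (hC : ∀ x ∈ C, comb u x = 0) :
    ∃ (Q : ModEt (spV V)) (π : Q ⟶ (restr (hpV V)).obj N), Q.IsQuasicoherent ∧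
      ∀ (Z : EtOver (spV V)) [IsAffine Z.obj.left.left],
        Module.FinitePresentation (Γ₀ Z) (sectModEt Q Z) ∧
        (∀ i, ∃ y, sapp π Z y = res N (toV V Z) (u i)) ∧
        (Function.Surjective (comb (uZ u Z)) →
          (∀ y, comb (uZ u Z) y = 0 →
            y ∈ Submodule.span (Γ₀ Z) (vZ Z '' (C : Set (Fin n → Γ₀ V)))) →
          Function.Bijective (sapp π Z)) := by
  classical
  haveI hR := isQuasicoherent_restr (hpV V) N
  let u' : Fin n → sectModEt ((restr (hpV V)).obj N) (topV V) := fun i => res N (toV V (topV V)) (u i)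
  let F₀ : freeN (spV V) n ⟶ (restr (hpV V)).obj N := homFree (tY V) (fun f => tY_unique V f) u'
  let c : Fin C.card → Fin n → Γ₀ (topV V) := fun j => vZ (topV V) (C.equivFin.symm j).1
  let ρ : freeN (spV V) C.card ⟶ freeN (spV V) n :=
    homFree (tY V) (fun f => tY_unique V f) fun j => el (topV V) (c j)
  have hF₀ : ∀ (Z : EtOver (spV V)) x, sapp F₀ Z x = comb (uZ u Z) (cd Z x) := by
    intro Z x
    refine (sapp_homFree (tY V) (fun f => tY_unique V f) u' Z x).trans ?_
    refine congrArg (fun w => comb w (cd Z x)) (funext fun i => ?_)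
    show res N (pushMap (hpV V) (tY V Z)) (res N (toV V (topV V)) (u i)) = _
    rw [← res_comp, toV_top]
    rfl
  have hcomb : ∀ (Z : EtOver (spV V)) (x : sectModEt (freeN (spV V) C.card) Z), cd Z (sapp ρ Z x) =
      ∑ j, cd Z x j • vZ Z (C.equivFin.symm j).1 := by
    intro Z x
    rw [sapp_homFree, comb_apply, map_sum]
    refine Finset.sum_congr rfl fun j _ => ?_
    rw [map_smul, cd_res, cd_el]
    exact congrArg (cd Z x j • ·) (vZ_top Z _)
  have hkill : ∀ (Z : EtOver (spV V)) (g : Fin n → Γ₀ V), g ∈ C →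
      comb (uZ u Z) (vZ Z g) = 0 := fun Z g hg =>
    (res_comb (toV V Z) u g).symm.trans ((congrArg _ (hC g hg)).trans (map_zero _))
  have h0 : ρ ≫ F₀ = 0 := hom_ext_sapp fun Z x => by
    rw [sapp_comp, hF₀, hcomb, map_sum]
    refine Eq.trans (Finset.sum_eq_zero fun j _ => ?_) rfl
    exact (map_smul (comb (uZ u Z)) (cd Z x j) _).trans
      ((congrArg (cd Z x j • ·) (hkill Z _ (C.equivFin.symm j).2)).trans (smul_zero _))
  haveI := isQuasicoherent_freeN (X := spV V) n
  haveI := isQuasicoherent_freeN (X := spV V) C.card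
  haveI := Groth.L23.QcClosure.isQuasicoherent_cokernel ρ
  let q := cokernel.π ρ
  let π : cokernel ρ ⟶ (restr (hpV V)).obj N := cokernel.desc ρ F₀ h0
  have hπq : ∀ (Z : EtOver (spV V)) x, sapp π Z (sapp q Z x) =
      comb (uZ u Z) (cd Z x) := by
    intro Z x
    rw [← sapp_comp, cokernel.π_desc, hF₀]
  refine ⟨cokernel ρ, π, inferInstance, fun Z _ => ⟨?_, fun i => ?_, fun hsur hker => ?_⟩⟩
  · haveI : Module.FinitePresentation (Γ₀ Z) (Fin n → Γ₀ Z) := Module.finitePresentation_of_projective _ _
    haveI : Module.FinitePresentation (Γ₀ Z) (sectModEt (freeN (spV V) n) Z) :=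
      Module.FinitePresentation.of_equiv (cdEquiv (n := n) Z).symm
    haveI : Module.Finite (Γ₀ Z) (sectModEt (freeN (spV V) C.card) Z) :=
      Module.Finite.equiv (cdEquiv (n := C.card) Z).symm
    refine Module.finitePresentation_of_surjective (sapp q Z) (surjective_sapp_epi q _) ?_
    rw [show LinearMap.ker (sapp q Z) = LinearMap.range (sapp ρ Z) from ?_]
    · exact Module.Finite.iff_fg.1 (Module.Finite.range _)
    · refine le_antisymm (fun x hx => exists_preimage_of_cokernel ρ _ x hx) ?_
      rintro _ ⟨w, rfl⟩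
      exact sapp_g_f (C := ShortComplex.mk _ _ (cokernel.condition ρ)) Z w
  · refine ⟨sapp q Z (el Z (Pi.single i 1)), ?_⟩
    rw [hπq, cd_el]
    exact (Fintype.linearCombination_apply_single _ _ _ _).trans (one_smul _ _)
  · refine ⟨(injective_iff_map_eq_zero _).2 fun y hy => ?_, fun r => ?_⟩
    · obtain ⟨x, rfl⟩ := surjective_sapp_epi q Z y
      rw [hπq] at hy
      have key : ∀ f : Fin n → Γ₀ Z,
          f ∈ Submodule.span (Γ₀ Z) (vZ Z '' (C : Set (Fin n → Γ₀ V))) →
            el Z f ∈ LinearMap.range (sapp ρ Z) := by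
        intro f hf
        have hel : ∀ g : Fin n → Γ₀ Z, el Z g = (cdEquiv (n := n) Z).symm g := fun _ => rfl
        induction hf using Submodule.span_induction with
        | mem f hf =>
          obtain ⟨g, hg, rfl⟩ := hf
          refine ⟨el Z (Pi.single (C.equivFin ⟨g, hg⟩) 1), (el_cd Z _).symm.trans (congrArg (el Z) ?_)⟩
          rw [hcomb, cd_el, Finset.sum_eq_single (C.equivFin ⟨g, hg⟩)]
          · rw [Pi.single_eq_same, Equiv.symm_apply_apply]
            exact one_smul _ _
          · intro j _ hj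
            rw [Pi.single_eq_of_ne hj]
            exact zero_smul _ _
          · exact fun hn => absurd (Finset.mem_univ _) hn
        | zero => rw [hel, map_zero]; exact zero_mem _
        | add a b _ _ ha hb => rw [hel, map_add]; exact add_mem ha hb
        | smul r a _ ha => rw [hel, map_smul]; exact Submodule.smul_mem _ r ha
      obtain ⟨w, hw⟩ := key _ (hker _ hy)
      rw [← el_cd Z x, ← hw]
      exact sapp_g_f (C := ShortComplex.mk _ _ (cokernel.condition ρ)) Z w
    · obtain ⟨f, hf⟩ := hsur r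
      refine ⟨sapp q Z (el Z f), ?_⟩
      rw [hπq, cd_el]
      exact hf

/-- The key step: a module finitely presented over the smaller region is covered, isomorphically there, by one
finitely presented over the larger region, keeping given sections on the piece. -/
theorem exists_fp_across [QuasiSeparatedSpace ↥S] (hqs : IsQuasiSeparatedSp X) {L' L : Opens (Points X)} {V : EtOver X}
    [IsAffine V.obj.left.left] (h : Sq L' L V) (hc : IsCompact (preOpen L' V : Set V.obj.left.left))
    (N : ModEt X) [N.IsQuasicoherent]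
    (hfp : ∀ (E : EtOver X) [IsAffine E.obj.left.left], InB L' E → Module.FinitePresentation (Γ₀ E) (sectModEt N E))
    (T₀ : Finset (sectModEt N V)) :
    ∃ (N' : ModEt X) (ψ : N' ⟶ N), N'.IsQuasicoherent ∧
      (∀ (E : EtOver X) [IsAffine E.obj.left.left], InB L E →
        Module.FinitePresentation (Γ₀ E) (sectModEt N' E)) ∧
      (∀ (E : EtOver X), InB L' E → Function.Bijective (sapp ψ E)) ∧
      ∀ t ∈ T₀, t ∈ LinearMap.range (sapp ψ V) := by
  classical
  haveI : CompactSpace (openObj V (preOpen L' V)).obj.left.left := isCompact_iff_compactSpace.1 hc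
  obtain ⟨κ, _, D, d, hD, -, hd⟩ :=
    exists_finite_cover (E := openObj V (preOpen L' V)) ((etTop X).top_mem _)
  haveI := hD
  have hin : ∀ i, InB L' (D i) := fun i => (inB_openObj L' V).comp (d i)
  obtain ⟨n, u, hu₀, hu⟩ := exists_spanning N (fun i => d i ≫ openι V (preOpen L' V))
    (fun i => haveI := hfp (D i) (hin i); inferInstance) T₀
  obtain ⟨C, hC₁, hC₂⟩ := exists_relations N u (fun i => d i ≫ openι V (preOpen L' V)) hu fun i => hfp (D i) (hin i)
  obtain ⟨Q, π, hQ, hQZ⟩ := exists_presented u C hC₁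
  haveI := hQ
  have hπ : ∀ {Z : EtOver (spV V)}, InB L' (pushObj (hpV V) Z) → Function.Bijective (sapp π Z) := by
    refine fun hZ => bijective_of_affine π L' (fun Z hZa hZ => ?_) hZ
    haveI : IsAffine (pushObj (hpV V) Z).obj.left.left := hZa
    obtain ⟨hsur, hker⟩ := span_and_relations u d hd hu C hC₂ hZ (toV V Z)
    exact (hQZ Z).2.2 hsur hker
  refine ⟨amalg (hpV V) π, amalgFst (hpV V) π, isQuasicoherent_amalg (hpV V) π (bdd_piece hqs V), ?_, ?_, ?_⟩
  rotate_left 1
  · intro E hE
    have hbc : InB L' (pushObj (hpV V) (EtOver.bcObj (hpV V).1 E)) := hE.comp (coun (hpV V) (hpV V).1 E)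
    refine ⟨fun z z' hzz => amalg_ext (hpV V) π hzz ((hπ hbc).1 ?_), fun a => ?_⟩
    · rw [amalg_condition, amalg_condition, hzz]
    · obtain ⟨x, hx⟩ := (hπ hbc).2 (res N (coun (hpV V) (hpV V).1 E) a)
      obtain ⟨z, hz, -⟩ := exists_amalg (hpV V) π a x hx
      exact ⟨z, hz⟩
  · intro t ht
    obtain ⟨i, rfl⟩ := hu₀ t ht
    haveI : IsAffine (zObj V (𝟙 V)).obj.left.left := ‹IsAffine V.obj.left.left›
    obtain ⟨y, hy⟩ := (hQZ (zObj V (𝟙 V))).2.1 i
    obtain ⟨z, hz⟩ := (bijective_graphComp π h hπ (𝟙 V)).2 y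
    refine ⟨z, ?_⟩
    have h2 : res N (zIso V (𝟙 V)) (sapp (amalgFst (hpV V) π) V z) = res N (zIso V (𝟙 V)) (u i) := by
      rw [← sapp_graphComp, hz, hy, toV_zObj, Category.comp_id]
    have h3 := congrArg (res N (zInv V (𝟙 V))) h2
    rwa [← res_comp, ← res_comp, zInv_zIso, res_id, res_id] at h3
  · intro E _ hE
    haveI := isQuasicoherent_amalg (hpV V) π (bdd_piece hqs V)
    refine finitePresentation_of_cover _ fun e => ?_
    obtain ⟨κ', _, W, cW, hcW, hW⟩ := exists_good_cover h hE
    obtain ⟨j, hj⟩ := hcW e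
    haveI := (hW j).1
    refine ⟨W j, (hW j).1, cW j, hj, ?_⟩
    rcases (hW j).2 with hW' | ⟨⟨k⟩⟩
    · haveI := hfp (W j) hW'
      have hbij : Function.Bijective (sapp (amalgFst (hpV V) π) (W j)) := by
        have hbc : InB L' (pushObj (hpV V) (EtOver.bcObj (hpV V).1 (W j))) := hW'.comp (coun (hpV V) (hpV V).1 (W j))
        refine ⟨fun z z' hzz => amalg_ext (hpV V) π hzz ((hπ hbc).1 ?_), fun a => ?_⟩
        · rw [amalg_condition, amalg_condition, hzz]
        · obtain ⟨x, hx⟩ := (hπ hbc).2 (res N (coun (hpV V) (hpV V).1 (W j)) a)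
          obtain ⟨z, hz, -⟩ := exists_amalg (hpV V) π a x hx
          exact ⟨z, hz⟩
      exact Module.FinitePresentation.of_equiv (LinearEquiv.ofBijective _ hbij).symm
    · haveI : IsAffine (zObj V k).obj.left.left := (hW j).1
      haveI : Module.FinitePresentation (Γ₀ (W j)) (sectModEt Q (zObj V k)) := (hQZ (zObj V k)).1
      exact Module.FinitePresentation.of_equiv
        (LinearEquiv.ofBijective (graphComp π k) (bijective_graphComp π h hπ k)).symm

end Groth.L09.EtSub
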