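import Groth.Agent.L09.EtSub.FpSystem
import Mathlib.CategoryTheory.Filtered.Basic

/-!
# Quasi-coherent modules are filtered colimits of finitely presented modules
-/

universe u

open CategoryTheory CategoryTheory.Limits AlgebraicGeometry Opposite AlgSp

set_option autoImplicit false
set_option linter.style.haveILetI false
set_option backward.isDefEq.respectTransparency false
set_option backward.isDefEq.respectTransparency.types false

noncomputable section

namespace Groth.L09.EtSub

open Groth.L09.ModEt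

variable {S : Scheme.{u}} {X : Sp S}

instance {B M : ModEt X} {φ : B ⟶ M} : PartialOrder (KillData φ) where
  le a b := ∀ (E : EtOver X) [IsAffine E.obj.left.left], a.A.P E ≤ b.A.P E
  le_refl a E _ := le_rfl
  le_trans a b c h h' E _ := (h E).trans (h' E)
  le_antisymm a b h h' := KillData.ext' fun E _ => le_antisymm (h E) (h' E)

variable {B M : ModEt X} [B.IsQuasicoherent] (φ : B ⟶ M)

theorem KillData.le_id {a b : KillData φ} (h : a ≤ b) : a.Le (𝟙 B) b := fun E _ x hx => h E hx

/-- The quotients by relations, as a diagram. -/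
def killDiagram : KillData φ ⥤ ModEt X where
  obj a := a.stage
  map h := KillData.map (𝟙 B) (KillData.le_id φ (leOfHom h))
  map_id a := by
    rw [← cancel_epi (cokernel.π a.A.ι), cokernel.π_desc, Category.id_comp]
    exact (Category.comp_id _).symm
  map_comp {a b c} f g := by
    rw [← cancel_epi (cokernel.π a.A.ι), cokernel.π_desc, cokernel.π_desc_assoc, Category.assoc, cokernel.π_desc]
    simp

theorem exists_directed_fp [M.IsQuasicoherent] [QuasiSeparatedSpace ↥S] (hX : IsAlgSpace X)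
    (hqc : IsQuasiCompactSp X) (hqs : IsQuasiSeparatedSp X)
    (hB : ∀ (E : EtOver X) [IsAffine E.obj.left.left], Module.FinitePresentation (Γ₀ E) (sectModEt B E))
    (hs : ∀ (W : EtOver X) [IsAffine W.obj.left.left], Function.Surjective (sapp φ W)) :
    ∃ (J : Type (u + 1)) (_ : PartialOrder J) (_ : IsDirected J (· ≤ ·)) (_ : Nonempty J)
      (D : J ⥤ ModEt X) (ι : D ⟶ (Functor.const J).obj M),
      Nonempty (IsColimit (Cocone.mk M ι)) ∧ (∀ j, (D.obj j).IsFinitePresentation) ∧
        ∀ (j j' : J) (h : j ⟶ j'), Epi (D.map h) := by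
  let ι : killDiagram φ ⟶ (Functor.const (KillData φ)).obj M :=
    { app := fun a => a.desc
      naturality := fun a b h =>
        (KillData.map_desc (𝟙 B) (Category.id_comp φ) (KillData.le_id φ (leOfHom h))).trans (Category.comp_id _).symm }
  haveI : Nonempty (KillData φ) := ⟨KillData.none⟩
  haveI hdir : IsDirected (KillData φ) (· ≤ ·) := ⟨fun a b => by
    obtain ⟨c, h, h'⟩ := KillData.exists_sup (𝟙 B) (φ' := φ) (Category.id_comp φ) a b
    exact ⟨c, fun E _ x hx => h E x hx, h'⟩⟩
  haveI : IsFiltered (KillData φ) := isFiltered_of_directed_le_nonempty _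
  refine ⟨KillData φ, inferInstance, hdir, inferInstance, killDiagram φ, ι, ?_,
    fun a => a.isFinitePresentation_stage hB, fun a b h => ?_⟩
  · refine nonempty_isColimit_of_affine _ (fun a => a.isQuasicoherent_stage) M ι (fun W _ s => ?_)
      (fun W _ a x hx => ?_)
    · obtain ⟨y, hy⟩ := hs W s
      refine ⟨KillData.none, sapp (cokernel.π _) W y, ?_⟩
      exact (sapp_comp _ _ W y).symm.trans ((congrArg (fun f => sapp f W y) (cokernel.π_desc _ _ _)).trans hy)
    · obtain ⟨b, h, hb⟩ := a.exists_kill hX hqc hqs x hx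
      exact ⟨b, homOfLE (fun E _ y hy => h E y hy), hb⟩
  · haveI : Epi (𝟙 B ≫ cokernel.π b.A.ι) := inferInstance
    exact epi_of_epi_fac (cokernel.π_desc a.A.ι (𝟙 B ≫ cokernel.π b.A.ι)
      (KillData.map_zero_of_le (𝟙 B) (KillData.le_id φ (leOfHom h))))

section System

variable {M : ModEt X} {ι₀ : Type (u + 1)} (P : ι₀ → ModEt X) (ψ : ∀ i, P i ⟶ M)

/-- A finite sum of the given modules. -/
abbrev fsum (F : Finset ι₀) : ModEt X := ⨁ fun i : {i // i ∈ F} => P i.1

/-- Its map to the module. -/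
abbrev fmap (F : Finset ι₀) : fsum P F ⟶ M := biproduct.desc fun i => ψ i.1

/-- The inclusion of sums. -/
abbrev fincl {F F' : Finset ι₀} (h : F ⊆ F') : fsum P F ⟶ fsum P F' :=
  biproduct.desc fun i => biproduct.ι (fun i : {i // i ∈ F'} => P i.1) ⟨i.1, h i.2⟩

theorem fincl_fmap {F F' : Finset ι₀} (h : F ⊆ F') : fincl P h ≫ fmap P ψ F' = fmap P ψ F :=
  biproduct.hom_ext' _ _ fun i => by simp

theorem fincl_comp {F F' F'' : Finset ι₀} (h : F ⊆ F') (h' : F' ⊆ F'') :
    fincl P h ≫ fincl P h' = fincl P (h.trans h') :=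
  biproduct.hom_ext' _ _ fun i => by simp

theorem fincl_refl (F : Finset ι₀) : fincl P (Finset.Subset.refl F) = 𝟙 (fsum P F) :=
  biproduct.hom_ext' _ _ fun i => by simp

/-- Stages: finite sums with relations. -/
def Stg : Type (u + 1) := Σ F : Finset ι₀, KillData (fmap P ψ F)

variable [hP : Fact (∀ i, (P i).IsQuasicoherent)]

instance (F : Finset ι₀) : (fsum P F).IsQuasicoherent := isQuasicoherent_biproduct _ fun i => hP.out i.1

instance : Preorder (Stg P ψ) where
  le a b := ∃ h : a.1 ⊆ b.1, a.2.Le (fincl P h) b.2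
  le_refl a := ⟨Finset.Subset.refl _, fun E _ x hx => by rw [fincl_refl]; exact hx⟩
  le_trans a b c := fun ⟨h, ha⟩ ⟨h', hb⟩ => ⟨h.trans h', fun E _ x hx => by
    rw [← fincl_comp P h h', sapp_comp]
    exact hb E _ (ha E x hx)⟩

theorem Stg.le_sub {a b : Stg P ψ} (h : a ≤ b) : a.1 ⊆ b.1 := h.fst

theorem Stg.le_map {a b : Stg P ψ} (h : a ≤ b) : a.2.Le (fincl P (Stg.le_sub P ψ h)) b.2 := h.snd

/-- The diagram of stages. -/
def stgDiagram : Stg P ψ ⥤ ModEt X where
  obj a := a.2.stage
  map {a b} h := KillData.map (fincl P (Stg.le_sub P ψ (leOfHom h))) (Stg.le_map P ψ (leOfHom h))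
  map_id a := by
    rw [← cancel_epi (cokernel.π a.2.A.ι), cokernel.π_desc]
    rw [fincl_refl, Category.id_comp]
    exact (Category.comp_id _).symm
  map_comp {a b c} f g := by
    rw [← cancel_epi (cokernel.π a.2.A.ι), cokernel.π_desc, cokernel.π_desc_assoc, Category.assoc, cokernel.π_desc,
      ← Category.assoc, fincl_comp]

theorem exists_filtered_fp [M.IsQuasicoherent] [QuasiSeparatedSpace ↥S] (hX : IsAlgSpace X)
    (hqc : IsQuasiCompactSp X) (hqs : IsQuasiSeparatedSp X) (hfp : ∀ i, (P i).IsFinitePresentation)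
    (hs : ∀ (W : EtOver X) [IsAffine W.obj.left.left] (s : sectModEt M W),
      ∃ i, s ∈ LinearMap.range (sapp (ψ i) W)) :
    ∃ (J : Type (u + 1)) (_ : SmallCategory J) (_ : IsFiltered J) (D : J ⥤ ModEt X)
      (ι : D ⟶ (Functor.const J).obj M),
      (∀ j, (D.obj j).IsFinitePresentation) ∧ Nonempty (IsColimit (Cocone.mk M ι)) := by
  classical
  let ι : stgDiagram P ψ ⟶ (Functor.const (Stg P ψ)).obj M :=
    { app := fun a => a.2.desc
      naturality := fun a b h =>
        (KillData.map_desc _ (fincl_fmap P ψ _) (Stg.le_map P ψ (leOfHom h))).trans (Category.comp_id _).symm }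
  haveI : Nonempty (Stg P ψ) := ⟨⟨∅, KillData.none⟩⟩
  haveI : IsDirected (Stg P ψ) (· ≤ ·) := ⟨fun a b => by
    obtain ⟨c, hc, -⟩ := KillData.exists_sup (fincl P (Finset.subset_union_left (s₂ := b.1)))
      (φ' := fmap P ψ (a.1 ∪ b.1)) (fincl_fmap P ψ _) a.2 KillData.none
    obtain ⟨d, hd, hd'⟩ := KillData.exists_sup (fincl P (Finset.subset_union_right (s₁ := a.1)))
      (φ' := fmap P ψ (a.1 ∪ b.1)) (fincl_fmap P ψ _) b.2 c
    exact ⟨⟨a.1 ∪ b.1, d⟩, ⟨Finset.subset_union_left, fun E _ x hx => hd' E (hc E x hx)⟩,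
      ⟨Finset.subset_union_right, hd⟩⟩⟩
  haveI : IsFiltered (Stg P ψ) := isFiltered_of_directed_le_nonempty _
  refine ⟨Stg P ψ, inferInstance, inferInstance, stgDiagram P ψ, ι, fun a => ?_, ?_⟩
  · exact a.2.isFinitePresentation_stage fun E _ => finitePresentation_biproduct _ E fun i =>
      haveI := hfp i.1
      Groth.L23.FP.finitePresentation_sectModEt (P i.1) E
  refine nonempty_isColimit_of_affine _ (fun a => a.2.isQuasicoherent_stage) M ι (fun W _ s => ?_)
    (fun W _ a x hx => ?_)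
  · obtain ⟨i, y, hy⟩ := hs W s
    let F : Finset ι₀ := {i}
    let i' : {j // j ∈ F} := ⟨i, Finset.mem_singleton_self i⟩
    refine ⟨⟨F, KillData.none⟩,
      sapp (cokernel.π _) W (sapp (biproduct.ι (fun j : {j // j ∈ F} => P j.1) i') W y), ?_⟩
    refine (sapp_comp _ _ W _).symm.trans ?_
    refine (congrArg (fun f => sapp f W _) (cokernel.π_desc _ _ _)).trans ?_
    rw [← sapp_comp, biproduct.ι_desc]
    exact hy
  · obtain ⟨b, h, hb⟩ := a.2.exists_kill hX hqc hqs x hx
    have hle : a.2.Le (fincl P (Finset.Subset.refl a.1)) b := by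
      rw [fincl_refl]
      exact h
    refine ⟨⟨a.1, b⟩, homOfLE ⟨Finset.Subset.refl _, hle⟩, ?_⟩
    show sapp (KillData.map (fincl P (Finset.Subset.refl a.1)) hle) W x = 0
    convert hb using 4
    exact fincl_refl P a.1

end System

/-- Quasi-coherent modules on qcqs spaces are filtered colimits of finitely presented ones. -/
theorem exists_colimit_fp {M : ModEt X} [M.IsQuasicoherent] [QuasiSeparatedSpace ↥S] (hX : IsAlgSpace X)
    (hqc : IsQuasiCompactSp X) (hqs : IsQuasiSeparatedSp X) :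
    ∃ (J : Type (u + 1)) (_ : SmallCategory J) (_ : IsFiltered J) (D : J ⥤ ModEt X)
      (ι : D ⟶ (Functor.const J).obj M),
      (∀ j, (D.obj j).IsFinitePresentation) ∧ Nonempty (IsColimit (Cocone.mk M ι)) := by
  let ι₀ : Type (u + 1) := Σ' (W : EtOver X) (_ : IsAffine W.obj.left.left), sectModEt M W
  have h : ∀ i : ι₀, ∃ (P : ModEt X) (φ : P ⟶ M), P.IsFinitePresentation ∧ i.2.2 ∈ LinearMap.range (sapp φ i.1) :=
    fun i => haveI := i.2.1; exists_fp_lift hX hqc hqs M i.2.2
  choose P ψ hP hψ using h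
  haveI : Fact (∀ i, (P i).IsQuasicoherent) := ⟨fun i => haveI := hP i; inferInstance⟩
  exact exists_filtered_fp P ψ hX hqc hqs hP fun W hW s => ⟨⟨W, hW, s⟩, hψ ⟨W, hW, s⟩⟩

end Groth.L09.EtSub
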