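import Groth.Agent.L09.EtSub.FreeFin
import Groth.Agent.L23.FpSections

/-!
# Finitely presented sections and killing obstructions to lifting
-/

universe u

open CategoryTheory CategoryTheory.Limits AlgebraicGeometry Opposite AlgSp TensorProduct

set_option autoImplicit false
set_option linter.style.haveILetI false
set_option backward.isDefEq.respectTransparency false
set_option backward.isDefEq.respectTransparency.types false

noncomputable section

namespace Groth.L09.EtSub

open Groth.L09.ModEt Groth.L09.EtMV Groth.L09.Pull Groth.L23.SubQcoh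

variable {S : Scheme.{u}} {X : Sp S}

theorem mem_span_res_univ (N : ModEt X) [N.IsQuasicoherent] {E D : EtOver X} [IsAffine E.obj.left.left]
    [IsAffine D.obj.left.left] (e : D ⟶ E) (z : sectModEt N D) :
    z ∈ Submodule.span (Γ₀ D) (res N e '' Set.univ) := by
  letI := (pb e).toAlgebra
  obtain ⟨y, rfl⟩ := (bc_of_isQuasicoherent N e).2 z
  induction y using TensorProduct.induction_on with
  | zero => rw [map_zero]; exact zero_mem _
  | tmul b m => rw [θ_tmul]; exact Submodule.smul_mem _ b (Submodule.subset_span ⟨m, trivial, rfl⟩)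
  | add a b ha hb => rw [map_add]; exact add_mem ha hb

/-- Relations among restrictions come from relations. -/
theorem mem_span_relations (N : ModEt X) [N.IsQuasicoherent] {n : ℕ} {E D : EtOver X} [IsAffine E.obj.left.left]
    [IsAffine D.obj.left.left] (e : D ⟶ E) (u : Fin n → sectModEt N E) (y : Fin n → Γ₀ D)
    (hy : comb (fun i => res N e (u i)) y = 0) :
    y ∈ Submodule.span (Γ₀ D) (vres e '' {x | comb u x = 0}) := by
  classical
  letI := (pb e).toAlgebra
  haveI : Module.Flat (Γ₀ E) (Γ₀ D) := flat_pb e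
  let ψ : (Fin n → Γ₀ E) →ₗ[Γ₀ E] sectModEt N E := comb u
  let z : Γ₀ D ⊗[Γ₀ E] (Fin n → Γ₀ E) := ∑ i, y i ⊗ₜ Pi.single i 1
  have h0 : ψ.lTensor (Γ₀ D) z = 0 := by
    refine (bc_of_isQuasicoherent N e).1 ?_
    simp only [z, map_sum, map_zero, LinearMap.lTensor_tmul, θ_tmul]
    rw [← hy, comb_apply]
    refine Finset.sum_congr rfl fun i _ => ?_
    congr 2
    exact (Fintype.linearCombination_apply_single _ _ _ _).trans (one_smul _ _)
  obtain ⟨k, hk⟩ := (Module.Flat.lTensor_exact (Γ₀ D) (LinearMap.exact_subtype_ker_map ψ) z).1 h0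
  let μ := TensorProduct.piScalarRight (Γ₀ E) (Γ₀ E) (Γ₀ D) (Fin n)
  have hμ : ∀ (b : Γ₀ D) (f : Fin n → Γ₀ E), μ (b ⊗ₜ f) = b • vres e f := fun b f => funext fun i => by
    show f i • b = b * pb e (f i)
    exact (Algebra.smul_def _ _).trans (mul_comm _ _)
  have hz : μ z = y := by
    simp only [z, map_sum, hμ]
    funext j
    rw [Finset.sum_apply, Finset.sum_eq_single j]
    · simp [vres]
    · intro i _ hij
      simp [vres, Pi.single_eq_of_ne' hij]
    · exact fun h => absurd (Finset.mem_univ j) h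
  rw [← hz, ← hk]
  clear hk h0
  induction k using TensorProduct.induction_on with
  | zero => rw [map_zero, map_zero]; exact zero_mem _
  | tmul b m => rw [LinearMap.lTensor_tmul, hμ]; exact Submodule.smul_mem _ b (Submodule.subset_span ⟨m.1, m.2, rfl⟩)
  | add a b ha hb => rw [map_add, map_add]; exact add_mem ha hb

/-- Finitely many relations suffice where the module is finitely presented. -/
theorem exists_relations (N : ModEt X) [N.IsQuasicoherent] {n : ℕ} {E : EtOver X} [IsAffine E.obj.left.left]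
    (u : Fin n → sectModEt N E) {κ : Type*} [Finite κ] {D : κ → EtOver X} [∀ k, IsAffine (D k).obj.left.left]
    (e : ∀ k, D k ⟶ E) (hu : ∀ k, Submodule.span (Γ₀ (D k)) (Set.range fun i => res N (e k) (u i)) = ⊤)
    (hfp : ∀ k, Module.FinitePresentation (Γ₀ (D k)) (sectModEt N (D k))) :
    ∃ C : Finset (Fin n → Γ₀ E), (∀ x ∈ C, comb u x = 0) ∧
      ∀ (k : κ) (y : Fin n → Γ₀ (D k)), comb (fun i => res N (e k) (u i)) y = 0 →
        y ∈ Submodule.span (Γ₀ (D k)) (vres (e k) '' (C : Set (Fin n → Γ₀ E))) := by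
  classical
  cases nonempty_fintype κ
  have hk : ∀ k, ∃ C : Finset (Fin n → Γ₀ E), (∀ x ∈ C, comb u x = 0) ∧
      ∀ (y : Fin n → Γ₀ (D k)), comb (fun i => res N (e k) (u i)) y = 0 →
        y ∈ Submodule.span (Γ₀ (D k)) (vres (e k) '' (C : Set (Fin n → Γ₀ E))) := by
    intro k
    haveI := hfp k
    have hs : Function.Surjective (comb fun i => res N (e k) (u i)) := by
      rw [← LinearMap.range_eq_top, range_comb, hu k]
    have hfg := Module.FinitePresentation.fg_ker _ hs
    have hsp : LinearMap.ker (comb fun i => res N (e k) (u i)) =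
        Submodule.span (Γ₀ (D k)) (vres (e k) '' {x | comb u x = 0}) := by
      refine le_antisymm (fun y hy => mem_span_relations N (e k) u y hy) (Submodule.span_le.2 ?_)
      rintro _ ⟨x, hx, rfl⟩
      show comb _ (vres (e k) x) = 0
      rw [← res_comb, show comb u x = 0 from hx, map_zero]
    rw [hsp] at hfg
    obtain ⟨T₀, hT₀, heq⟩ := Submodule.fg_span_iff_fg_span_finset_subset _ |>.1 hfg
    obtain ⟨C, hC, rfl⟩ := Finset.subset_set_image_iff.1 hT₀
    refine ⟨C, fun x hx => hC hx, fun y hy => ?_⟩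
    have := mem_span_relations N (e k) u y hy
    rw [heq, Finset.coe_image] at this
    exact this
  choose C hC₁ hC₂ using hk
  refine ⟨Finset.univ.biUnion C, fun x hx => ?_, fun k y hy => ?_⟩
  · obtain ⟨k, -, hx⟩ := Finset.mem_biUnion.1 hx
    exact hC₁ k x hx
  · refine Submodule.span_mono (Set.image_mono ?_) (hC₂ k y hy)
    intro x hx
    exact Finset.mem_biUnion.2 ⟨k, Finset.mem_univ k, hx⟩

/-- Finitely many sections generate on finitely many given objects. -/
theorem exists_spanning (N : ModEt X) [N.IsQuasicoherent] {E : EtOver X} [IsAffine E.obj.left.left] {κ : Type*}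
    [Finite κ] {D : κ → EtOver X} [∀ k, IsAffine (D k).obj.left.left] (e : ∀ k, D k ⟶ E)
    (hfin : ∀ k, Module.Finite (Γ₀ (D k)) (sectModEt N (D k))) (T₀ : Finset (sectModEt N E)) :
    ∃ (n : ℕ) (u : Fin n → sectModEt N E), (∀ x ∈ T₀, x ∈ Set.range u) ∧
      ∀ k, Submodule.span (Γ₀ (D k)) (Set.range fun i => res N (e k) (u i)) = ⊤ := by
  classical
  cases nonempty_fintype κ
  have hk : ∀ k, ∃ T : Finset (sectModEt N E), Submodule.span (Γ₀ (D k)) (res N (e k) '' (T : Set _)) = ⊤ := by
    intro k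
    obtain ⟨G, hG⟩ := (hfin k).fg_top
    have : ∀ g ∈ G, ∃ T : Finset (sectModEt N E), g ∈ Submodule.span (Γ₀ (D k)) (res N (e k) '' (T : Set _)) := by
      intro g _
      obtain ⟨T', hT', hg⟩ := Submodule.mem_span_finite_of_mem_span (mem_span_res_univ N (e k) g)
      obtain ⟨T, -, rfl⟩ := Finset.subset_set_image_iff.1 hT'
      exact ⟨T, by simpa using hg⟩
    choose T hT using this
    refine ⟨G.attach.biUnion fun g => T g.1 g.2, eq_top_iff.2 (hG ▸ Submodule.span_le.2 fun g hg => ?_)⟩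
    refine Submodule.span_mono (Set.image_mono ?_) (hT g hg)
    intro x hx
    exact Finset.mem_biUnion.2 ⟨⟨g, hg⟩, Finset.mem_attach _ _, hx⟩
  choose T hT using hk
  let U := T₀ ∪ Finset.univ.biUnion T
  refine ⟨U.card, fun i => (U.equivFin.symm i).1, fun x hx => ?_, fun k => ?_⟩
  · exact ⟨U.equivFin ⟨x, Finset.mem_union_left _ hx⟩, by simp⟩
  · refine eq_top_iff.2 ((hT k).symm.le.trans (Submodule.span_mono ?_))
    rintro _ ⟨x, hx, rfl⟩
    exact ⟨U.equivFin ⟨x, Finset.mem_union_right _ (Finset.mem_biUnion.2 ⟨k, Finset.mem_univ k, hx⟩)⟩, by simp⟩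

/-- Finite presentation of sections on affine objects is local. -/
theorem finitePresentation_of_cover (N : ModEt X) [N.IsQuasicoherent] {E : EtOver X} [IsAffine E.obj.left.left]
    (h : ∀ e : ↥E.obj.left.left, ∃ (V : EtOver X) (_ : IsAffine V.obj.left.left) (g : V ⟶ E),
      e ∈ Set.range g.hom.left.left ∧ Module.FinitePresentation (Γ₀ V) (sectModEt N V)) :
    Module.FinitePresentation (Γ₀ E) (sectModEt N E) := by
  choose V hV g hg hfp using h
  obtain ⟨κ, _, a, ha⟩ := exists_finite_sub (c := g) fun e => ⟨e, hg e⟩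
  haveI := fun k => hV (a k)
  haveI := fun k => hfp (a k)
  obtain ⟨n, u, -, hu⟩ := exists_spanning N (fun k => g (a k)) (fun k => inferInstance) ∅
  obtain ⟨C, hC₁, hC₂⟩ := exists_relations N u (fun k => g (a k)) hu fun k => hfp (a k)
  have hs : Function.Surjective (comb u) := by
    rw [← LinearMap.range_eq_top, range_comb, eq_top_iff]
    intro x _
    refine EtSub.mem_of_local N _ fun e => ?_
    obtain ⟨k, hk⟩ := ha e
    refine ⟨_, inferInstance, g (a k), hk, ?_⟩
    rw [push_span, ← Set.range_comp]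
    exact (hu k).symm ▸ Submodule.mem_top
  haveI : Module.FinitePresentation (Γ₀ E) (Fin n → Γ₀ E) := Module.finitePresentation_of_projective _ _
  refine Module.finitePresentation_of_surjective (comb u) hs ⟨C, le_antisymm (Submodule.span_le.2 hC₁) ?_⟩
  intro x hx
  have : x ∈ Submodule.span (Γ₀ E) (Set.range fun j : (C : Set (Fin n → Γ₀ E)) => j.1) := by
    refine vec_mem_of_local _ x fun e => ?_
    obtain ⟨k, hk⟩ := ha e
    refine ⟨_, inferInstance, g (a k), hk, ?_⟩
    have h1 := hC₂ k (vres (g (a k)) x) (by rw [← res_comb, show comb u x = 0 from hx, map_zero])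
    rwa [Set.image_eq_range] at h1
  rwa [Subtype.range_coe] at this

theorem res_eq_of_map_sub_eq_zero {A B : ModEt X} (q : A ⟶ B) {D₁ D₂ P W : EtOver X} (p₁ : P ⟶ D₁) (p₂ : P ⟶ D₂)
    (l : W ⟶ P) {a : sectModEt A D₁} {b : sectModEt A D₂}
    (h : sapp q P (res A p₁ a - res A p₂ b) = 0) :
    res B (l ≫ p₁) (sapp q D₁ a) = res B (l ≫ p₂) (sapp q D₂ b) := by
  rw [map_sub, sub_eq_zero, sapp_res, sapp_res] at h
  rw [res_comp, res_comp, h]

theorem sapp_kill {A K N' : ModEt X} (a : A ⟶ K) (k : K ⟶ N') {Q : ModEt X} (q : N' ⟶ Q) (hq : (a ≫ k) ≫ q = 0)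
    {P : EtOver X} {z : sectModEt K P} {w : sectModEt A P} {x : sectModEt N' P}
    (hw : sapp a P w = z) (hz : sapp k P z = x) : sapp q P x = 0 := by
  subst hw hz
  exact sapp_g_f (C := ShortComplex.mk _ _ hq) P w

theorem exists_sapp_ι {M : ModEt X} [M.IsQuasicoherent] (A : AffSub M) {E : EtOver X} [IsAffine E.obj.left.left]
    {s : sectModEt M E} (h : s ∈ A.P E) : ∃ w, sapp A.ι E w = s :=
  (Set.ext_iff.1 (A.range_ι E) s).2 h

theorem exists_affSub_family (M : ModEt X) [M.IsQuasicoherent] [QuasiSeparatedSpace ↥S] (hX : IsAlgSpace X)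
    (hqc : IsQuasiCompactSp X) (hqs : IsQuasiSeparatedSp X) {ι : Type*} [Finite ι] (D : ι → EtOver X)
    [∀ i, IsAffine (D i).obj.left.left] (x : ∀ i, sectModEt M (D i)) :
    ∃ A : AffSub M, (∀ (E : EtOver X) [IsAffine E.obj.left.left], (A.P E).FG) ∧ ∀ i, x i ∈ A.P (D i) := by
  classical
  cases nonempty_fintype ι
  suffices h : ∀ s : Finset ι, ∃ A : AffSub M, (∀ (E : EtOver X) [IsAffine E.obj.left.left], (A.P E).FG) ∧
      ∀ i ∈ s, x i ∈ A.P (D i) by
    obtain ⟨A, h₁, h₂⟩ := h Finset.univ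
    exact ⟨A, h₁, fun i => h₂ i (Finset.mem_univ i)⟩
  intro s
  induction s using Finset.induction_on with
  | empty => exact ⟨bot M, fun E _ => Submodule.fg_bot, by simp⟩
  | insert a s ha ih =>
    obtain ⟨A, h₁, h₂⟩ := ih
    obtain ⟨B, g₁, g₂⟩ := exists_affSub_fg M hX hqc hqs {x a}
    refine ⟨sup A B, fun E _ => (h₁ E).sup (g₁ E), fun i hi => ?_⟩
    rcases Finset.mem_insert.1 hi with rfl | hi
    · exact Submodule.mem_sup_right (g₂ _ (Finset.mem_singleton_self _))
    · exact Submodule.mem_sup_left (h₂ i hi)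

/-- Killing obstructions: after dividing by a submodule of finite type, local lifts glue. -/
theorem exists_lifting_quotient [QuasiSeparatedSpace ↥S] (hX : IsAlgSpace X) (hqc : IsQuasiCompactSp X)
    (hqs : IsQuasiSeparatedSp X) {M N : ModEt X} [M.IsQuasicoherent] [N.IsQuasicoherent] (φ : N ⟶ M)
    {V O : EtOver X} [IsAffine V.obj.left.left] (o : O ⟶ V) {ι : Type u} [Finite ι] {D : ι → EtOver X}
    [∀ i, IsAffine (D i).obj.left.left] {d : ∀ i, D i ⟶ O} (hd : IsCover d) (T : Finset (sectModEt M V))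
    (hT : ∀ m ∈ T, ∀ i, res M (d i ≫ o) m ∈ LinearMap.range (sapp φ (D i))) :
    ∃ (N' : ModEt X) (q : N ⟶ N') (φ' : N' ⟶ M), N'.IsQuasicoherent ∧ q ≫ φ' = φ ∧
      (∀ (E : EtOver X) [IsAffine E.obj.left.left], Function.Surjective (sapp q E) ∧
        (LinearMap.ker (sapp q E)).FG) ∧
      ∀ m ∈ T, ∃ x : sectModEt N' O, sapp φ' O x = res M o m := by
  choose y hy using fun (m : (T : Set (sectModEt M V))) => hT m.1 m.2
  haveI : ∀ i j : ι, IsAffine (EtOver.pullbackObj (d i ≫ o) (d j ≫ o)).obj.left.left := fun _ _ => isAffine_pullback _ _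
  haveI := Groth.L23.QcClosure.isQuasicoherent_kernel φ
  have hlift : ∀ (m : ↥(T : Set (sectModEt M V))) (i j : ι), ∃ z, sapp (kernel.ι φ) _ z =
      res N (EtOver.pullbackFst (d i ≫ o) (d j ≫ o)) (y m i) - res N (EtOver.pullbackSnd (d i ≫ o) (d j ≫ o)) (y m j) := by
    intro m i j
    refine ((exact_sapp (C := ShortComplex.mk _ _ (kernel.condition φ))
      (ShortComplex.exact_of_f_is_kernel _ (kernelIsKernel φ)) inferInstance _).2 _).1 ?_
    refine (map_sub (sapp φ _) _ _).trans (sub_eq_zero.2 ?_)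
    rw [sapp_res, sapp_res, hy, hy]
    exact res_congr M (EtOver.pullback_condition _ _) _
  choose z hz using hlift
  obtain ⟨A, hA, hzA₀⟩ := exists_affSub_family (kernel φ) hX hqc hqs
    (fun p : ↥(T : Set (sectModEt M V)) × ι × ι => EtOver.pullbackObj (d p.2.1 ≫ o) (d p.2.2 ≫ o))
    (fun p => z p.1 p.2.1 p.2.2)
  have hzA : ∀ m i j, z m i j ∈ A.P (EtOver.pullbackObj (d i ≫ o) (d j ≫ o)) := fun m i j => hzA₀ (m, i, j)
  haveI := A.isQuasicoherent
  haveI := isFiniteType_mod A hA
  let ι' : A.mod ⟶ N := A.ι ≫ kernel.ι φ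
  haveI := Groth.L23.QcClosure.isQuasicoherent_cokernel ι'
  let q := cokernel.π ι'
  let φ' : cokernel ι' ⟶ M := cokernel.desc ι' φ (by simp [ι', kernel.condition])
  refine ⟨cokernel ι', q, φ', inferInstance, cokernel.π_desc _ _ _, fun E _ => ⟨surjective_sapp_epi q E, ?_⟩, fun m hm => ?_⟩
  · haveI := finite_sectModEt A.mod E
    have hk : LinearMap.ker (sapp q E) = LinearMap.range (sapp ι' E) := by
      ext x
      refine ⟨fun hx => exists_preimage_of_cokernel ι' E x hx, ?_⟩
      rintro ⟨w, rfl⟩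
      show sapp q E (sapp ι' E w) = 0
      exact sapp_g_f (C := ShortComplex.mk _ _ (cokernel.condition ι')) E w
    rw [hk]
    exact Module.Finite.iff_fg.1 (Module.Finite.range _)
  · let m' : (T : Set (sectModEt M V)) := ⟨m, hm⟩
    let v : ∀ i, sectModEt (cokernel ι') (D i) := fun i => sapp q (D i) (y m' i)
    have hagree : ∀ i j, res (cokernel ι') (EtOver.pullbackFst (d i) (d j)) (v i) =
        res (cokernel ι') (EtOver.pullbackSnd (d i) (d j)) (v j) := by
      intro i j
      have e : EtOver.pullbackFst (d i) (d j) ≫ d i ≫ o = EtOver.pullbackSnd (d i) (d j) ≫ d j ≫ o := by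
        rw [← Category.assoc, ← Category.assoc, EtOver.pullback_condition]
      obtain ⟨l, hl₁, hl₂⟩ := (EtOver.isPullback (d i ≫ o) (d j ≫ o)).exists_lift _ _ e
      have hmem := hzA m' i j
      have hw0 := exists_sapp_ι (M := kernel φ) A (E := EtOver.pullbackObj (d i ≫ o) (d j ≫ o)) (s := z m' i j) hmem
      obtain ⟨w, hw⟩ := hw0
      have h0 := sapp_kill (A := A.mod) (K := kernel φ) (N' := N) (Q := cokernel ι')
        (P := EtOver.pullbackObj (d i ≫ o) (d j ≫ o)) A.ι (kernel.ι φ) q (cokernel.condition ι') hw (hz m' i j)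
      refine ((congrArg (fun k => res (cokernel ι') k (v i)) hl₁).symm.trans ?_).trans
        (congrArg (fun k => res (cokernel ι') k (v j)) hl₂)
      exact res_eq_of_map_sub_eq_zero (A := N) (B := cokernel ι') q (EtOver.pullbackFst (d i ≫ o) (d j ≫ o))
        (EtOver.pullbackSnd (d i ≫ o) (d j ≫ o)) l (a := y m' i) (b := y m' j) h0
    obtain ⟨x, hx⟩ := exists_glue (cokernel ι') hd v hagree
    refine ⟨x, eq_of_cover M hd fun i => ?_⟩
    refine (sapp_res φ' (d i) x).symm.trans ?_
    refine (congrArg (sapp φ' (D i)) (hx i)).trans ?_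
    refine Eq.trans ?_ (res_comp M (d i) o m)
    refine Eq.trans ?_ (hy m' i)
    exact congrArg (fun f => sapp f (D i) (y m' i)) (cokernel.π_desc ι' φ _)

end Groth.L09.EtSub
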