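import Groth.Agent.L09.EtSub.FpKill
import Groth.Agent.L09.EtSub.Extend
import Groth.Agent.L23.OpenSub

/-!
# Replacing a module by one with the liftable sections over an open region
-/

universe u

open CategoryTheory CategoryTheory.Limits AlgebraicGeometry Opposite AlgSp TopologicalSpace

set_option autoImplicit false
set_option linter.style.haveILetI false
set_option backward.isDefEq.respectTransparency false
set_option backward.isDefEq.respectTransparency.types false

noncomputable section

namespace Groth.L09.EtSub

open Groth.L09.ModEt Groth.L09.EtMV Groth.L09.Pull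

variable {S : Scheme.{u}} {X U : Sp S} {j : U ⟶ X} (hp : RepWith @Etale j) (hi : RepWith @IsOpenImmersion j)

include hi in
theorem bdd_open (hc : ∀ (E : EtOver X) [IsAffine E.obj.left.left],
    IsCompact (preOpen (region hp) E : Set E.obj.left.left)) : Bdd hp := by
  intro E _
  haveI : IsOpenImmersion (hi.1.snd E.obj.hom).left := Groth.L23.repWith_snd hi _
  let f := (hi.1.snd E.obj.hom).left
  have hr : (preOpen (region hp) E : Set E.obj.left.left) = Set.range f := by
    ext e
    refine ⟨fun he => mem_range_coun hp hi.1 (E := E) he, ?_⟩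
    rintro ⟨w, rfl⟩
    let P := pushObj hp (EtOver.bcObj hi.1 E)
    let w' : P.obj.left.left := w
    have h1 := ofPt_map (coun hp hi.1 E) w'
    have h2 : Points.ofPt P.obj.hom w' ∈ region hp := inB_pushObj hp (EtOver.bcObj hi.1 E) w'
    rw [h1] at h2
    exact h2
  refine ⟨⟨?_⟩, ?_⟩
  · rw [f.isOpenEmbedding.isEmbedding.isCompact_iff, Set.image_univ, ← hr]
    exact hc E
  · exact quasiSeparatedSpace_of_quasiSeparated f

theorem region_openSub (hX : IsAlgSpace X) (L : Opens (Points X))
    (hp : RepWith @Etale (Groth.L23.openSubι L)) : region hp = L := by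
  refine le_antisymm (fun x hx => ?_) fun x hx => ?_
  · obtain ⟨Z, z, -, rfl⟩ := Opens.mem_iSup.1 hx
    have h : Points.map (Groth.L23.openSubι L) (Points.ofPt Z.obj.hom z) ∈ (L : Set (Points X)) := by
      rw [← Groth.L23.range_openSubι L]
      exact ⟨_, rfl⟩
    rwa [Points.map_ofPt] at h
  · obtain ⟨y, rfl⟩ : x ∈ Set.range (Points.map (Groth.L23.openSubι L)) := by
      rw [Groth.L23.range_openSubι]
      exact hx
    obtain ⟨E, -, e, he⟩ := exists_affine_chart (Groth.L23.isAlgSpace_openSub L hX) y
    rw [← he, Points.map_ofPt]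
    exact inB_pushObj hp E e

variable {M N : ModEt X} (φ : N ⟶ M)

/-- The comparison of the amalgam over an open region with the module. -/
def openComp {W : EtOver X} (hW : InB (region hp) W) :
    sectModEt (amalg hp ((restr hp).map φ)) W →ₗ[Γ₀ W] sectModEt N W where
  toFun z := res N (sec hp hi hW) (second hp ((restr hp).map φ) W z)
  map_add' z z' := by
    rw [second_add]
    exact map_add (res N (sec hp hi hW)) _ _
  map_smul' b z := by
    rw [second_smul]
    refine (res_smul N (sec hp hi hW) _ _).trans ?_
    rw [show pb (sec hp hi hW) (π₀ hp.1 W b) = b from by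
      show pb (sec hp hi hW) (pb (coun hp hi.1 W) b) = b
      rw [← pb_comp, sec_coun, pb_id]]
    rfl

theorem sapp_openComp {W : EtOver X} (hW : InB (region hp) W)
    (z : sectModEt (amalg hp ((restr hp).map φ)) W) :
    sapp φ W (openComp hp hi φ hW z) = sapp (amalgFst hp ((restr hp).map φ)) W z := by
  refine (sapp_res φ (sec hp hi hW) _).trans ?_
  refine (congrArg (res M (sec hp hi hW)) (amalg_condition hp ((restr hp).map φ) W z)).trans ?_
  rw [← res_comp, sec_coun, res_id]

theorem bijective_openComp {W : EtOver X} (hW : InB (region hp) W) :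
    Function.Bijective (openComp hp hi φ hW) := by
  constructor
  · intro z z' h
    have h₂ : second hp ((restr hp).map φ) W z = second hp ((restr hp).map φ) W z' := by
      have h' := congrArg (res N (coun hp hi.1 W)) h
      change res N _ (res N _ _) = res N _ (res N _ _) at h'
      rwa [← res_comp, ← res_comp, coun_sec, res_id, res_id] at h'
    refine amalg_ext hp _ ?_ h₂
    rw [← sapp_openComp hp hi φ hW, ← sapp_openComp hp hi φ hW, h]
  · intro n
    obtain ⟨z, -, hz⟩ := exists_amalg hp ((restr hp).map φ) (E := W) (sapp φ W n) (res N (coun hp hi.1 W) n)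
      (sapp_res φ (coun hp hi.1 W) n)
    refine ⟨z, ?_⟩
    show res N (sec hp hi hW) _ = n
    rw [hz, ← res_comp, sec_coun, res_id]

include hi in
theorem exists_amalg_open [M.IsQuasicoherent] [N.IsQuasicoherent] (hc : ∀ (E : EtOver X) [IsAffine E.obj.left.left],
    IsCompact (preOpen (region hp) E : Set E.obj.left.left)) :
    ∃ (N₁ : ModEt X) (φ₁ : N₁ ⟶ M), N₁.IsQuasicoherent ∧
      (∀ (W : EtOver X) (_ : InB (region hp) W), ∃ e : sectModEt N₁ W ≃ₗ[Γ₀ W] sectModEt N W,
        ∀ z, sapp φ W (e z) = sapp φ₁ W z) ∧
      ∀ (V : EtOver X) (m : sectModEt M V) (x : sectModEt N (openObj V (preOpen (region hp) V))),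
        sapp φ _ x = res M (openι V (preOpen (region hp) V)) m → ∃ t, sapp φ₁ V t = m := by
  haveI := isQuasicoherent_restr hp N
  refine ⟨amalg hp ((restr hp).map φ), amalgFst hp _,
    isQuasicoherent_amalg hp _ (bdd_open hp hi hc), fun W hW => ?_, fun V m x hx => ?_⟩
  · exact ⟨LinearEquiv.ofBijective (openComp hp hi φ hW) (bijective_openComp hp hi φ hW),
      sapp_openComp hp hi φ hW⟩
  · obtain ⟨l, hl⟩ := exists_factor_openι (L := region hp) (coun hp hi.1 V) (inB_pushObj hp _)
    obtain ⟨t, ht, -⟩ := exists_amalg hp ((restr hp).map φ) (E := V) m (res N l x) (by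
      show sapp φ _ (res N l x) = res M (coun hp hi.1 V) m
      rw [sapp_res, hx, ← res_comp, hl])
    exact ⟨t, ht⟩

end Groth.L09.EtSub
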