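import Groth.Agent.L09.EtSub.FpAcross
import Groth.Agent.L09.EtSub.FpOpen

/-!
# Sections of quasi-coherent modules come from finitely presented modules
-/

universe u

open CategoryTheory CategoryTheory.Limits AlgebraicGeometry Opposite AlgSp TopologicalSpace

set_option autoImplicit false
set_option linter.style.haveILetI false
set_option backward.isDefEq.respectTransparency false
set_option backward.isDefEq.respectTransparency.types false

noncomputable section

namespace Groth.L09.EtSub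

open Groth.L09.ModEt Groth.L09.EtMV Groth.L09.EtAlt Groth.L09.Pull Groth.L23.SubQcoh

variable {S : Scheme.{u}} {X : Sp S}

/-- A module over the target, finitely presented over a region, through which a section lifts there. -/
def Lifts (M : ModEt X) {E₀ : EtOver X} (s : sectModEt M E₀) (L : Opens (Points X)) : Prop :=
  ∃ (N : ModEt X) (φ : N ⟶ M), N.IsQuasicoherent ∧
    (∀ (E : EtOver X) [IsAffine E.obj.left.left], InB L E → Module.FinitePresentation (Γ₀ E) (sectModEt N E)) ∧
    ∀ (W : EtOver X) [IsAffine W.obj.left.left], InB L W → ∀ g : W ⟶ E₀, res M g s ∈ LinearMap.range (sapp φ W)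

theorem isCompact_preOpen_step [QuasiSeparatedSpace ↥S] (hqs : IsQuasiSeparatedSp X) {L' L : Opens (Points X)}
    {V : EtOver X} [IsAffine V.obj.left.left] (h : Sq L' L V) (E : EtOver X) [IsAffine E.obj.left.left]
    (hE : IsCompact (preOpen L' E : Set E.obj.left.left)) : IsCompact (preOpen L E : Set E.obj.left.left) := by
  haveI := compactSpace_prodObj hqs V E
  let q := (EtOver.prodSnd V E).hom.left.left
  have hset : (preOpen L E : Set E.obj.left.left) = (preOpen L' E : Set E.obj.left.left) ∪ Set.range q := by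
    ext e
    constructor
    · intro he
      by_cases he' : Points.ofPt E.obj.hom e ∈ L'
      · exact Or.inl he'
      · obtain ⟨v, hv⟩ := h.cover _ he he'
        obtain ⟨W', -, g₁, g₂, w, hw₁, hw₂⟩ := exists_common (E₁ := V) (E₂ := E) v e hv
        exact Or.inr ⟨(pl g₁ g₂).hom.left.left w, (congrArg (fun m => m.hom.left.left w) (pl_snd g₁ g₂)).trans hw₂⟩
    · rintro (he | ⟨p, rfl⟩)
      · exact h.le he
      · show Points.ofPt E.obj.hom _ ∈ L
        rw [← ofPt_map (EtOver.prodSnd V E) p, ofPt_map (EtOver.prodFst V E) p]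
        exact h.inB _
  rw [hset]
  exact hE.union (isCompact_range q.continuous)

theorem lifts_step [QuasiSeparatedSpace ↥S] (hX : IsAlgSpace X) (hqc : IsQuasiCompactSp X) (hqs : IsQuasiSeparatedSp X)
    {M : ModEt X} [M.IsQuasicoherent] {E₀ : EtOver X} [IsAffine E₀.obj.left.left] (s : sectModEt M E₀)
    {L' L : Opens (Points X)} {V : EtOver X} [IsAffine V.obj.left.left] (h : Sq L' L V)
    (hc : IsCompact (preOpen L' V : Set V.obj.left.left))
    (hL' : ∀ (E : EtOver X) [IsAffine E.obj.left.left], IsCompact (preOpen L' E : Set E.obj.left.left))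
    (hlift : Lifts M s L') : Lifts M s L := by
  classical
  obtain ⟨N, φ, hN, hfp, hs⟩ := hlift
  haveI := hN
  haveI : CompactSpace (openObj V (preOpen L' V)).obj.left.left := isCompact_iff_compactSpace.1 hc
  obtain ⟨ι, _, D, d, hD, -, hd⟩ :=
    exists_finite_cover (E := openObj V (preOpen L' V)) ((etTop X).top_mem _)
  haveI := hD
  let e : ∀ i, D i ⟶ V := fun i => d i ≫ openι V (preOpen L' V)
  have hin : ∀ i, InB L' (D i) := fun i => (inB_openObj L' V).comp (d i)
  let K : Set (sectModEt M V) := {m | ∀ i, res M (e i) m ∈ LinearMap.range (sapp φ (D i))}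
  haveI := compactSpace_prodObj hqs E₀ V
  obtain ⟨κ, _, Z, c, hZ, -, hc'⟩ := exists_finite_cover (E := EtOver.prodObj E₀ V) ((etTop X).top_mem _)
  haveI := hZ
  cases nonempty_fintype κ
  have hT₂ : ∀ k : κ, ∃ T : Finset (sectModEt M V), (T : Set (sectModEt M V)) ⊆ K ∧
      res M (c k ≫ EtOver.prodFst E₀ V) s ∈
        Submodule.span (Γ₀ (Z k)) (res M (c k ≫ EtOver.prodSnd E₀ V) '' T) := by
    intro k
    have h1 := mem_push_kerSub M (c k ≫ EtOver.prodSnd E₀ V) e (fun i => LinearMap.range (sapp φ (D i)))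
      (z := res M (c k ≫ EtOver.prodFst E₀ V) s) fun i => by
        haveI := isAffine_pullback (c k ≫ EtOver.prodSnd E₀ V) (e i)
        refine (ofHom φ).mem_span (EtOver.pullbackSnd (c k ≫ EtOver.prodSnd E₀ V) (e i)) ?_
        rw [← res_comp]
        exact hs _ ((hin i).comp (EtOver.pullbackSnd (c k ≫ EtOver.prodSnd E₀ V) (e i))) _
    obtain ⟨T', hT', hzT⟩ := Submodule.mem_span_finite_of_mem_span h1
    obtain ⟨T, hT, rfl⟩ := Finset.subset_set_image_iff.1 hT'
    exact ⟨T, hT, by simpa using hzT⟩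
  choose T hTK hT using hT₂
  let T₁ : Finset (sectModEt M V) := Finset.univ.biUnion T
  obtain ⟨N₀, q, φ₀, hN₀, hqφ, hq, hx⟩ := exists_lifting_quotient hX hqc hqs φ (openι V (preOpen L' V)) hd T₁
    fun m hm i => by
      obtain ⟨k, -, hm⟩ := Finset.mem_biUnion.1 hm
      exact hTK k hm i
  haveI := hN₀
  -- the open region
  let hi := Groth.L23.repWith_openSubι L'
  let hp := repWith_etale_of_open hi
  have hreg : region hp = L' := region_openSub hX L' hp
  obtain ⟨N₁, φ₁, hN₁, he₁, ht₁⟩ := exists_amalg_open hp hi φ₀ (by rw [hreg]; exact hL')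
  haveI := hN₁
  rw [hreg] at he₁ ht₁
  have hex : ∀ m ∈ T₁, ∃ t, sapp φ₁ V t = m := fun m hm => by
    obtain ⟨x, hxm⟩ := hx m hm
    exact ht₁ V m x hxm
  choose t ht using hex
  have hfp₁ : ∀ (E : EtOver X) [IsAffine E.obj.left.left], InB L' E →
      Module.FinitePresentation (Γ₀ E) (sectModEt N₁ E) := fun E _ hE => by
    obtain ⟨eq, -⟩ := he₁ E hE
    haveI := hfp E hE
    haveI : Module.FinitePresentation (Γ₀ E) (sectModEt N₀ E) :=
      Module.finitePresentation_of_surjective (sapp q E) (hq E).1 (hq E).2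
    exact Module.FinitePresentation.of_equiv eq.symm
  obtain ⟨N', ψ, hN', hfp', hψ, hψT⟩ := exists_fp_across hqs h hc N₁ hfp₁ (Finset.image (fun m : {x // x ∈ T₁} => t m.1 m.2) T₁.attach)
  haveI := hN'
  refine ⟨N', ψ ≫ φ₁, hN', hfp', fun W _ hW g => ?_⟩
  refine (ofHom (ψ ≫ φ₁)).mem_of_cover fun w => ?_
  obtain ⟨κ', _, W', cW, hcW, hW'⟩ := exists_good_cover h hW
  obtain ⟨j, w', hw'⟩ := hcW w
  haveI := (hW' j).1
  rcases (hW' j).2 with hin' | ⟨⟨b⟩⟩
  · refine ⟨W' j, (hW' j).1, cW j, ⟨w', hw'⟩, ?_⟩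
    obtain ⟨x, hxs⟩ := hs (W' j) hin' (cW j ≫ g)
    obtain ⟨eq, heq⟩ := he₁ (W' j) hin'
    obtain ⟨z, hz⟩ := (hψ (W' j) hin').2 (eq.symm (sapp q (W' j) x))
    refine ⟨z, ?_⟩
    rw [sapp_comp, hz, ← heq, LinearEquiv.apply_symm_apply, ← sapp_comp, hqφ, hxs, res_comp]
  · obtain ⟨k, hk⟩ := hc'.pullback (pl (cW j ≫ g) b) w'
    obtain ⟨W'', hW'', a, ⟨v, hv⟩, -⟩ := exists_affine_nhd _ hk.choose ⊤ trivial
    haveI := hW''
    refine ⟨W'', hW'', a ≫ EtOver.pullbackFst (pl (cW j ≫ g) b) (c k) ≫ cW j, ⟨v, ?_⟩, ?_⟩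
    · rw [← hw', ← hk.choose_spec, ← hv]
      rfl
    · let a' : W'' ⟶ Z k := a ≫ EtOver.pullbackSnd (pl (cW j ≫ g) b) (c k)
      have hcond := EtOver.pullback_condition (pl (cW j ≫ g) b) (c k)
      have e₁ : (a ≫ EtOver.pullbackFst (pl (cW j ≫ g) b) (c k) ≫ cW j) ≫ g = a' ≫ c k ≫ EtOver.prodFst E₀ V := by
        have := congrArg (fun m => a ≫ m ≫ EtOver.prodFst E₀ V) hcond
        simp only [Category.assoc, pl_fst] at this
        simp only [a', Category.assoc]
        exact this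
      rw [← res_comp, e₁, res_comp]
      have h2 := res_span M a' (hT k)
      refine Submodule.span_le.2 ?_ h2
      rintro _ ⟨_, ⟨m, hm, rfl⟩, rfl⟩
      rw [← res_comp]
      refine (ofHom (ψ ≫ φ₁)).res_mem _ ?_
      have hm' : m ∈ T₁ := Finset.mem_biUnion.2 ⟨k, Finset.mem_univ k, hm⟩
      obtain ⟨z, hz⟩ := hψT _ (Finset.mem_image.2 ⟨⟨m, hm'⟩, Finset.mem_attach _ _, rfl⟩)
      refine ⟨z, ?_⟩
      rw [sapp_comp, hz]
      exact ht m hm'

/-- Every section comes from a module of finite presentation. -/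
theorem exists_fp_lift [QuasiSeparatedSpace ↥S] (hX : IsAlgSpace X) (hqc : IsQuasiCompactSp X)
    (hqs : IsQuasiSeparatedSp X) (M : ModEt X) [M.IsQuasicoherent] {E₀ : EtOver X} [IsAffine E₀.obj.left.left]
    (s : sectModEt M E₀) :
    ∃ (P : ModEt X) (φ : P ⟶ M), P.IsFinitePresentation ∧ s ∈ LinearMap.range (sapp φ E₀) := by
  let C : Opens (Points X) → Prop := fun L =>
    (∀ (E : EtOver X) [IsAffine E.obj.left.left], IsCompact (preOpen L E : Set E.obj.left.left)) ∧ Lifts M s L
  have bot : C ⊥ := by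
    refine ⟨fun E _ => ?_, M, 𝟙 M, inferInstance, fun E _ hE => ?_, fun W _ hW g => ⟨res M g s, rfl⟩⟩
    · have : (preOpen (⊥ : Opens (Points X)) E : Set E.obj.left.left) = ∅ := rfl
      rw [this]
      exact isCompact_empty
    · haveI : IsEmpty E.obj.left.left := ⟨fun w => hE w⟩
      haveI : Subsingleton (sectModEt M E) := ⟨subsingleton_sect_of_isEmpty M⟩
      exact Module.finitePresentation_of_projective _ _
  obtain ⟨-, N, φ, hN, hfp, hs⟩ := induction_affine hX hqc hqs C bot fun L' L V hV h hc ⟨hL', hlift⟩ => by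
    haveI := hV
    exact ⟨fun E _ => isCompact_preOpen_step hqs h E (hL' E), lifts_step hX hqc hqs s h hc hL' hlift⟩
  haveI := hN
  refine ⟨N, φ, Groth.L23.FP.isFinitePresentation_of_cover N fun E e => ?_, ?_⟩
  · obtain ⟨W, hW, g, hg, -⟩ := exists_affine_nhd E e ⊤ trivial
    exact ⟨W, hW, g, hg, @hfp W hW fun _ => trivial⟩
  · simpa using hs E₀ (fun _ => trivial) (𝟙 E₀)

end Groth.L09.EtSub
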