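import Groth.Agent.L09.EtSub.Flat
import Groth.Agent.L09.Pull.Tn
import Groth.Agent.L09.ModEt.PushQcoh
import Groth.Agent.L23.LocP
import Mathlib.RingTheory.TensorProduct.Maps

/-!
# Functions on fibre products over a space with vanishing first cohomology
-/

universe u

open CategoryTheory CategoryTheory.Limits AlgebraicGeometry Opposite AlgSp TopologicalSpace TensorProduct

set_option autoImplicit false
set_option linter.style.haveILetI false
set_option backward.isDefEq.respectTransparency false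
set_option backward.isDefEq.respectTransparency.types false

noncomputable section

namespace Groth.L09.EtSub

open Groth.L09.ModEt Groth.L09.EtMV Groth.L09.EtAlt Groth.L09.Pull

variable {S : Scheme.{u}} {X : Sp S} {Y : Over S} (g : (yon S).obj Y ⟶ X) (hg : Representable g)

/-- The projection of a base change to the source. -/
def qY (E : EtOver X) : (EtOver.bcObj hg E).obj.left ⟶ Y := (yon S).preimage (EtOver.bcObj hg E).obj.hom

theorem map_qY (E : EtOver X) : (yon S).map (qY g hg E) = (EtOver.bcObj hg E).obj.hom := Functor.map_preimage _ _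

theorem sqY (E : EtOver X) :
    IsPullback ((yon S).map (qY g hg E)) ((yon S).map (EtOver.bcπ hg E)) g E.obj.hom := by
  rw [map_qY]
  exact EtOver.isPullback_bcObj hg E

theorem qY_nat {E E' : EtOver X} (k : E' ⟶ E) :
    (EtOver.bcMap hg k).hom.left ≫ qY g hg E = qY g hg E' :=
  (yon S).map_injective (by rw [Functor.map_comp, map_qY, map_qY]; exact EtOver.map_bcMap_fst hg k)

theorem hom_extY {E : EtOver X} {T : Over S} {a b : T ⟶ (EtOver.bcObj hg E).obj.left}
    (h₁ : a ≫ qY g hg E = b ≫ qY g hg E) (h₂ : a ≫ EtOver.bcπ hg E = b ≫ EtOver.bcπ hg E) : a = b :=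
  (yon S).map_injective ((sqY g hg E).hom_ext
    (by rw [← Functor.map_comp, ← Functor.map_comp, h₁]) (by rw [← Functor.map_comp, ← Functor.map_comp, h₂]))

/-- Pulling functions back to a base change. -/
abbrev qs (E : EtOver X) : Γ(Y.left, ⊤) →+* Γ₀ (EtOver.bcObj hg E) := (qY g hg E).left.appTop.hom

theorem qs_nat {E E' : EtOver X} (k : E' ⟶ E) (y : Γ(Y.left, ⊤)) :
    pb (EtOver.bcMap hg k) (qs g hg E y) = qs g hg E' y :=
  DFunLike.congr_fun (congrArg CommRingCat.Hom.hom (congrArg Scheme.Hom.appTop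
    (congrArg CommaMorphism.left (qY_nat g hg k)))) y

/-- The direct image of the structure module. -/
abbrev pushO : ModEt X := (pushModEt hg).obj (unitModEt ((yon S).obj Y))

/-- A section of the direct image as a function. -/
def un (E : EtOver X) : sectModEt (pushO g hg) E →+ Γ₀ (EtOver.bcObj hg E) where
  toFun x := dn₀ (EtOver.bcObj hg E) x
  map_zero' := rfl
  map_add' _ _ := rfl

/-- A function as a section of the direct image. -/
def mk (E : EtOver X) (r : Γ₀ (EtOver.bcObj hg E)) : sectModEt (pushO g hg) E := up₀ r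

theorem un_mk (E : EtOver X) (r : Γ₀ (EtOver.bcObj hg E)) : un g hg E (mk g hg E r) = r := rfl

theorem un_injective (E : EtOver X) : Function.Injective (un g hg E) := fun _ _ h => ULift.ext _ _ h

theorem un_smul (E : EtOver X) (a : Γ₀ E) (x : sectModEt (pushO g hg) E) :
    un g hg E (a • x) = π₀ hg E a * un g hg E x := rfl

theorem un_res {E E' : EtOver X} (k : E' ⟶ E) (x : sectModEt (pushO g hg) E) :
    un g hg E' (res (pushO g hg) k x) = pb (EtOver.bcMap hg k) (un g hg E x) := rfl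

theorem isSeparated_bcObj (E : EtOver X) [Y.left.IsSeparated] [E.obj.left.left.IsSeparated] :
    (EtOver.bcObj hg E).obj.left.left.IsSeparated := by
  let j : (EtOver.bcObj hg E).obj.left.left ⟶ pullback (terminal.from Y.left) (terminal.from E.obj.left.left) :=
    pullback.lift (qY g hg E).left (EtOver.bcπ hg E).left (Subsingleton.elim _ _)
  haveI : Mono j := ⟨fun a b e => by
    have ht : a ≫ (qY g hg E).left = b ≫ (qY g hg E).left := by simpa [j] using e =≫ pullback.fst _ _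
    have hs : a ≫ (EtOver.bcπ hg E).left = b ≫ (EtOver.bcπ hg E).left := by simpa [j] using e =≫ pullback.snd _ _
    have hb : b ≫ (EtOver.bcObj hg E).obj.left.hom = a ≫ (EtOver.bcObj hg E).obj.left.hom := by
      rw [← Over.w (qY g hg E), ← Category.assoc, ← ht, Category.assoc]
    exact congrArg CommaMorphism.left (hom_extY g hg (T := Over.mk (a ≫ (EtOver.bcObj hg E).obj.left.hom))
      (a := Over.homMk a) (b := Over.homMk b hb) (Over.OverMorphism.ext ht) (Over.OverMorphism.ext hs))⟩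
  refine ⟨?_⟩
  haveI : IsSeparated j := inferInstance
  have : terminal.from (EtOver.bcObj hg E).obj.left.left = j ≫ pullback.fst _ _ ≫ terminal.from Y.left :=
    Subsingleton.elim _ _
  rw [this]
  infer_instance

theorem compactSpace_bcObj [QuasiSeparatedSpace ↥S] (hqs : IsQuasiSeparatedSp X) (E : EtOver X)
    [CompactSpace Y.left] [CompactSpace E.obj.left.left] : CompactSpace (EtOver.bcObj hg E).obj.left.left :=
  Groth.L23.compactSpace_of_qs hqs (sqY g hg E)

theorem isQuasicoherent_pushO [QuasiSeparatedSpace ↥S] (hqs : IsQuasiSeparatedSp X) [CompactSpace Y.left]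
    [Y.left.IsSeparated] : (pushO g hg).IsQuasicoherent := by
  haveI := isQuasicoherent_unit₀ (X := (yon S).obj Y)
  refine isQuasicoherent_of_bc_affine _ fun E₀ E₁ _ _ g₀ => ?_
  haveI := compactSpace_bcObj g hg hqs E₀
  haveI := isSeparated_bcObj g hg E₀
  exact bc_push hg _ g₀

variable {E₀ : EtOver X} (s : Y ⟶ E₀.obj.left) (hsg : (yon S).map s ≫ E₀.obj.hom = g)

include hsg

/-- The section of a base change given by a lift to the chart. -/
theorem exists_σ : ∃ σ : Y ⟶ (EtOver.bcObj hg E₀).obj.left,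
    σ ≫ qY g hg E₀ = 𝟙 Y ∧ σ ≫ EtOver.bcπ hg E₀ = s :=
  Groth.L23.exists_lift_yon (sqY g hg E₀) (𝟙 Y) s (by rw [CategoryTheory.Functor.map_id, Category.id_comp, hsg])

theorem exists_τ (σ : Y ⟶ (EtOver.bcObj hg E₀).obj.left) (hσ : σ ≫ qY g hg E₀ = 𝟙 Y)
    (hσ' : σ ≫ EtOver.bcπ hg E₀ = s) :
    ∃ (τ : (EtOver.bcObj hg E₀).obj.left ⟶ (EtOver.bcObj hg (EtOver.prodObj E₀ E₀)).obj.left)
      (h : (EtOver.bcObj hg E₀).obj.left ⟶ (EtOver.prodObj E₀ E₀).obj.left),
      h ≫ (EtOver.prodFst E₀ E₀).hom.left = EtOver.bcπ hg E₀ ∧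
      h ≫ (EtOver.prodSnd E₀ E₀).hom.left = qY g hg E₀ ≫ s ∧
      τ ≫ (EtOver.bcMap hg (EtOver.prodFst E₀ E₀)).hom.left = 𝟙 _ ∧
      τ ≫ (EtOver.bcMap hg (EtOver.prodSnd E₀ E₀)).hom.left = qY g hg E₀ ≫ σ := by
  have sq : IsPullback ((yon S).map (EtOver.prodSnd E₀ E₀).hom.left)
      ((yon S).map (EtOver.prodFst E₀ E₀).hom.left) E₀.obj.hom E₀.obj.hom := by
    show IsPullback ((yon S).map (E₀.property.1.fst' E₀.obj.hom)) ((yon S).map (E₀.property.1.snd E₀.obj.hom)) _ _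
    rw [Functor.relativelyRepresentable.map_fst']
    exact E₀.property.1.isPullback E₀.obj.hom
  have e₀ : (yon S).map (qY g hg E₀ ≫ s) ≫ E₀.obj.hom = (yon S).map (EtOver.bcπ hg E₀) ≫ E₀.obj.hom := by
    rw [Functor.map_comp, Category.assoc, hsg]
    exact (sqY g hg E₀).w
  obtain ⟨h, hh₂, hh₁⟩ := Groth.L23.exists_lift_yon sq (qY g hg E₀ ≫ s) (EtOver.bcπ hg E₀) e₀
  have e₁ : (yon S).map (qY g hg E₀) ≫ g = (yon S).map h ≫ (EtOver.prodObj E₀ E₀).obj.hom := by
    rw [← EtOver.w (EtOver.prodFst E₀ E₀), ← Category.assoc, ← Functor.map_comp, hh₁]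
    exact (sqY g hg E₀).w
  obtain ⟨τ, hτ₁, hτ₂⟩ := Groth.L23.exists_lift_yon (sqY g hg (EtOver.prodObj E₀ E₀)) (qY g hg E₀) h e₁
  refine ⟨τ, h, hh₁, hh₂, ?_, ?_⟩
  · refine hom_extY g hg ?_ ?_
    · rw [Category.assoc, qY_nat, hτ₁, Category.id_comp]
    · rw [Category.assoc, EtOver.bcMap_snd, ← Category.assoc, hτ₂, hh₁, Category.id_comp]
  · refine hom_extY g hg ?_ ?_
    · rw [Category.assoc, qY_nat, hτ₁, Category.assoc, hσ, Category.comp_id]
    · rw [Category.assoc, EtOver.bcMap_snd, ← Category.assoc, hτ₂, hh₂, Category.assoc, hσ']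

/-- Pulling functions back from the chart. -/
abbrev sA : Γ₀ E₀ →+* Γ(Y.left, ⊤) := s.left.appTop.hom

omit hsg in
theorem appTop_comp_apply {A B C : Over S} (a : A ⟶ B) (b : B ⟶ C) (x : Γ(C.left, ⊤)) :
    (a ≫ b).left.appTop.hom x = a.left.appTop.hom (b.left.appTop.hom x) := rfl

theorem π_eq_qs {a : Γ₀ E₀} (ha : a ∈ Aring E₀) : π₀ hg E₀ a = qs g hg E₀ (sA s a) := by
  obtain ⟨σ, hσ, hσ'⟩ := exists_σ g hg s hsg
  obtain ⟨τ, h, hh₁, hh₂, -, -⟩ := exists_τ g hg s hsg σ hσ hσ'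
  have h₁ := DFunLike.congr_fun (congrArg CommRingCat.Hom.hom (congrArg Scheme.Hom.appTop
    (congrArg CommaMorphism.left hh₁))) a
  have h₂ := DFunLike.congr_fun (congrArg CommRingCat.Hom.hom (congrArg Scheme.Hom.appTop
    (congrArg CommaMorphism.left hh₂))) a
  exact h₁.symm.trans ((congrArg h.left.appTop.hom ha).trans h₂)

theorem un_GM {m : sectModEt (pushO g hg) E₀} (hm : m ∈ GM E₀ (pushO g hg)) :
    ∃ y, un g hg E₀ m = qs g hg E₀ y := by
  obtain ⟨σ, hσ, hσ'⟩ := exists_σ g hg s hsg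
  obtain ⟨τ, h, -, -, hτ₁, hτ₂⟩ := exists_τ g hg s hsg σ hσ hσ'
  have h₀ : pb (EtOver.bcMap hg (EtOver.prodFst E₀ E₀)) (un g hg E₀ m) =
      pb (EtOver.bcMap hg (EtOver.prodSnd E₀ E₀)) (un g hg E₀ m) := by
    rw [← un_res, ← un_res, mem_GM.1 hm]
  have h₁ := DFunLike.congr_fun (congrArg CommRingCat.Hom.hom (congrArg Scheme.Hom.appTop
    (congrArg CommaMorphism.left hτ₁))) (un g hg E₀ m)
  have h₂ := DFunLike.congr_fun (congrArg CommRingCat.Hom.hom (congrArg Scheme.Hom.appTop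
    (congrArg CommaMorphism.left hτ₂))) (un g hg E₀ m)
  refine ⟨σ.left.appTop.hom (un g hg E₀ m), ?_⟩
  refine Eq.trans ?_ (((congrArg τ.left.appTop.hom h₀).trans h₂))
  refine (Eq.trans h₁ ?_).symm
  show (𝟙 (EtOver.bcObj hg E₀).obj.left.left : _ ⟶ _).appTop.hom _ = _
  simp [Scheme.Hom.id_app]

omit hsg in
theorem mk_qs_mem_GM (y : Γ(Y.left, ⊤)) : mk g hg E₀ (qs g hg E₀ y) ∈ GM E₀ (pushO g hg) := by
  rw [mem_GM]
  refine un_injective g hg _ ?_
  rw [un_res, un_res, un_mk, qs_nat, qs_nat]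

theorem qs_injective : Function.Injective (qs g hg E₀) := by
  obtain ⟨σ, hσ, -⟩ := exists_σ g hg s hsg
  refine Function.LeftInverse.injective (g := σ.left.appTop.hom) fun y => ?_
  refine (appTop_comp_apply σ (qY g hg E₀) y).symm.trans ?_
  rw [hσ]
  show (𝟙 Y.left : _ ⟶ _).appTop.hom y = y
  simp [Scheme.Hom.id_app]

omit hsg in
/-- The comparison of functions. -/
def Φ (hπ : ∀ a : Aring E₀, π₀ hg E₀ a = qs g hg E₀ (sA s a)) :
    letI := ((sA s).comp (Aring E₀).subtype).toAlgebra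
    Γ₀ E₀ ⊗[Aring E₀] Γ(Y.left, ⊤) →+* Γ₀ (EtOver.bcObj hg E₀) :=
  letI := ((sA s).comp (Aring E₀).subtype).toAlgebra
  letI : Algebra (Aring E₀) (Γ₀ (EtOver.bcObj hg E₀)) := ((π₀ hg E₀).comp (Aring E₀).subtype).toAlgebra
  (Algebra.TensorProduct.productMap
    ({ toRingHom := π₀ hg E₀, commutes' := fun _ => rfl } : Γ₀ E₀ →ₐ[Aring E₀] Γ₀ (EtOver.bcObj hg E₀))
    ({ toRingHom := qs g hg E₀, commutes' := fun a => (hπ a).symm } :
      Γ(Y.left, ⊤) →ₐ[Aring E₀] Γ₀ (EtOver.bcObj hg E₀))).toRingHom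

theorem bijective_Φ [QuasiSeparatedSpace ↥S] (hs : RepWith @Surjective E₀.obj.hom) (H : Hyp X)
    [IsAffine E₀.obj.left.left] [CompactSpace Y.left] [Y.left.IsSeparated]
    (hπ : ∀ a : Aring E₀, π₀ hg E₀ a = qs g hg E₀ (sA s a)) : Function.Bijective (Φ g hg s hπ) := by
  classical
  letI := ((sA s).comp (Aring E₀).subtype).toAlgebra
  letI : Algebra (Aring E₀) (Γ₀ (EtOver.bcObj hg E₀)) := ((π₀ hg E₀).comp (Aring E₀).subtype).toAlgebra
  haveI := isQuasicoherent_pushO g hg H.qs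
  have hΦ : ∀ b y, Φ g hg s hπ (b ⊗ₜ y) = π₀ hg E₀ b * qs g hg E₀ y := fun b y =>
    Algebra.TensorProduct.productMap_apply_tmul _ _ b y
  constructor
  · rw [injective_iff_map_eq_zero]
    intro x hx
    obtain ⟨T, hT⟩ := TensorProduct.exists_finset x
    let e := T.equivFin
    let b : Fin T.card → Γ₀ E₀ := fun i => (e.symm i).1.1
    let y : Fin T.card → Γ(Y.left, ⊤) := fun i => (e.symm i).1.2
    have hxs : x = ∑ i, b i ⊗ₜ[Aring E₀] y i := by
      rw [hT, ← T.sum_coe_sort, ← e.symm.sum_comp]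
    let m : Fin T.card → sectModEt (pushO g hg) E₀ := fun i => mk g hg E₀ (qs g hg E₀ (y i))
    have hsum : ∀ k : Fin T.card → Γ₀ E₀, un g hg E₀ (∑ i, k i • m i) = ∑ i, π₀ hg E₀ (k i) * qs g hg E₀ (y i) :=
      fun k => by rw [map_sum]; exact Finset.sum_congr rfl fun i _ => un_smul g hg E₀ _ _
    have h0 : ∑ i, b i • m i = 0 := by
      refine un_injective g hg _ ?_
      rw [hsum, map_zero, ← hx, hxs, map_sum]
      exact Finset.sum_congr rfl fun i _ => (hΦ _ _).symm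
    have hrel := mem_span_rel hs H _ _ m (fun i => mk_qs_mem_GM g hg (y i)) b h0
    rw [hxs]
    clear hxs hx hT h0
    let Ψ : (Fin T.card → Γ₀ E₀) →ₗ[Γ₀ E₀] Γ₀ E₀ ⊗[Aring E₀] Γ(Y.left, ⊤) :=
      Fintype.linearCombination (Γ₀ E₀) fun i => (1 : Γ₀ E₀) ⊗ₜ[Aring E₀] y i
    have hΨ : ∀ k, Ψ k = ∑ i, k i ⊗ₜ[Aring E₀] y i := fun k => by
      rw [Fintype.linearCombination_apply]
      exact Finset.sum_congr rfl fun i _ => by rw [TensorProduct.smul_tmul', smul_eq_mul, mul_one]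
    rw [← hΨ, ← LinearMap.mem_ker]
    refine Submodule.span_le.2 ?_ hrel
    rintro k ⟨hk, hk0⟩
    show Ψ k = 0
    have h1 : ∑ i, sA s (k i) * y i = 0 := by
      refine qs_injective g hg s hsg ?_
      have h2 := congrArg (un g hg E₀) hk0
      rw [hsum, map_zero] at h2
      rw [map_zero, map_sum, ← h2]
      exact Finset.sum_congr rfl fun i _ => by rw [map_mul, hπ ⟨k i, hk i⟩]
    rw [hΨ]
    have : ∀ i, k i ⊗ₜ[Aring E₀] y i = (1 : Γ₀ E₀) ⊗ₜ[Aring E₀] ((⟨k i, hk i⟩ : Aring E₀) • y i) := fun i => by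
      rw [← TensorProduct.smul_tmul]
      exact congrArg (· ⊗ₜ[Aring E₀] y i) (mul_one (k i)).symm
    rw [Finset.sum_congr rfl fun i _ => this i, ← TensorProduct.tmul_sum]
    refine (congrArg _ ?_).trans (TensorProduct.tmul_zero _ _)
    exact h1
  · intro r
    have hr : mk g hg E₀ r ∈ Submodule.span (Γ₀ E₀) (GM E₀ (pushO g hg) : Set (sectModEt (pushO g hg) E₀)) := by
      rw [span_GM hs H]
      exact Submodule.mem_top
    rw [← un_mk g hg E₀ r]
    generalize mk g hg E₀ r = z at hr ⊢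
    induction hr using Submodule.span_induction with
    | mem m hm =>
      obtain ⟨y, hy⟩ := un_GM g hg s hsg hm
      exact ⟨1 ⊗ₜ y, by rw [hΦ, map_one, one_mul, hy]⟩
    | zero => exact ⟨0, by rw [map_zero, map_zero]⟩
    | add a b _ _ ha hb =>
      obtain ⟨p, hp⟩ := ha
      obtain ⟨q, hq⟩ := hb
      exact ⟨p + q, by rw [map_add, map_add, hp, hq]⟩
    | smul c a _ ha =>
      obtain ⟨p, hp⟩ := ha
      exact ⟨(c ⊗ₜ 1) * p, by rw [map_mul, hΦ, map_one, mul_one, hp, un_smul]⟩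

end Groth.L09.EtSub
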