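import Groth.Agent.L09.EtSub.FpKill
import Groth.Agent.L09.EtSub.Push

/-!
# Making modules finitely presented across a square
-/

universe u

open CategoryTheory CategoryTheory.Limits AlgebraicGeometry Opposite AlgSp TopologicalSpace

set_option autoImplicit false
set_option linter.style.haveILetI false
set_option backward.isDefEq.respectTransparency false
set_option backward.isDefEq.respectTransparency.types false

noncomputable section

namespace Groth.L09.EtSub

open Groth.L09.ModEt Groth.L09.EtMV Groth.L09.EtAlt Groth.L09.Pull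

variable {S : Scheme.{u}} {X : Sp S} (V : EtOver X)

/-- The space of the piece. -/
abbrev spV : Sp S := (yon S).obj V.obj.left

theorem hpV : RepWith @Etale V.obj.hom := V.property

/-- The whole piece as an object of its site. -/
def topV : EtOver (spV V) :=
  EtOver.mk (U := V.obj.left) (𝟙 _) ((repWith_isMultiplicative (S := S) @Etale).id_mem _)

/-- The map of an object to the whole piece. -/
def tY (Z : EtOver (spV V)) : Z ⟶ topV V :=
  EtOver.homMk ((yon S).preimage Z.obj.hom) ((congrArg (· ≫ 𝟙 _) (Functor.map_preimage _ _)).trans (Category.comp_id _))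

theorem tY_unique {Z : EtOver (spV V)} (f : Z ⟶ topV V) : f = tY V Z := by
  refine EtOver.hom_ext _ _ ((yon S).map_injective ?_)
  show (yon S).map f.hom.left = (yon S).map ((yon S).preimage Z.obj.hom)
  rw [Functor.map_preimage]
  exact (Category.comp_id _).symm.trans (EtOver.w f)

/-- The map of a pushed object to the piece. -/
def toV (Z : EtOver (spV V)) : pushObj (hpV V) Z ⟶ V :=
  EtOver.homMk ((yon S).preimage Z.obj.hom) (congrArg (· ≫ V.obj.hom) (Functor.map_preimage _ _))

theorem toV_nat {Z Z' : EtOver (spV V)} (f : Z' ⟶ Z) : pushMap (hpV V) f ≫ toV V Z = toV V Z' := by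
  refine EtOver.hom_ext _ _ ((yon S).map_injective ?_)
  show (yon S).map (f.hom.left ≫ (yon S).preimage Z.obj.hom) = (yon S).map ((yon S).preimage Z'.obj.hom)
  rw [Functor.map_comp, Functor.map_preimage, Functor.map_preimage]
  exact EtOver.w f

/-- An object over the piece as an object of its site. -/
def zObj {W : EtOver X} (k : W ⟶ V) : EtOver (spV V) :=
  EtOver.mk (U := W.obj.left) ((yon S).map k.hom.left) ((repWith_yon_map_iff _ _).2 (EtOver.etale_left k))

/-- The identification. -/
def zIso {W : EtOver X} (k : W ⟶ V) : pushObj (hpV V) (zObj V k) ⟶ W :=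
  EtOver.homMk (𝟙 _) (by
    show (yon S).map (𝟙 _) ≫ W.obj.hom = (yon S).map k.hom.left ≫ V.obj.hom
    rw [CategoryTheory.Functor.map_id, Category.id_comp, EtOver.w k])

/-- Its inverse. -/
def zInv {W : EtOver X} (k : W ⟶ V) : W ⟶ pushObj (hpV V) (zObj V k) :=
  EtOver.homMk (𝟙 _) (by
    show (yon S).map (𝟙 _) ≫ (yon S).map k.hom.left ≫ V.obj.hom = W.obj.hom
    rw [CategoryTheory.Functor.map_id, Category.id_comp, EtOver.w k])

theorem zInv_zIso {W : EtOver X} (k : W ⟶ V) : zInv V k ≫ zIso V k = 𝟙 W :=
  EtOver.hom_ext _ _ (Category.id_comp _)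

theorem zIso_zInv {W : EtOver X} (k : W ⟶ V) : zIso V k ≫ zInv V k = 𝟙 _ :=
  EtOver.hom_ext _ _ (Category.id_comp _)

theorem toV_zObj {W : EtOver X} (k : W ⟶ V) : toV V (zObj V k) = zIso V k ≫ k :=
  EtOver.hom_ext _ _ (((yon S).preimage_map k.hom.left).trans (Category.id_comp _).symm)

/-- The graph. -/
def graph {W : EtOver X} (k : W ⟶ V) : zObj V k ⟶ EtOver.bcObj (hpV V).1 W :=
  diag (hpV V) (hpV V).1 (zObj V k) ≫ EtOver.bcMap (hpV V).1 (zIso V k)

theorem graph_coun {W : EtOver X} (k : W ⟶ V) :
    pushMap (hpV V) (graph V k) ≫ coun (hpV V) (hpV V).1 W = zIso V k := by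
  rw [graph, show pushMap (hpV V) (diag (hpV V) (hpV V).1 (zObj V k) ≫ EtOver.bcMap (hpV V).1 (zIso V k)) =
    pushMap (hpV V) (diag (hpV V) (hpV V).1 (zObj V k)) ≫ pushMap (hpV V) (EtOver.bcMap (hpV V).1 (zIso V k))
    from EtOver.hom_ext _ _ rfl, Category.assoc,
    show pushMap (hpV V) (EtOver.bcMap (hpV V).1 (zIso V k)) ≫ coun (hpV V) (hpV V).1 W =
      coun (hpV V) (hpV V).1 _ ≫ zIso V k from EtOver.hom_ext _ _ (EtOver.bcMap_snd (hpV V).1 _),
    ← Category.assoc, show pushMap (hpV V) (diag (hpV V) (hpV V).1 (zObj V k)) ≫ coun (hpV V) (hpV V).1 _ = 𝟙 _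
      from EtOver.hom_ext _ _ ((hpV V).1.lift_snd _ _ _), Category.id_comp]

instance mono_graph {W : EtOver X} (k : W ⟶ V) : Mono (graph V k) := by
  refine ⟨fun {Z} f g h => EtOver.hom_ext _ _ ?_⟩
  have h1 : pushMap (hpV V) f ≫ zIso V k = pushMap (hpV V) g ≫ zIso V k := by
    rw [← graph_coun V k, ← Category.assoc, ← Category.assoc,
      show pushMap (hpV V) f ≫ pushMap (hpV V) (graph V k) = pushMap (hpV V) (f ≫ graph V k) from EtOver.hom_ext _ _ rfl,
      show pushMap (hpV V) g ≫ pushMap (hpV V) (graph V k) = pushMap (hpV V) (g ≫ graph V k) from EtOver.hom_ext _ _ rfl,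
      h]
  exact ((Category.comp_id _).symm.trans (congrArg (fun m => m.hom.left) h1)).trans (Category.comp_id _)

variable {L' L : Opens (Points X)}

/-- Points of a base change lie over the smaller region or on the graph. -/
theorem mem_or_graph (h : Sq L' L V) {W : EtOver X} (k : W ⟶ V)
    (w : (EtOver.bcObj (hpV V).1 W).obj.left.left) :
    w ∈ preOpen L' (pushObj (hpV V) (EtOver.bcObj (hpV V).1 W)) ∨ w ∈ Set.range (graph V k).hom.left.left := by
  let P := pushObj (hpV V) (EtOver.bcObj (hpV V).1 W)
  let w' : P.obj.left.left := w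
  by_cases hw : Points.ofPt P.obj.hom w' ∈ L'
  · exact Or.inl hw
  refine Or.inr ?_
  let g₁ : P ⟶ V := toV V (EtOver.bcObj (hpV V).1 W)
  let g₂ : P ⟶ V := coun (hpV V) (hpV V).1 W ≫ k
  obtain ⟨z, hz⟩ := h.sep P g₁ g₂ w' hw
  let c := EtOver.pullbackFst (pl g₁ g₂) (diagU V)
  have hc : c ≫ g₁ = c ≫ g₂ := by
    have hc := EtOver.pullback_condition (pl g₁ g₂) (diagU V)
    have h₁ := congrArg (fun m => m ≫ EtOver.prodFst V V) hc
    have h₂ := congrArg (fun m => m ≫ EtOver.prodSnd V V) hc
    simp only [diagU, Category.assoc, pl_fst, pl_snd] at h₁ h₂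
    exact h₁.trans h₂.symm
  let q := c ≫ coun (hpV V) (hpV V).1 W ≫ zInv V k
  have key : c.hom.left = q.hom.left ≫ (graph V k).hom.left := by
    refine hom_extY V.obj.hom (hpV V).1 ?_ ?_
    · have e : c ≫ g₁ = (q ≫ pushMap (hpV V) (graph V k)) ≫ g₁ := by
        rw [Category.assoc, toV_nat, toV_zObj, hc]
        simp only [q, g₂, Category.assoc]
        rw [← Category.assoc (zInv V k), zInv_zIso, Category.id_comp]
      exact congrArg (fun m => m.hom.left) e
    · have e : c ≫ coun (hpV V) (hpV V).1 W = (q ≫ pushMap (hpV V) (graph V k)) ≫ coun (hpV V) (hpV V).1 W := by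
        rw [Category.assoc, graph_coun]
        simp only [q, Category.assoc]
        rw [zInv_zIso, Category.comp_id]
      exact congrArg (fun m => m.hom.left) e
  refine ⟨q.hom.left.left z, ?_⟩
  refine Eq.trans ?_ hz
  have key' : c.hom.left.left = q.hom.left.left ≫ (graph V k).hom.left.left := congrArg (fun m => Over.Hom.left m) key
  have := DFunLike.congr_fun (congrArg (fun m : (_ : Scheme.{u}) ⟶ _ => m.toLRSHom'.base.hom) key') z
  exact this.symm

variable {V} {N : ModEt X} [N.IsQuasicoherent] {n : ℕ} (u : Fin n → sectModEt N V)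

theorem vres_comp {E E' E'' : EtOver X} (h : E'' ⟶ E') (g : E' ⟶ E) (f : Fin n → Γ₀ E) :
    vres (h ≫ g) f = vres h (vres g f) := rfl

theorem vres_mem_span {E E' : EtOver X} (g : E' ⟶ E) {T : Set (Fin n → Γ₀ E)} {f : Fin n → Γ₀ E}
    (hf : f ∈ Submodule.span (Γ₀ E) T) : vres g f ∈ Submodule.span (Γ₀ E') (vres g '' T) := by
  induction hf using Submodule.span_induction with
  | mem x hx => exact Submodule.subset_span ⟨x, hx, rfl⟩
  | zero =>
    rw [show vres g (0 : Fin n → Γ₀ E) = 0 from funext fun i => map_zero (pb g)]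
    exact zero_mem _
  | add x y _ _ hx hy =>
    rw [show vres g (x + y) = vres g x + vres g y from funext fun i => map_add (pb g) _ _]
    exact add_mem hx hy
  | smul a x _ hx =>
    rw [show vres g (a • x) = pb g a • vres g x from funext fun i => map_mul (pb g) _ _]
    exact Submodule.smul_mem _ _ hx

/-- Generators and relations on objects over the piece in the smaller region. -/
theorem span_and_relations [IsAffine V.obj.left.left] {κ : Type*} {D : κ → EtOver X}
    [∀ i, IsAffine (D i).obj.left.left] (d : ∀ i, D i ⟶ openObj V (preOpen L' V)) (hd : IsCover d)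
    (hu : ∀ i, Submodule.span (Γ₀ (D i)) (Set.range fun j => res N (d i ≫ openι V (preOpen L' V)) (u j)) = ⊤)
    (C : Finset (Fin n → Γ₀ V))
    (hC : ∀ (i : κ) (y : Fin n → Γ₀ (D i)), comb (fun j => res N (d i ≫ openι V (preOpen L' V)) (u j)) y = 0 →
      y ∈ Submodule.span (Γ₀ (D i)) (vres (d i ≫ openι V (preOpen L' V)) '' (C : Set (Fin n → Γ₀ V))))
    {W : EtOver X} [IsAffine W.obj.left.left] (hW : InB L' W) (k : W ⟶ V) :
    Function.Surjective (comb fun j => res N k (u j)) ∧
      ∀ y, comb (fun j => res N k (u j)) y = 0 →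
        y ∈ Submodule.span (Γ₀ W) (vres k '' (C : Set (Fin n → Γ₀ V))) := by
  let e : ∀ i, D i ⟶ V := fun i => d i ≫ openι V (preOpen L' V)
  have hcov : ∀ w : W.obj.left.left, ∃ i, w ∈ Set.range (EtOver.pullbackFst k (e i)).hom.left.left := by
    intro w
    have hw : k.hom.left.left w ∈ (preOpen L' V : Set V.obj.left.left) := by
      show Points.ofPt V.obj.hom _ ∈ L'
      rw [← ofPt_map]
      exact hW w
    obtain ⟨i, v, hv⟩ := hd ⟨_, hw⟩
    obtain ⟨p, hp, -⟩ := Scheme.exists_preimage_of_isPullback
      ((EtOver.isPullback k (e i)).map (EtOver.toScheme X)) w v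
        ((congrArg (openι V (preOpen L' V)).hom.left.left hv).trans (rfl : _ = k.hom.left.left w)).symm
    exact ⟨i, p, hp⟩
  refine ⟨?_, fun y hy => ?_⟩
  · rw [← LinearMap.range_eq_top, range_comb, eq_top_iff]
    intro z _
    refine EtSub.mem_of_local N _ fun w => ?_
    obtain ⟨i, hi⟩ := hcov w
    haveI := isAffine_pullback k (e i)
    refine ⟨_, inferInstance, EtOver.pullbackFst k (e i), hi, ?_⟩
    have h1 : res N (EtOver.pullbackFst k (e i)) z ∈
        push N (EtOver.pullbackSnd k (e i)) (Submodule.span (Γ₀ (D i)) (Set.range fun j => res N (e i) (u j))) := by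
      rw [hu i]
      exact mem_span_res_univ N (EtOver.pullbackSnd k (e i)) _
    rw [push_span, ← Set.range_comp] at h1 ⊢
    simp only [Function.comp_def, ← res_comp] at h1 ⊢
    rw [EtOver.pullback_condition]
    exact h1
  · have : y ∈ Submodule.span (Γ₀ W) (Set.range fun c : (C : Set (Fin n → Γ₀ V)) => vres k c.1) := by
      refine vec_mem_of_local _ y fun w => ?_
      obtain ⟨i, hi⟩ := hcov w
      haveI := isAffine_pullback k (e i)
      refine ⟨_, inferInstance, EtOver.pullbackFst k (e i), hi, ?_⟩
      have h0 : comb (fun j => res N (EtOver.pullbackSnd k (e i)) (res N (e i) (u j)))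
          (vres (EtOver.pullbackFst k (e i)) y) = 0 := by
        simp only [← res_comp, ← EtOver.pullback_condition]
        simp only [res_comp]
        rw [← res_comb, hy, map_zero]
      refine (Submodule.span_le.2 ?_) (mem_span_relations N (EtOver.pullbackSnd k (e i)) _ _ h0)
      rintro _ ⟨x, hx, rfl⟩
      refine Submodule.span_mono ?_ (vres_mem_span (EtOver.pullbackSnd k (e i)) (hC i x hx))
      rintro _ ⟨_, ⟨c, hc, rfl⟩, rfl⟩
      refine ⟨⟨c, hc⟩, ?_⟩
      show vres (EtOver.pullbackFst k (e i)) (vres k c) = vres (EtOver.pullbackSnd k (e i)) (vres (e i) c)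
      rw [← vres_comp, ← vres_comp, EtOver.pullback_condition]
    rwa [Set.image_eq_range]

/-- Bijectivity on all objects over a region from affine ones. -/
theorem bijective_of_affine {Q R : ModEt (spV V)} (π : Q ⟶ R) (L' : Opens (Points X))
    (h : ∀ (Z : EtOver (spV V)) [IsAffine Z.obj.left.left], InB L' (pushObj (hpV V) Z) → Function.Bijective (sapp π Z))
    {Z : EtOver (spV V)} (hZ : InB L' (pushObj (hpV V) Z)) : Function.Bijective (sapp π Z) := by
  have hinj : ∀ {Z : EtOver (spV V)}, InB L' (pushObj (hpV V) Z) → Function.Injective (sapp π Z) := by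
    intro Z hZ s t hst
    refine eq_of_cover Q (Groth.L09.Pull.isCover_affineOpens Z) fun B => ?_
    haveI : IsAffine (openObj Z B.1).obj.left.left := B.2
    exact (h _ (hZ.comp (pushMap (hpV V) (openι Z B.1)))).1 (by rw [sapp_res, sapp_res, hst])
  refine ⟨hinj hZ, fun r => ?_⟩
  choose q hq using fun B : Z.obj.left.left.affineOpens =>
    haveI : IsAffine (openObj Z B.1).obj.left.left := B.2
    (h _ (hZ.comp (pushMap (hpV V) (openι Z B.1)))).2 (res R (openι Z B.1) r)
  obtain ⟨s, hs⟩ := exists_glue Q (Groth.L09.Pull.isCover_affineOpens Z) q fun B B' => by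
    refine hinj (hZ.comp (pushMap (hpV V) (EtOver.pullbackFst (openι Z B.1) (openι Z B'.1) ≫ openι Z B.1))) ?_
    rw [sapp_res, sapp_res, hq, hq]
    exact res_congr R (EtOver.pullback_condition _ _) r
  refine ⟨s, eq_of_cover R (Groth.L09.Pull.isCover_affineOpens Z) fun B => ?_⟩
  rw [← sapp_res, hs, hq]

variable {Q : ModEt (spV V)} (π : Q ⟶ (restr (hpV V)).obj N)

instance zModule (Q : ModEt (spV V)) {W : EtOver X} (k : W ⟶ V) : Module (Γ₀ W) (sectModEt Q (zObj V k)) :=
  secModule Q (zObj V k)

/-- The comparison of the amalgam with the module on the piece. -/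
def graphComp {W : EtOver X} (k : W ⟶ V) :
    sectModEt (amalg (hpV V) π) W →ₗ[Γ₀ W] sectModEt Q (zObj V k) where
  toFun z := res Q (graph V k) (second (hpV V) π W z)
  map_add' z z' := by
    rw [second_add]
    exact map_add (res Q (graph V k)) _ _
  map_smul' b z := by
    rw [second_smul]
    refine (res_smul Q (graph V k) _ _).trans ?_
    rw [show pb (graph V k) (π₀ (hpV V).1 W b) = b from by
      show pb (pushMap (hpV V) (graph V k)) (pb (coun (hpV V) (hpV V).1 W) b) = b
      rw [← pb_comp, graph_coun]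
      show (zIso V k).hom.left.left.appTop.hom b = b
      simp [zIso, Scheme.Hom.id_app]
      rfl]
    rfl

omit [N.IsQuasicoherent] in
theorem sapp_graphComp {W : EtOver X} (k : W ⟶ V) (z : sectModEt (amalg (hpV V) π) W) :
    sapp π (zObj V k) (graphComp π k z) = res N (zIso V k) (sapp (amalgFst (hpV V) π) W z) := by
  refine (sapp_res π (graph V k) _).trans ?_
  refine (congrArg (res ((restr (hpV V)).obj N) (graph V k)) (amalg_condition (hpV V) π W z)).trans ?_
  show res N (pushMap (hpV V) (graph V k)) _ = _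
  rw [← res_comp, graph_coun]

/-- The two pieces of a base change. -/
def piece (L' : Opens (Points X)) {W : EtOver X} (k : W ⟶ V) : Option PUnit.{1} → EtOver (spV V)
  | none => zObj V k
  | some _ => openObj (EtOver.bcObj (hpV V).1 W) (preOpen L' (pushObj (hpV V) (EtOver.bcObj (hpV V).1 W)))

/-- Their maps. -/
def pieceι (L' : Opens (Points X)) {W : EtOver X} (k : W ⟶ V) :
    ∀ o, piece L' k o ⟶ EtOver.bcObj (hpV V).1 W
  | none => graph V k
  | some _ => openι _ _

omit [N.IsQuasicoherent] in
theorem inB_piece {W : EtOver X} (k : W ⟶ V) (x : PUnit.{1}) :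
    InB L' (pushObj (hpV V) (piece L' k (some x))) := by
  intro w
  let P := pushObj (hpV V) (EtOver.bcObj (hpV V).1 W)
  let f : pushObj (hpV V) (piece L' k (some x)) ⟶ P := pushMap (hpV V) (pieceι L' k (some x))
  rw [ofPt_map f w]
  exact Subtype.prop (α := P.obj.left.left) (p := fun v => Points.ofPt P.obj.hom v ∈ L') w

omit [N.IsQuasicoherent] in
theorem bijective_graphComp (h : Sq L' L V)
    (hπ : ∀ {Z : EtOver (spV V)}, InB L' (pushObj (hpV V) Z) → Function.Bijective (sapp π Z))
    {W : EtOver X} (k : W ⟶ V) : Function.Bijective (graphComp π k) := by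
  have hcover : IsCover (pieceι L' k) := by
    intro w
    rcases mem_or_graph V h k w with hw | hw
    · exact ⟨some PUnit.unit, ⟨w, hw⟩, rfl⟩
    · exact ⟨none, hw⟩
  constructor
  · intro z z' hzz
    have h₁ : sapp (amalgFst (hpV V) π) W z = sapp (amalgFst (hpV V) π) W z' := by
      have e := congrArg (fun q => res N (zInv V k) (sapp π (zObj V k) q)) hzz
      simp only [sapp_graphComp] at e
      rwa [← res_comp, ← res_comp, zInv_zIso, res_id, res_id] at e
    refine amalg_ext (hpV V) π h₁ (eq_of_cover Q hcover fun o => ?_)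
    match o with
    | none => exact hzz
    | some x =>
      refine (hπ (inB_piece k x)).1 ?_
      rw [sapp_res, sapp_res, amalg_condition, amalg_condition, h₁]
  · intro y
    let a : sectModEt N W := res N (zInv V k) (sapp π (zObj V k) y)
    let b : sectModEt ((restr (hpV V)).obj N) (EtOver.bcObj (hpV V).1 W) := res N (coun (hpV V) (hpV V).1 W) a
    have hb : sapp π (zObj V k) y = res ((restr (hpV V)).obj N) (graph V k) b := by
      show _ = res N (pushMap (hpV V) (graph V k)) (res N (coun (hpV V) (hpV V).1 W) (res N (zInv V k) _))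
      rw [← res_comp, ← res_comp, graph_coun, zIso_zInv, res_id]
    choose w hw using fun x : PUnit.{1} =>
      (hπ (inB_piece k x)).2 (res ((restr (hpV V)).obj N) (pieceι L' k (some x)) b)
    let v : ∀ o, sectModEt Q (piece L' k o) := fun o =>
      match o with
      | none => y
      | some x => w x
    have hv : ∀ o, sapp π (piece L' k o) (v o) = res ((restr (hpV V)).obj N) (pieceι L' k o) b := fun o =>
      match o with
      | none => hb
      | some x => hw x
    have hInB : ∀ o o', (o ≠ none ∨ o' ≠ none) →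
        InB L' (pushObj (hpV V) (EtOver.pullbackObj (pieceι L' k o) (pieceι L' k o'))) := by
      intro o o' ho
      match o, o', ho with
      | some x, o', _ => exact (inB_piece k x).comp (pushMap (hpV V) (EtOver.pullbackFst (pieceι L' k (some x)) (pieceι L' k o')))
      | none, some x, _ => exact (inB_piece k x).comp (pushMap (hpV V) (EtOver.pullbackSnd (pieceι L' k none) (pieceι L' k (some x))))
      | none, none, ho => exact absurd rfl (ho.elim id id)
    obtain ⟨x, hx⟩ := exists_glue Q hcover v fun o o' => by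
      by_cases hn : o = none ∧ o' = none
      · obtain ⟨rfl, rfl⟩ := hn
        haveI : Mono (pieceι L' k none) := inferInstanceAs (Mono (graph V k))
        rw [(cancel_mono (pieceι L' k none)).1 (EtOver.pullback_condition (pieceι L' k none) (pieceι L' k none))]
      · refine (hπ (hInB o o' (not_and_or.1 hn))).1 ?_
        rw [sapp_res, sapp_res, hv, hv]
        exact res_congr _ (EtOver.pullback_condition _ _) b
    obtain ⟨z, -, hz⟩ := exists_amalg (hpV V) π (E := W) a x (eq_of_cover _ hcover fun o => by
      rw [← sapp_res, hx o]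
      exact hv o)
    refine ⟨z, ?_⟩
    show res Q (graph V k) _ = y
    rw [hz]
    exact hx none

end Groth.L09.EtSub
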