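import Groth.Agent.L09.EtSub.Colimits
import Groth.Agent.L09.EtSub.FpMain

/-!
# Systems of finitely presented modules
-/

universe u

open CategoryTheory CategoryTheory.Limits AlgebraicGeometry Opposite AlgSp

set_option autoImplicit false
set_option linter.style.haveILetI false
set_option backward.isDefEq.respectTransparency false
set_option backward.isDefEq.respectTransparency.types false

noncomputable section

namespace Groth.L09.EtSub

open Groth.L09.ModEt Groth.L23.SubQcoh

variable {S : Scheme.{u}} {X : Sp S}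

theorem isFinitePresentation_of_affine (P : ModEt X) [P.IsQuasicoherent]
    (h : ∀ (E : EtOver X) [IsAffine E.obj.left.left], Module.FinitePresentation (Γ₀ E) (sectModEt P E)) :
    P.IsFinitePresentation :=
  Groth.L23.FP.isFinitePresentation_of_cover P fun E e => by
    obtain ⟨W, hW, g, hg, -⟩ := exists_affine_nhd E e ⊤ trivial
    exact ⟨W, hW, g, hg, @h W hW⟩

theorem isQuasicoherent_biproduct {ι : Type (u + 1)} [Finite ι] (f : ι → ModEt X) (hf : ∀ i, (f i).IsQuasicoherent) :
    (⨁ f).IsQuasicoherent :=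
  (SheafOfModules.isQuasicoherent (OEtRing X)).prop_of_iso (biproduct.isoCoproduct f).symm
    (isQuasicoherent_colimit (Discrete.functor f) fun j => hf j.as)

theorem finitePresentation_biproduct {ι : Type (u + 1)} [Finite ι] (f : ι → ModEt X) (E : EtOver X)
    (hf : ∀ i, Module.FinitePresentation (Γ₀ E) (sectModEt (f i) E)) :
    Module.FinitePresentation (Γ₀ E) (sectModEt (⨁ f) E) := by
  classical
  cases nonempty_fintype ι
  let e : sectModEt (⨁ f) E →ₗ[Γ₀ E] ∀ i, sectModEt (f i) E := LinearMap.pi fun i => sapp (biproduct.π f i) E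
  have he : Function.Bijective e := by
    refine ⟨(injective_iff_map_eq_zero _).2 fun x hx => ?_, fun v => ⟨∑ i, sapp (biproduct.ι f i) E (v i), ?_⟩⟩
    · have hx' : ∀ i, sapp (biproduct.π f i) E x = 0 := fun i => congrFun hx i
      rw [← sapp_id (A := ⨁ f) E x]
      erw [show (𝟙 (⨁ f)) = ∑ j, biproduct.π f j ≫ biproduct.ι f j from
        (IsBilimit.total (biproduct.isBilimit f)).symm, sapp_sum]
      refine Finset.sum_eq_zero fun i _ => ?_
      rw [sapp_comp, hx', map_zero]
    · funext j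
      show sapp (biproduct.π f j) E _ = v j
      rw [map_sum, Finset.sum_eq_single j]
      · rw [← sapp_comp, biproduct.ι_π_self]
        rfl
      · intro i _ hi
        rw [← sapp_comp, biproduct.ι_π_ne _ hi]
        rfl
      · exact fun h => absurd (Finset.mem_univ j) h
  exact Module.FinitePresentation.of_equiv (LinearEquiv.ofBijective e he).symm

/-- Relations of finite type among a module mapping to another. -/
structure KillData {B M : ModEt X} (φ : B ⟶ M) where
  /-- the relations -/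
  A : AffSub B
  fg : ∀ (E : EtOver X) [IsAffine E.obj.left.left], (A.P E).FG
  le : ∀ (E : EtOver X) [IsAffine E.obj.left.left], ∀ x ∈ A.P E, sapp φ E x = 0

variable {B M : ModEt X} {φ : B ⟶ M}

theorem KillData.ext' {a b : KillData φ}
    (h : ∀ (E : EtOver X) [IsAffine E.obj.left.left], a.A.P E = b.A.P E) : a = b := by
  obtain ⟨⟨P, _, _⟩, _, _⟩ := a
  obtain ⟨⟨Q, _, _⟩, _, _⟩ := b
  obtain rfl : @P = @Q := by
    funext E hE
    exact @h E hE
  rfl

/-- No relations. -/
def KillData.none : KillData φ where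
  A := bot B
  fg _ _ := Submodule.fg_bot
  le E _ x hx := by rw [(Submodule.mem_bot _).1 hx, map_zero]

variable [B.IsQuasicoherent]

theorem sapp_ι_mem (A : AffSub B) (E : EtOver X) [IsAffine E.obj.left.left] (x : sectModEt A.mod E) :
    sapp A.ι E x ∈ A.P E :=
  (Set.ext_iff.1 (A.range_ι E) _).1 ⟨x, rfl⟩

theorem KillData.ι_comp (a : KillData φ) : a.A.ι ≫ φ = 0 := by
  refine hom_ext_sapp fun E x => eq_of_cover M (Groth.L09.Pull.isCover_affineOpens E) fun W => ?_
  haveI : IsAffine (openObj E W.1).obj.left.left := W.2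
  rw [← sapp_res, sapp_comp, a.le _ _ (sapp_ι_mem a.A _ _)]
  exact (map_zero (res M (openι E W.1))).symm

/-- The quotient by relations. -/
abbrev KillData.stage (a : KillData φ) : ModEt X := cokernel a.A.ι

/-- The map from a quotient. -/
abbrev KillData.desc (a : KillData φ) : a.stage ⟶ M := cokernel.desc _ φ a.ι_comp

theorem KillData.isQuasicoherent_stage (a : KillData φ) : a.stage.IsQuasicoherent := by
  haveI := a.A.isQuasicoherent
  exact Groth.L23.QcClosure.isQuasicoherent_cokernel a.A.ι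

theorem KillData.isFinitePresentation_stage (a : KillData φ)
    (hB : ∀ (E : EtOver X) [IsAffine E.obj.left.left], Module.FinitePresentation (Γ₀ E) (sectModEt B E)) :
    a.stage.IsFinitePresentation := by
  haveI := a.isQuasicoherent_stage
  haveI := a.A.isQuasicoherent
  refine isFinitePresentation_of_affine _ fun E _ => ?_
  haveI := hB E
  haveI := isFiniteType_mod a.A fun E _ => a.fg E
  haveI := finite_sectModEt a.A.mod E
  refine Module.finitePresentation_of_surjective (sapp (cokernel.π a.A.ι) E) (surjective_sapp_epi _ E) ?_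
  rw [show LinearMap.ker (sapp (cokernel.π a.A.ι) E) = LinearMap.range (sapp a.A.ι E) from ?_]
  · exact Module.Finite.iff_fg.1 (Module.Finite.range _)
  · refine le_antisymm (fun x hx => exists_preimage_of_cokernel a.A.ι E x hx) ?_
    rintro _ ⟨w, rfl⟩
    exact sapp_g_f (C := ShortComplex.mk _ _ (cokernel.condition a.A.ι)) E w

theorem KillData.sapp_π_eq_zero (a : KillData φ) {E : EtOver X} [IsAffine E.obj.left.left] {x : sectModEt B E}
    (hx : x ∈ a.A.P E) : sapp (cokernel.π a.A.ι) E x = 0 := by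
  obtain ⟨w, rfl⟩ := exists_sapp_ι a.A hx
  exact sapp_g_f (C := ShortComplex.mk _ _ (cokernel.condition a.A.ι)) E w

variable {B' : ModEt X} [B'.IsQuasicoherent] {φ' : B' ⟶ M} (f : B ⟶ B') (hf : f ≫ φ' = φ)

/-- Relations of the target containing the images of those of the source. -/
def KillData.Le (a : KillData φ) (a' : KillData φ') : Prop :=
  ∀ (E : EtOver X) [IsAffine E.obj.left.left], ∀ x ∈ a.A.P E, sapp f E x ∈ a'.A.P E

theorem KillData.map_zero_of_le {a : KillData φ} {a' : KillData φ'} (h : a.Le f a') :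
    a.A.ι ≫ f ≫ cokernel.π a'.A.ι = 0 := by
  refine hom_ext_sapp fun E x => eq_of_cover _ (Groth.L09.Pull.isCover_affineOpens E) fun W => ?_
  haveI : IsAffine (openObj E W.1).obj.left.left := W.2
  rw [← sapp_res, sapp_comp, sapp_comp, a'.sapp_π_eq_zero (h _ _ (sapp_ι_mem a.A _ _))]
  exact (map_zero (res a'.stage (openι E W.1))).symm

/-- The map of quotients. -/
abbrev KillData.map {a : KillData φ} {a' : KillData φ'} (h : a.Le f a') : a.stage ⟶ a'.stage :=
  cokernel.desc _ (f ≫ cokernel.π a'.A.ι) (KillData.map_zero_of_le f h)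

include hf in
theorem KillData.map_desc {a : KillData φ} {a' : KillData φ'} (h : a.Le f a') :
    KillData.map f h ≫ a'.desc = a.desc := by
  rw [← cancel_epi (cokernel.π a.A.ι)]
  simp [hf]

include hf in
/-- Relations can be pushed forward and enlarged. -/
theorem KillData.exists_sup (a : KillData φ) (a' : KillData φ') :
    ∃ c : KillData φ', a.Le f c ∧ ∀ (E : EtOver X) [IsAffine E.obj.left.left], a'.A.P E ≤ c.A.P E := by
  haveI := a.A.isQuasicoherent
  haveI := isFiniteType_mod a.A fun E _ => a.fg E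
  refine ⟨⟨sup (ofHom (a.A.ι ≫ f)) a'.A, fun E _ => ?_, fun E _ x hx => ?_⟩, fun E _ x hx => ?_,
    fun E _ => le_sup_right⟩
  · haveI := finite_sectModEt a.A.mod E
    exact (Module.Finite.iff_fg.1 (Module.Finite.range _)).sup (a'.fg E)
  · obtain ⟨y, ⟨w, rfl⟩, z, hz, rfl⟩ := Submodule.mem_sup.1 hx
    rw [map_add, a'.le E z hz, ← sapp_comp, Category.assoc, hf, a.ι_comp]
    exact (add_zero _).trans rfl
  · obtain ⟨w, rfl⟩ := exists_sapp_ι a.A hx
    exact Submodule.mem_sup_left ⟨w, rfl⟩

theorem KillData.exists_kill [M.IsQuasicoherent] [QuasiSeparatedSpace ↥S] (hX : IsAlgSpace X)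
    (hqc : IsQuasiCompactSp X) (hqs : IsQuasiSeparatedSp X) (a : KillData φ) {W : EtOver X}
    [IsAffine W.obj.left.left] (x : sectModEt a.stage W) (hx : sapp a.desc W x = 0) :
    ∃ a' : KillData φ, ∃ h : a.Le (𝟙 B) a', sapp (KillData.map (𝟙 B) h) W x = 0 := by
  haveI := a.isQuasicoherent_stage
  haveI := a.A.isQuasicoherent
  obtain ⟨y, rfl⟩ := surjective_sapp_epi (cokernel.π a.A.ι) W x
  rw [← sapp_comp, cokernel.π_desc] at hx
  haveI := Groth.L23.QcClosure.isQuasicoherent_kernel φ
  obtain ⟨z, hz⟩ := ((exact_sapp (C := ShortComplex.mk _ _ (kernel.condition φ))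
    (ShortComplex.exact_of_f_is_kernel _ (kernelIsKernel φ)) inferInstance W).2 y).1 hx
  obtain ⟨K, hK, hzK⟩ := exists_affSub_fg (kernel φ) hX hqc hqs {z}
  haveI := K.isQuasicoherent
  haveI := isFiniteType_mod K hK
  let a₁ : KillData φ :=
    { A := ofHom (K.ι ≫ kernel.ι φ)
      fg := fun E _ => by
        haveI := finite_sectModEt K.mod E
        exact Module.Finite.iff_fg.1 (Module.Finite.range _)
      le := fun E _ v hv => by
        obtain ⟨w, rfl⟩ := hv
        rw [← sapp_comp, Category.assoc, kernel.condition, comp_zero]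
        rfl }
  obtain ⟨c, hc, hc₁⟩ := KillData.exists_sup (𝟙 B) (φ' := φ) (Category.id_comp φ) a a₁
  refine ⟨c, hc, ?_⟩
  rw [← sapp_comp, cokernel.π_desc, sapp_comp, sapp_id]
  refine c.sapp_π_eq_zero (hc₁ W ?_)
  obtain ⟨w, hw⟩ := exists_sapp_ι K (hzK z (Finset.mem_singleton_self z))
  exact ⟨w, by rw [sapp_comp, hw, hz]⟩

omit [B.IsQuasicoherent] [B'.IsQuasicoherent] in
/-- The affine sections coming from a finitely presented module. -/
theorem exists_fp_epi [QuasiSeparatedSpace ↥S] (hX : IsAlgSpace X) (hqc : IsQuasiCompactSp X)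
    (hqs : IsQuasiSeparatedSp X) (M : ModEt X) [M.IsQuasicoherent] [M.IsFiniteType] :
    ∃ (P : ModEt X) (ψ : P ⟶ M), P.IsQuasicoherent ∧
      (∀ (E : EtOver X) [IsAffine E.obj.left.left], Module.FinitePresentation (Γ₀ E) (sectModEt P E)) ∧
      ∀ (W : EtOver X) [IsAffine W.obj.left.left], Function.Surjective (sapp ψ W) := by
  classical
  obtain ⟨E₀, hE₀, hsur⟩ : ∃ E₀ : EtOver X, IsAffine E₀.obj.left.left ∧
      ∀ x : Points X, ∃ u, Points.ofPt E₀.obj.hom u = x := by
    obtain ⟨U₀, p, hU₀, hp, hs⟩ := Groth.L09.Filtration.exists_affine_atlas hqc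
    exact ⟨EtOver.mk p hp, hU₀, Groth.L23.surjective_ofPt hs⟩
  haveI := hE₀
  obtain ⟨T, hT⟩ := (finite_sectModEt M E₀).fg_top
  choose Q ψ hQ hψ using fun t : (T : Set (sectModEt M E₀)) => exists_fp_lift hX hqc hqs M t.1
  haveI := hQ
  haveI : (⨁ Q).IsQuasicoherent := isQuasicoherent_biproduct Q fun t => inferInstance
  refine ⟨⨁ Q, biproduct.desc ψ, inferInstance, fun E _ => finitePresentation_biproduct Q E fun t =>
    Groth.L23.FP.finitePresentation_sectModEt (Q t) E, fun W _ s => ?_⟩
  let R := ofHom (biproduct.desc ψ)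
  suffices hmem : s ∈ R.P W from hmem
  refine R.mem_of_cover fun w => ?_
  obtain ⟨u₀, hu₀⟩ := hsur (Points.ofPt W.obj.hom w)
  obtain ⟨W', hW', g₁, g₂, w', hw₁, hw₂⟩ := exists_common (E₁ := W) (E₂ := E₀) w u₀ hu₀.symm
  haveI := hW'
  refine ⟨W', hW', g₁, ⟨w', hw₁⟩, ?_⟩
  have h1 : res M g₁ s ∈ push M g₂ (Submodule.span (Γ₀ E₀) (T : Set (sectModEt M E₀))) := by
    rw [hT]
    exact mem_span_res_univ M g₂ _
  rw [push_span] at h1
  refine Submodule.span_le.2 ?_ h1
  rintro _ ⟨t, ht, rfl⟩
  refine R.res_mem g₂ ?_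
  obtain ⟨x, hx⟩ := hψ ⟨t, ht⟩
  exact ⟨sapp (biproduct.ι Q ⟨t, ht⟩) E₀ x, by rw [← sapp_comp, biproduct.ι_desc, hx]⟩

end Groth.L09.EtSub
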