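import Groth.Agent.L09.EtSub.Gen
import Groth.Agent.L09.EtSub.Amalg
import Groth.Agent.L23.FpCriterion

/-!
# Finite free modules on small etale sites
-/

universe u

open CategoryTheory CategoryTheory.Limits AlgebraicGeometry Opposite AlgSp

set_option autoImplicit false
set_option linter.style.haveILetI false
set_option backward.isDefEq.respectTransparency false
set_option backward.isDefEq.respectTransparency.types false

noncomputable section

namespace Groth.L09.EtSub

open Groth.L09.ModEt

variable {S : Scheme.{u}} {X : Sp S}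

instance hasFiniteBiproducts_modEt : HasFiniteBiproducts (ModEt X) := HasFiniteBiproducts.of_hasFiniteProducts

variable (X) in
/-- The free module on finitely many generators. -/
abbrev freeN (n : ℕ) : ModEt X := ⨁ fun _ : Fin n => unitModEt X

theorem isQuasicoherent_freeN (n : ℕ) : (freeN X n).IsQuasicoherent := by
  haveI : ∀ j : Discrete (Fin n), ((Discrete.functor fun _ : Fin n => unitModEt X).obj j).IsQuasicoherent :=
    fun _ => isQuasicoherent_unit₀
  exact (SheafOfModules.isQuasicoherent (OEtRing X)).prop_of_iso (biproduct.isoCoproduct _).symm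
    (isQuasicoherent_colimit (Discrete.functor fun _ : Fin n => unitModEt X) fun j => this j)

theorem sapp_sum {A B : ModEt X} {ι : Type*} (s : Finset ι) (f : ι → (A ⟶ B)) (E : EtOver X)
    (x : sectModEt A E) : sapp (∑ i ∈ s, f i) E x = ∑ i ∈ s, sapp (f i) E x := by
  classical
  induction s using Finset.induction_on with
  | empty => rfl
  | insert a s ha ih => rw [Finset.sum_insert ha, Finset.sum_insert ha, sapp_add, ih]

variable {n : ℕ}

/-- The coordinates of a section of a free module. -/
def cd (E : EtOver X) : sectModEt (freeN X n) E →ₗ[Γ₀ E] (Fin n → Γ₀ E) :=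
  LinearMap.pi fun i => (dn₀ E).comp (sapp (biproduct.π (fun _ : Fin n => unitModEt X) i) E)

theorem cd_apply (E : EtOver X) (x : sectModEt (freeN X n) E) (i : Fin n) :
    cd E x i = dn₀ E (sapp (biproduct.π (fun _ : Fin n => unitModEt X) i) E x) := rfl

/-- The section with given coordinates. -/
def el (E : EtOver X) (f : Fin n → Γ₀ E) : sectModEt (freeN X n) E :=
  ∑ i, sapp (biproduct.ι (fun _ : Fin n => unitModEt X) i) E (up₀ (f i))

theorem el_cd (E : EtOver X) (x : sectModEt (freeN X n) E) : el E (cd E x) = x := by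
  conv_rhs => rw [← sapp_id (A := freeN X n) E x, ← biproduct.total, sapp_sum]
  exact Finset.sum_congr rfl fun i _ => rfl

theorem cd_el (E : EtOver X) (f : Fin n → Γ₀ E) : cd E (el E f) = f := by
  funext i
  rw [cd_apply, el, map_sum, map_sum, Finset.sum_eq_single i]
  · rw [← sapp_comp, biproduct.ι_π_self]
    rfl
  · intro j _ hj
    rw [← sapp_comp, biproduct.ι_π_ne _ hj]
    exact map_zero (dn₀ E)
  · exact fun h => absurd (Finset.mem_univ i) h

/-- Sections of free modules are coordinate vectors. -/
def cdEquiv (E : EtOver X) : sectModEt (freeN X n) E ≃ₗ[Γ₀ E] (Fin n → Γ₀ E) :=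
  { cd E with invFun := el E, left_inv := el_cd E, right_inv := cd_el E }

theorem cd_res {E E' : EtOver X} (g : E' ⟶ E) (x : sectModEt (freeN X n) E) :
    cd E' (res (freeN X n) g x) = fun i => pb g (cd E x i) := by
  funext i
  rw [cd_apply, sapp_res, dn₀_res]
  rfl

theorem el_res {E E' : EtOver X} (g : E' ⟶ E) (f : Fin n → Γ₀ E) :
    res (freeN X n) g (el E f) = el E' (fun i => pb g (f i)) := by
  refine (el_cd E' _).symm.trans (congrArg (el E') ?_)
  rw [cd_res, cd_el]

/-- Coordinate vectors restricted. -/
abbrev vres {E E' : EtOver X} (g : E' ⟶ E) (f : Fin n → Γ₀ E) : Fin n → Γ₀ E' := fun i => pb g (f i)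

/-- A combination of sections. -/
def comb {M : ModEt X} {E : EtOver X} (u : Fin n → sectModEt M E) : (Fin n → Γ₀ E) →ₗ[Γ₀ E] sectModEt M E :=
  Fintype.linearCombination (Γ₀ E) u

theorem comb_apply {M : ModEt X} {E : EtOver X} (u : Fin n → sectModEt M E) (f : Fin n → Γ₀ E) :
    comb u f = ∑ i, f i • u i := rfl

theorem res_comb {M : ModEt X} {E E' : EtOver X} (g : E' ⟶ E) (u : Fin n → sectModEt M E) (f : Fin n → Γ₀ E) :
    res M g (comb u f) = comb (fun i => res M g (u i)) (vres g f) := by
  rw [comb_apply, comb_apply, map_sum]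
  exact Finset.sum_congr rfl fun i _ => res_smul M g _ _

theorem range_comb {M : ModEt X} {E : EtOver X} (u : Fin n → sectModEt M E) :
    LinearMap.range (comb u) = Submodule.span (Γ₀ E) (Set.range u) :=
  Fintype.range_linearCombination (Γ₀ E) u

/-- Membership of coordinate vectors in a span is local. -/
theorem vec_mem_of_local {E : EtOver X} [IsAffine E.obj.left.left] {ι : Type*} (c : ι → Fin n → Γ₀ E)
    (x : Fin n → Γ₀ E)
    (h : ∀ e : ↥E.obj.left.left, ∃ (V : EtOver X) (_ : IsAffine V.obj.left.left) (g : V ⟶ E),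
      e ∈ Set.range g.hom.left.left ∧ vres g x ∈ Submodule.span (Γ₀ V) (Set.range fun j => vres g (c j))) :
    x ∈ Submodule.span (Γ₀ E) (Set.range c) := by
  haveI := isQuasicoherent_freeN (X := X) n
  have key : ∀ (V : EtOver X) (a : ι → Fin n → Γ₀ V) (y : Fin n → Γ₀ V),
      y ∈ Submodule.span (Γ₀ V) (Set.range a) ↔
        el V y ∈ Submodule.span (Γ₀ V) (Set.range fun j => el V (a j)) := by
    intro V a y
    have h := Submodule.apply_mem_span_image_iff_mem_span (f := (cdEquiv (n := n) V).symm.toLinearMap)
      (cdEquiv (n := n) V).symm.injective (s := Set.range a) (x := y)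
    rw [← Set.range_comp] at h
    exact h.symm
  rw [key]
  refine EtSub.mem_of_local _ _ fun e => ?_
  obtain ⟨V, hV, g, he, hg⟩ := h e
  refine ⟨V, hV, g, he, ?_⟩
  rw [el_res, push_span, ← Set.range_comp]
  simp only [Function.comp_def, el_res]
  exact (key V _ _).1 hg

section Top

variable {T : EtOver X} (t : ∀ Z, Z ⟶ T) (ht : ∀ {Z} (f : Z ⟶ T), f = t Z) {M : ModEt X}

/-- The map from the structure module given by a section on a final object. -/
def homTop (m : sectModEt M T) : unitModEt X ⟶ M :=
  (SheafOfModules.unitHomEquiv M).symm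
    (PresheafOfModules.sectionsMk (fun Z => res M (t Z.unop) m) fun {Z Z'} f => by
      show res M f.unop (res M (t Z.unop) m) = res M (t Z'.unop) m
      rw [← res_comp, ht (f.unop ≫ t Z.unop)])

theorem sapp_homTop (m : sectModEt M T) (E : EtOver X) (r : Γ₀ E) :
    sapp (homTop t @ht m) E (up₀ r) = r • res M (t E) m := by
  have h1 : sapp (homTop t @ht m) E (up₀ 1) = res M (t E) m :=
    congrFun (congrArg Subtype.val ((SheafOfModules.unitHomEquiv M).apply_symm_apply _)) (op E)
  have h2 : (up₀ r : sectModEt (unitModEt X) E) = r • up₀ 1 := ULift.ext _ _ (mul_one r).symm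
  rw [h2, map_smul, h1]

/-- The map from a free module given by sections on a final object. -/
def homFree (u : Fin n → sectModEt M T) : freeN X n ⟶ M := biproduct.desc fun i => homTop t @ht (u i)

theorem sapp_homFree (u : Fin n → sectModEt M T) (E : EtOver X) (x : sectModEt (freeN X n) E) :
    sapp (homFree t @ht u) E x = comb (fun i => res M (t E) (u i)) (cd E x) := by
  conv_lhs => rw [← el_cd E x]
  rw [el, map_sum, comb_apply]
  refine Finset.sum_congr rfl fun i _ => ?_
  rw [← sapp_comp, homFree, biproduct.ι_desc]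
  exact sapp_homTop t @ht (u i) E _

end Top

/-- Kernels of surjective maps of quasi-coherent modules on affine objects. -/
theorem exists_preimage_of_cokernel {A B : ModEt X} [A.IsQuasicoherent] [B.IsQuasicoherent] (f : A ⟶ B)
    (E : EtOver X) [IsAffine E.obj.left.left] (y : sectModEt B E) (hy : sapp (cokernel.π f) E y = 0) :
    ∃ x, sapp f E x = y := by
  haveI := Groth.L23.QcClosure.isQuasicoherent_cokernel f
  haveI hK := Groth.L23.QcClosure.isQuasicoherent_kernel (cokernel.π f)
  let l : A ⟶ kernel (cokernel.π f) := kernel.lift _ f (cokernel.condition f)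
  haveI : Epi l := inferInstanceAs (Epi (Abelian.factorThruImage f))
  haveI := Groth.L23.QcClosure.isQuasicoherent_kernel l
  obtain ⟨k, hk⟩ := ((exact_sapp (C := ShortComplex.mk _ _ (kernel.condition (cokernel.π f)))
    (ShortComplex.exact_of_f_is_kernel _ (kernelIsKernel _)) inferInstance E).2 y).1 hy
  obtain ⟨x, hx⟩ := surjective_sapp (C := ShortComplex.mk (kernel.ι l) l (kernel.condition l))
    { exact := ShortComplex.exact_of_f_is_kernel _ (kernelIsKernel l) } E k
  refine ⟨x, ?_⟩
  have he : sapp (l ≫ kernel.ι (cokernel.π f)) E x = y := by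
    rw [sapp_comp]
    exact (congrArg _ hx).trans hk
  rwa [kernel.lift_ι] at he

/-- Epimorphisms from quasi-coherent modules are surjective on affine objects. -/
theorem surjective_sapp_epi {A B : ModEt X} [A.IsQuasicoherent] [B.IsQuasicoherent] (f : A ⟶ B) [Epi f]
    (E : EtOver X) [IsAffine E.obj.left.left] : Function.Surjective (sapp f E) :=
  haveI := Groth.L23.QcClosure.isQuasicoherent_kernel f
  surjective_sapp (C := ShortComplex.mk (kernel.ι f) f (kernel.condition f))
    { exact := ShortComplex.exact_of_f_is_kernel _ (kernelIsKernel f) } E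

end Groth.L09.EtSub
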