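import Groth.Agent.L09.EtSub.Faith

/-!
# Global generation of quasi-coherent modules when first cohomology vanishes
-/

universe u

open CategoryTheory CategoryTheory.Limits AlgebraicGeometry Opposite AlgSp TopologicalSpace

set_option autoImplicit false
set_option linter.style.haveILetI false
set_option backward.isDefEq.respectTransparency false
set_option backward.isDefEq.respectTransparency.types false

noncomputable section

namespace Groth.L09.EtSub

open Groth.L09.ModEt Groth.L09.EtMV Groth.L09.EtAlt Groth.L23.SubQcoh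

variable {S : Scheme.{u}} {X : Sp S} (E₀ : EtOver X)

/-- The scalar functions on a chart that agree on the overlap. -/
def Aring : Subring (Γ₀ E₀) :=
  RingHom.eqLocus (pb (EtOver.prodFst E₀ E₀)) (pb (EtOver.prodSnd E₀ E₀))

/-- The sections on a chart that agree on the overlap. -/
def GM (M : ModEt X) : AddSubgroup (sectModEt M E₀) :=
  AddMonoidHom.eqLocus (res M (EtOver.prodFst E₀ E₀)) (res M (EtOver.prodSnd E₀ E₀))

variable {E₀}

theorem mem_GM {M : ModEt X} {m : sectModEt M E₀} :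
    m ∈ GM E₀ M ↔ res M (EtOver.prodFst E₀ E₀) m = res M (EtOver.prodSnd E₀ E₀) m := Iff.rfl

theorem smul_mem_GM {M : ModEt X} {a : Γ₀ E₀} (ha : a ∈ Aring E₀) {m : sectModEt M E₀} (hm : m ∈ GM E₀ M) :
    a • m ∈ GM E₀ M := by
  show res M _ (a • m) = res M _ (a • m)
  rw [res_smul, res_smul, mem_GM.1 hm, show pb (EtOver.prodFst E₀ E₀) a = pb (EtOver.prodSnd E₀ E₀) a from ha]

theorem gfam_mem {M : ModEt X} (t : GFam M) : (t.val E₀ fun _ => trivial) ∈ GM E₀ M :=
  (t.nat' (EtOver.prodFst E₀ E₀)).trans (t.nat' (EtOver.prodSnd E₀ E₀)).symm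

variable (hs : RepWith @Surjective E₀.obj.hom)
include hs

theorem isCover_prodFst (W : EtOver X) : IsCover (fun _ : PUnit.{u + 1} => EtOver.prodFst W E₀) := fun w => by
  obtain ⟨e, he⟩ := Groth.L23.surjective_ofPt hs (Points.ofPt W.obj.hom w)
  obtain ⟨W', -, g₁, g₂, w', hw₁, -⟩ := exists_common w e he.symm
  exact ⟨PUnit.unit, (pl g₁ g₂).hom.left.left w',
    (congrArg (fun k => k.hom.left.left w') (pl_fst g₁ g₂)).trans hw₁⟩

theorem exists_gfam {M : ModEt X} {m : sectModEt M E₀} (hm : m ∈ GM E₀ M) :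
    ∃ t : GFam M, (t.val E₀ fun _ => trivial) = m := by
  have hex : ∀ W : EtOver X, ∃ s, res M (EtOver.prodFst W E₀) s = res M (EtOver.prodSnd W E₀) m := fun W => by
    obtain ⟨s, hs'⟩ := exists_glue M (isCover_prodFst hs W) (fun _ => res M (EtOver.prodSnd W E₀) m) fun _ _ => by
      let a := EtOver.pullbackFst (EtOver.prodFst W E₀) (EtOver.prodFst W E₀)
      let b := EtOver.pullbackSnd (EtOver.prodFst W E₀) (EtOver.prodFst W E₀)
      show res M a (res M _ m) = res M b (res M _ m)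
      rw [← res_comp, ← res_comp, ← pl_fst (a ≫ EtOver.prodSnd W E₀) (b ≫ EtOver.prodSnd W E₀), res_comp, hm,
        ← res_comp, pl_snd]
    exact ⟨s, hs' PUnit.unit⟩
  choose t ht using hex
  refine ⟨⟨fun W _ => t W, fun {W W'} g _ => ?_⟩, ?_⟩
  · refine eq_of_cover M (isCover_prodFst hs W') fun _ => ?_
    show res M (EtOver.prodFst W' E₀) (res M g (t W)) = res M (EtOver.prodFst W' E₀) (t W')
    refine (res_comp M _ _ _).symm.trans ?_
    refine (congrArg (fun k => res M k (t W)) (prodT_map_fst E₀ g).symm).trans ?_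
    refine (res_comp M _ _ _).trans ((congrArg (res M ((prodT E₀).map g)) (ht W)).trans ?_)
    exact (res_comp M _ _ _).symm.trans ((congrArg (fun k => res M k m) (prodT_map_snd E₀ g)).trans (ht W').symm)
  · refine eq_of_cover M (isCover_prodFst hs E₀) fun _ => ?_
    show res M _ (t E₀) = res M _ m
    rw [ht]
    exact (mem_GM.1 hm).symm

theorem gfam_eq_zero {M : ModEt X} (h : ∀ m ∈ GM E₀ M, m = 0) (t : GFam M) (W : EtOver X) :
    (t.val W fun _ => trivial) = 0 := by
  refine eq_of_cover M (isCover_prodFst hs W) fun _ => ?_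
  refine ((t.nat' (EtOver.prodFst W E₀)).trans (t.nat' (EtOver.prodSnd W E₀)).symm).trans ?_
  rw [h _ (gfam_mem t), map_zero, map_zero]

omit hs

/-- The hypotheses: first cohomology of quasi-coherent modules vanishes on a quasi-compact quasi-separated space. -/
structure Hyp (X : Sp S) : Prop where
  qsS : QuasiSeparatedSpace ↥S
  alg : IsAlgSpace X
  qc : IsQuasiCompactSp X
  qs : IsQuasiSeparatedSp X
  h1 : ∀ M : ModEt X, M.IsQuasicoherent → Subsingleton (HModEt X M 1)

variable (H : Hyp X)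
include hs H

theorem exists_GM_lift {T : ShortComplex (ModEt X)} (hT : T.ShortExact) [T.X₁.IsQuasicoherent]
    {y : sectModEt T.X₃ E₀} (hy : y ∈ GM E₀ T.X₃) : ∃ x ∈ GM E₀ T.X₂, sapp T.g E₀ x = y := by
  obtain ⟨t, rfl⟩ := exists_gfam hs hy
  obtain ⟨s, hs'⟩ := exists_lift_fam hT (H.h1 _ inferInstance) t
  exact ⟨_, gfam_mem s, hs' E₀⟩

/-- Quasi-coherent modules are generated by global sections. -/
theorem span_GM [IsAffine E₀.obj.left.left] (M : ModEt X) [M.IsQuasicoherent] :
    Submodule.span (Γ₀ E₀) (GM E₀ M : Set (sectModEt M E₀)) = ⊤ := by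
  haveI := H.qsS
  let A : AffSub M :=
    { P := fun W _ => Submodule.span (Γ₀ W) (Set.range fun t : GFam M => t.val W fun _ => trivial)
      res_mem := fun g _ hs' => Submodule.span_mono
        (by rintro _ ⟨_, ⟨t, rfl⟩, rfl⟩; exact ⟨t, (t.nat' g).symm⟩) (res_span M g hs')
      mem_span := fun g _ hz => Submodule.span_mono
        (by rintro _ ⟨t, rfl⟩; exact ⟨_, Submodule.subset_span ⟨t, rfl⟩, t.nat' g⟩) hz }
  haveI := A.isQuasicoherent
  let T : ShortComplex (ModEt X) := ShortComplex.mk A.ι (cokernel.π A.ι) (cokernel.condition A.ι)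
  have hT : T.ShortExact := { exact := ShortComplex.exact_of_g_is_cokernel _ (cokernelIsCokernel A.ι) }
  haveI : T.X₁.IsQuasicoherent := A.isQuasicoherent
  haveI : T.X₃.IsQuasicoherent := Groth.L23.QcClosure.isQuasicoherent_cokernel A.ι
  have hzero : ∀ {W : EtOver X} (s : sectModEt T.X₃ W), s = 0 := fun s => by
    refine eq_zero_of_gfam H.alg H.qc H.qs H.h1 T.X₃ (fun t W => ?_) s
    refine eq_zero_of_local T.X₃ _ fun W' _ g => ?_
    obtain ⟨t', ht'⟩ := exists_lift_fam hT (H.h1 _ A.isQuasicoherent) t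
    have hmem : (t'.val W' fun _ => trivial) ∈ A.P W' := Submodule.subset_span ⟨t', rfl⟩
    rw [← SetLike.mem_coe, ← A.range_ι] at hmem
    obtain ⟨y, hy⟩ := hmem
    rw [t.nat' g, ← ht' W', ← hy]
    exact sapp_g_f (C := T) W' y
  refine eq_top_iff.2 fun x _ => ?_
  obtain ⟨y, hy⟩ := ((exact_sapp hT.exact hT.mono_f E₀).2 x).1 (hzero _)
  have hx : x ∈ A.P E₀ := by
    rw [← SetLike.mem_coe, ← A.range_ι]
    exact ⟨y, hy⟩
  exact Submodule.span_mono (by rintro _ ⟨t, rfl⟩; exact gfam_mem t) hx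

omit hs H

/-- A section of the structure module as a function. -/
def dn₀ (E : EtOver X) : sectModEt (unitModEt X) E →ₗ[Γ₀ E] Γ₀ E where
  toFun x := x.down
  map_add' _ _ := rfl
  map_smul' _ _ := rfl

/-- A function as a section of the structure module. -/
abbrev up₀ {E : EtOver X} (r : Γ₀ E) : sectModEt (unitModEt X) E := ULift.up r

theorem dn₀_res {E E' : EtOver X} (g : E' ⟶ E) (x : sectModEt (unitModEt X) E) :
    dn₀ E' (res (unitModEt X) g x) = pb g (dn₀ E x) := rfl

theorem mem_Aring_of_GM {K : ModEt X} (f : K ⟶ unitModEt X) {k : sectModEt K E₀} (hk : k ∈ GM E₀ K) :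
    dn₀ E₀ (sapp f E₀ k) ∈ Aring E₀ := by
  show pb (EtOver.prodFst E₀ E₀) (dn₀ E₀ (sapp f E₀ k)) = pb (EtOver.prodSnd E₀ E₀) (dn₀ E₀ (sapp f E₀ k))
  rw [← dn₀_res, ← dn₀_res, ← sapp_res, ← sapp_res, mem_GM.1 hk]

theorem isQuasicoherent_unit₀ : (unitModEt X).IsQuasicoherent := by
  refine isQuasicoherent_of_bc_affine _ fun E E' _ _ g => ?_
  letI := (pb g).toAlgebra
  have h : ∀ y, dn₀ E' (θ (unitModEt X) g y) =
      TensorProduct.rid (Γ₀ E) (Γ₀ E') ((dn₀ E).lTensor (Γ₀ E') y) := by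
    intro y
    induction y using TensorProduct.induction_on with
    | zero => simp
    | tmul b x =>
      rw [LinearMap.lTensor_tmul, TensorProduct.rid_tmul, θ_tmul, map_smul, dn₀_res]
      show b * pb g (dn₀ E x) = pb g (dn₀ E x) * b
      exact mul_comm _ _
    | add a b ha hb => simp only [map_add, ha, hb]
  have hb : Function.Bijective (dn₀ (X := X) E') := ⟨fun a b h => ULift.ext _ _ h, fun r => ⟨⟨r⟩, rfl⟩⟩
  let e : sectModEt (unitModEt X) E ≃ₗ[Γ₀ E] Γ₀ E :=
    LinearEquiv.ofBijective (dn₀ E) ⟨fun a b h => ULift.ext _ _ h, fun r => ⟨⟨r⟩, rfl⟩⟩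
  have hc : Function.Bijective (dn₀ E' ∘ θ (unitModEt X) g) := by
    rw [show dn₀ E' ∘ θ (unitModEt X) g = ((e.lTensor (Γ₀ E')).trans (TensorProduct.rid (Γ₀ E) (Γ₀ E'))) from funext h]
    exact LinearEquiv.bijective _
  exact (Function.Bijective.of_comp_iff' hb _).1 hc

include hs H

theorem exists_unitHom (M : ModEt X) {m : sectModEt M E₀} (hm : m ∈ GM E₀ M) :
    ∃ φ : unitModEt X ⟶ M, ∀ x : sectModEt (unitModEt X) E₀, sapp φ E₀ x = dn₀ E₀ x • m := by
  obtain ⟨t, ht⟩ := exists_gfam hs hm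
  let σ : M.sections := PresheafOfModules.sectionsMk (fun W => t.val W.unop fun _ => trivial) fun W W' f =>
    t.nat' f.unop
  refine ⟨M.unitHomEquiv.symm σ, fun x => ?_⟩
  have h1 : sapp (M.unitHomEquiv.symm σ) E₀ (up₀ 1) = m := by
    rw [← ht]
    exact congrArg (fun s : M.sections => s.val (op E₀)) (M.unitHomEquiv.apply_symm_apply σ)
  conv_lhs => rw [show x = dn₀ E₀ x • up₀ 1 from ULift.ext _ _ (mul_one _).symm, map_smul, h1]

/-- The quotient by a global section. -/
theorem exists_quot [IsAffine E₀.obj.left.left] (M : ModEt X) [M.IsQuasicoherent] {m : sectModEt M E₀}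
    (hm : m ∈ GM E₀ M) :
    ∃ (Q : ModEt X) (_ : Q.IsQuasicoherent) (π : M ⟶ Q), (∀ r : Γ₀ E₀, sapp π E₀ (r • m) = 0) ∧
      (∀ x ∈ GM E₀ M, sapp π E₀ x = 0 → ∃ a ∈ Aring E₀, a • m = x) ∧
      ∀ r : Γ₀ E₀, r • m = 0 → r ∈ Submodule.span (Γ₀ E₀) {a : Γ₀ E₀ | a ∈ Aring E₀ ∧ a • m = 0} := by
  obtain ⟨φ, hφ'⟩ := exists_unitHom hs H M hm
  have hφ : ∀ r : Γ₀ E₀, sapp φ E₀ (up₀ r) = r • m := fun r => hφ' _
  haveI := isQuasicoherent_unit₀ (X := X)
  haveI : (kernel φ).IsQuasicoherent := Groth.L23.QcClosure.isQuasicoherent_kernel φ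
  let T₁ : ShortComplex (ModEt X) :=
    ShortComplex.mk (kernel.ι φ) (Abelian.coimage.π φ) (cokernel.condition (kernel.ι φ))
  have hT₁ : T₁.ShortExact :=
    { exact := ShortComplex.exact_of_g_is_cokernel _ (cokernelIsCokernel (kernel.ι φ)) }
  haveI : T₁.X₁.IsQuasicoherent := inferInstanceAs (kernel φ).IsQuasicoherent
  haveI : (Abelian.coimage φ).IsQuasicoherent := Groth.L23.QcClosure.isQuasicoherent_cokernel (kernel.ι φ)
  let j := Abelian.factorThruCoimage φ
  have hj : Abelian.coimage.π φ ≫ j = φ := Abelian.coimage.fac φ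
  let T₂ : ShortComplex (ModEt X) := ShortComplex.mk j (cokernel.π j) (cokernel.condition j)
  have hT₂ : T₂.ShortExact := { exact := ShortComplex.exact_of_g_is_cokernel _ (cokernelIsCokernel j) }
  refine ⟨cokernel j, Groth.L23.QcClosure.isQuasicoherent_cokernel j, cokernel.π j, fun r => ?_, ?_, ?_⟩
  · refine (congrArg (sapp (cokernel.π j) E₀) ((hφ r).symm.trans
      (congrArg (fun f => sapp f E₀ (up₀ r)) hj.symm))).trans ?_
    exact sapp_g_f (C := T₂) E₀ _
  · intro x hxGM hx
    obtain ⟨o, ho⟩ := ((exact_sapp hT₂.exact hT₂.mono_f E₀).2 x).1 hx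
    have hoGM : o ∈ GM E₀ (Abelian.coimage φ) := by
      refine injective_sapp_of_mono j (EtOver.prodObj E₀ E₀) ?_
      rw [sapp_res, sapp_res]
      exact (congrArg (res M _) ho).trans ((mem_GM.1 hxGM).trans (congrArg (res M _) ho).symm)
    obtain ⟨a, ha, hao⟩ := exists_GM_lift hs H hT₁ hoGM
    refine ⟨dn₀ E₀ a, congrArg ULift.down (mem_GM.1 ha), ?_⟩
    exact (hφ' a).symm.trans ((congrArg (fun f => sapp f E₀ a) hj.symm).trans
      ((congrArg (sapp j E₀) hao).trans ho))
  · intro r hr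
    let TK : ShortComplex (ModEt X) := ShortComplex.mk (kernel.ι φ) φ (kernel.condition φ)
    obtain ⟨y, hy⟩ := ((exact_sapp (C := TK) (ShortComplex.exact_of_f_is_kernel _ (kernelIsKernel φ))
      inferInstance E₀).2 (up₀ r)).1 ((hφ r).trans hr)
    let ι' := sapp (kernel.ι φ) E₀
    have hy' : y ∈ Submodule.span (Γ₀ E₀) (GM E₀ (kernel φ) : Set (sectModEt (kernel φ) E₀)) := by
      rw [span_GM hs H]
      exact Submodule.mem_top
    let I := Submodule.span (Γ₀ E₀) {a : Γ₀ E₀ | a ∈ Aring E₀ ∧ a • m = 0}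
    suffices h : ∀ z ∈ Submodule.span (Γ₀ E₀) (GM E₀ (kernel φ) : Set (sectModEt (kernel φ) E₀)),
        dn₀ E₀ (ι' z) ∈ I by
      have := h y hy'
      rwa [show dn₀ E₀ (ι' y) = r from congrArg (dn₀ E₀) hy] at this
    intro z hz
    induction hz using Submodule.span_induction with
    | zero => rw [map_zero, map_zero]; exact zero_mem I
    | add a b _ _ ha hb => rw [map_add, map_add]; exact add_mem ha hb
    | smul c a _ ha => rw [map_smul, map_smul]; exact I.smul_mem c ha
    | mem k hk =>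
      exact Submodule.subset_span ⟨mem_Aring_of_GM (kernel.ι φ) hk, (hφ' _).symm.trans (sapp_g_f (C := TK) E₀ k)⟩

/-- Relations between global sections with constant coefficients span all relations. -/
theorem mem_span_rel [IsAffine E₀.obj.left.left] :
    ∀ (n : ℕ) (M : ModEt X) [M.IsQuasicoherent] (m : Fin n → sectModEt M E₀), (∀ i, m i ∈ GM E₀ M) →
      ∀ b : Fin n → Γ₀ E₀, ∑ i, b i • m i = 0 →
        b ∈ Submodule.span (Γ₀ E₀) {k : Fin n → Γ₀ E₀ | (∀ i, k i ∈ Aring E₀) ∧ ∑ i, k i • m i = 0} := by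
  intro n
  induction n with
  | zero =>
    intro M _ m _ b _
    rw [Subsingleton.elim b 0]
    exact zero_mem _
  | succ n ih =>
    intro M _ m hm b hb
    obtain ⟨Q, hQ, π, hπ0, hπlift, hker⟩ := exists_quot hs H M (hm 0)
    let Rel : Submodule (Γ₀ E₀) (Fin (n + 1) → Γ₀ E₀) :=
      Submodule.span (Γ₀ E₀) {k | (∀ i, k i ∈ Aring E₀) ∧ ∑ i, k i • m i = 0}
    have htail : b ∘ Fin.succ ∈ Submodule.span (Γ₀ E₀)
        {k : Fin n → Γ₀ E₀ | (∀ i, k i ∈ Aring E₀) ∧ ∑ i, k i • sapp π E₀ (m i.succ) = 0} := by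
      refine ih Q (fun i => sapp π E₀ (m i.succ)) (fun i => ?_) _ ?_
      · rw [mem_GM, ← sapp_res, ← sapp_res, mem_GM.1 (hm i.succ)]
      · have h0 := congrArg (sapp π E₀) hb
        rw [map_zero, Fin.sum_univ_succ, map_add, hπ0, zero_add, map_sum] at h0
        refine (Finset.sum_congr rfl fun i _ => ?_).trans h0
        rw [map_smul]
        rfl
    obtain ⟨z, hz, hzb⟩ : ∃ z ∈ Rel, z ∘ Fin.succ = b ∘ Fin.succ := by
      let L : (Fin (n + 1) → Γ₀ E₀) →ₗ[Γ₀ E₀] (Fin n → Γ₀ E₀) := LinearMap.funLeft _ _ Fin.succ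
      suffices h : b ∘ Fin.succ ∈ Rel.map L from Submodule.mem_map.1 h
      refine Submodule.span_le.2 ?_ htail
      intro k hk
      have hxGM : ∑ i, k i • m i.succ ∈ GM E₀ M :=
        AddSubgroup.sum_mem _ fun i _ => smul_mem_GM (hk.1 i) (hm i.succ)
      obtain ⟨a, ha, hax⟩ := hπlift _ hxGM (by simp only [map_sum, map_smul]; exact hk.2)
      refine ⟨Fin.cons (-a) k, Submodule.subset_span ⟨Fin.cases ?_ (fun i => ?_), ?_⟩,
        funext fun i => Fin.cons_succ (α := fun _ => Γ₀ E₀) (-a) k i⟩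
      · rw [Fin.sum_univ_succ]
        simp only [Fin.cons_zero, Fin.cons_succ]
        rw [neg_smul, hax]
        exact neg_add_cancel _
      · rw [Fin.cons_zero]
        exact neg_mem ha
      · rw [Fin.cons_succ]
        exact hk.1 i
    have hsum : ∑ i, z i • m i = 0 := by
      have hle : Rel ≤ LinearMap.ker (Fintype.linearCombination (Γ₀ E₀) m) := Submodule.span_le.2 fun k hk => by
        show Fintype.linearCombination (Γ₀ E₀) m k = 0
        rw [Fintype.linearCombination_apply]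
        exact hk.2
      have := LinearMap.mem_ker.1 (hle hz)
      rwa [Fintype.linearCombination_apply] at this
    have hr : (b 0 - z 0) • m 0 = 0 := by
      rw [Fin.sum_univ_succ] at hb hsum
      have e : ∀ i : Fin n, z i.succ = b i.succ := fun i => congrFun hzb i
      simp only [e] at hsum
      rw [sub_smul, sub_eq_zero]
      exact add_right_cancel (hb.trans hsum.symm)
    have hsingle : Submodule.span (Γ₀ E₀) {a : Γ₀ E₀ | a ∈ Aring E₀ ∧ a • m 0 = 0} ≤
        Rel.comap (LinearMap.single (Γ₀ E₀) (fun _ : Fin (n + 1) => Γ₀ E₀) 0) := by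
      refine Submodule.span_le.2 fun a ha => Submodule.subset_span ⟨fun i => ?_, ?_⟩
      · rw [LinearMap.single_apply]
        by_cases hi : i = 0
        · subst hi; rw [Pi.single_eq_same]; exact ha.1
        · rw [Pi.single_eq_of_ne hi]; exact zero_mem _
      · rw [LinearMap.single_apply, Finset.sum_eq_single 0 (fun i _ hi => by rw [Pi.single_eq_of_ne hi, zero_smul])
          (fun h => absurd (Finset.mem_univ _) h), Pi.single_eq_same]
        exact ha.2
    have hb' : b = z + LinearMap.single (Γ₀ E₀) (fun _ : Fin (n + 1) => Γ₀ E₀) 0 (b 0 - z 0) := by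
      funext i
      refine Fin.cases ?_ (fun i => ?_) i
      · simp
      · simp [congrFun hzb i, Function.comp_def] <;> exact (congrFun hzb i).symm
    rw [hb']
    exact add_mem hz (hsingle (hker _ hr))

end Groth.L09.EtSub
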