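import Groth.Agent.L09.EtSub.Region
import Groth.Agent.L09.EtMV.Dim

/-!
# Squares with affine schemes and extension of finitely generated submodules
-/

universe u

open CategoryTheory CategoryTheory.Limits AlgebraicGeometry Opposite AlgSp TopologicalSpace

set_option autoImplicit false
set_option linter.style.haveILetI false
set_option backward.isDefEq.respectTransparency false
set_option backward.isDefEq.respectTransparency.types false

noncomputable section

namespace Groth.L09.EtSub

open Groth.L09.ModEt Groth.L09.EtMV Groth.L09.EtAlt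

variable {S : Scheme.{u}} {X : Sp S}

/-- The image of an open of an object. -/
def img (V : EtOver X) (B : V.obj.left.left.Opens) : Opens (Points X) :=
  ⟨Points.ofPt V.obj.hom '' B, Groth.L23.isOpenMap_ofPt V.property _ B.isOpen⟩

theorem img_bot (V : EtOver X) : img V ⊥ = ⊥ := Opens.ext (Set.image_empty _)

theorem img_sup (V : EtOver X) (A B : V.obj.left.left.Opens) : img V (A ⊔ B) = img V A ⊔ img V B :=
  Opens.ext (Set.image_union _ _ _)

variable {L' L : Opens (Points X)} {V : EtOver X}

/-- Points outside the smaller region lift uniquely. -/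
theorem eq_of_ofPt (h : Sq L' L V) {v v' : V.obj.left.left}
    (he : Points.ofPt V.obj.hom v = Points.ofPt V.obj.hom v') (hv : Points.ofPt V.obj.hom v ∉ L') : v = v' := by
  obtain ⟨W, _, g₁, g₂, w, hw₁, hw₂⟩ := exists_common v v' he
  obtain ⟨z, hz⟩ := h.sep W g₁ g₂ w (by rw [ofPt_map g₁, hw₁]; exact hv)
  have hc := EtOver.pullback_condition (pl g₁ g₂) (diagU V)
  have h₁ := congrArg (fun m => m ≫ EtOver.prodFst V V) hc
  have h₂ := congrArg (fun m => m ≫ EtOver.prodSnd V V) hc
  simp only [diagU, Category.assoc, pl_fst, pl_snd] at h₁ h₂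
  have := congrArg (fun m => m.hom.left.left z) (h₁.trans h₂.symm)
  rw [← hw₁, ← hw₂, ← hz]
  exact this

/-- Restricting a square to an open of the scheme. -/
theorem sq_open (h : Sq L' L V) (A B : V.obj.left.left.Opens) :
    Sq (L' ⊔ img V A) (L' ⊔ img V (A ⊔ B)) (openObj V B) := by
  refine ⟨sup_le_sup_left (by rw [img_sup]; exact le_sup_left) _, fun w => ?_, fun x hx hx' => ?_,
    fun W g₁ g₂ w hw => ?_⟩
  · rw [ofPt_map (openι V B) w]
    exact Or.inr ⟨_, Or.inr w.2, rfl⟩
  · rcases hx with hx | ⟨v, hv | hv, rfl⟩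
    · exact absurd (Or.inl hx) hx'
    · exact absurd (Or.inr ⟨v, hv, rfl⟩) hx'
    · exact ⟨⟨v, hv⟩, ofPt_map (openι V B) _⟩
  · obtain ⟨z, hz⟩ := h.sep W (g₁ ≫ openι V B) (g₂ ≫ openι V B) w fun hm => hw (Or.inl hm)
    let k := EtOver.pullbackFst (pl (g₁ ≫ openι V B) (g₂ ≫ openι V B)) (diagU V)
    have hk : k ≫ g₁ = k ≫ g₂ := by
      rw [← cancel_mono (openι V B), Category.assoc, Category.assoc]
      have hc := EtOver.pullback_condition (pl (g₁ ≫ openι V B) (g₂ ≫ openι V B)) (diagU V)
      have h₁ := congrArg (fun m => m ≫ EtOver.prodFst V V) hc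
      have h₂ := congrArg (fun m => m ≫ EtOver.prodSnd V V) hc
      simp only [diagU, Category.assoc, pl_fst, pl_snd] at h₁ h₂
      exact h₁.trans h₂.symm
    obtain ⟨l, hl, -⟩ := (EtOver.isPullback (pl g₁ g₂) (diagU (openObj V B))).exists_lift k (k ≫ g₁) (by
      show k ≫ pl g₁ g₂ = (k ≫ g₁) ≫ pl (𝟙 _) (𝟙 _)
      rw [comp_pl, comp_pl, Category.comp_id, hk])
    exact ⟨l.hom.left.left z, (congrArg (fun m => m.hom.left.left z) hl).trans hz⟩

theorem isCompact_preOpen_open [V.obj.left.left.IsSeparated] (h : Sq L' L V) {A B : V.obj.left.left.Opens}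
    (hL : IsCompact (preOpen L' V : Set V.obj.left.left)) (hA : IsCompact (A : Set V.obj.left.left))
    (hB : IsCompact (B : Set V.obj.left.left)) :
    IsCompact (preOpen (L' ⊔ img V A) (openObj V B) : Set (openObj V B).obj.left.left) := by
  haveI : QuasiSeparatedSpace V.obj.left.left := inferInstance
  rw [B.ι.isOpenEmbedding.isEmbedding.isCompact_iff]
  have : B.ι '' (preOpen (L' ⊔ img V A) (openObj V B) : Set (openObj V B).obj.left.left) =
      (preOpen L' V : Set V.obj.left.left) ∩ B ∪ (A : Set V.obj.left.left) ∩ B := by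
    ext v
    constructor
    · rintro ⟨w, hw, rfl⟩
      change Points.ofPt (openObj V B).obj.hom w ∈ L' ⊔ img V A at hw
      rw [ofPt_map (openι V B) w] at hw
      rcases hw with hw | ⟨a, ha, hav⟩
      · exact Or.inl ⟨hw, w.2⟩
      · by_cases hin : Points.ofPt V.obj.hom ((openι V B).hom.left.left w) ∈ L'
        · exact Or.inl ⟨hin, w.2⟩
        · exact Or.inr ⟨(eq_of_ofPt h hav.symm hin).symm ▸ ha, w.2⟩
    · rintro (⟨hv, hB⟩ | ⟨hv, hB⟩)
      · refine ⟨⟨v, hB⟩, ?_, rfl⟩
        show Points.ofPt (openObj V B).obj.hom ⟨v, hB⟩ ∈ L' ⊔ img V A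
        rw [ofPt_map (openι V B)]
        exact Or.inl hv
      · refine ⟨⟨v, hB⟩, ?_, rfl⟩
        show Points.ofPt (openObj V B).obj.hom ⟨v, hB⟩ ∈ L' ⊔ img V A
        rw [ofPt_map (openι V B)]
        exact Or.inr ⟨v, hv, rfl⟩
  rw [this]
  exact (hL.inter_of_isOpen hB (preOpen L' V).isOpen B.isOpen).union
    (hA.inter_of_isOpen hB A.isOpen B.isOpen)

/-- Induction along squares with affine schemes. -/
theorem induction_affine [QuasiSeparatedSpace ↥S] (hX : IsAlgSpace X) (hqc : IsQuasiCompactSp X)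
    (hqs : IsQuasiSeparatedSp X) (C : Opens (Points X) → Prop) (bot : C ⊥)
    (step : ∀ (L' L : Opens (Points X)) (V : EtOver X), IsAffine V.obj.left.left → Sq L' L V →
      IsCompact (preOpen L' V : Set V.obj.left.left) → C L' → C L) : C ⊤ := by
  obtain ⟨N, L, hL0, hLN, hsq⟩ := exists_levels hX hqc hqs
  have main : ∀ k m, N ≤ m + k → C (L m) := by
    intro k
    induction k with
    | zero =>
      intro m hm
      rw [hLN m (by omega)]
      exact bot
    | succ k ih =>
      intro m hm
      obtain ⟨V, hsep, hc, hS, hB⟩ := hsq m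
      have hlist : ∀ l : List V.obj.left.left.affineOpens,
          C (L (m + 1) ⊔ img V (l.foldr (fun B A => A ⊔ B.1) ⊥)) ∧
            IsCompact ((l.foldr (fun B A => A ⊔ B.1) ⊥ : V.obj.left.left.Opens) : Set V.obj.left.left) := by
        intro l
        induction l with
        | nil =>
          rw [List.foldr_nil, img_bot, sup_bot_eq]
          exact ⟨ih (m + 1) (by omega), isCompact_empty⟩
        | cons B l hl =>
          rw [List.foldr_cons]
          exact ⟨step _ _ (openObj V B.1) B.2 (sq_open hS _ _)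
            (isCompact_preOpen_open hS hB hl.2 B.2.isCompact) hl.1, hl.2.union B.2.isCompact⟩
      haveI := hc
      obtain ⟨s, hs, hcov⟩ := (isCompact_iff_finite_and_eq_biUnion_affineOpens (U := (⊤ : V.obj.left.left.Opens))).1
        (by simpa using isCompact_univ)
      convert (hlist hs.toFinset.toList).1 using 1
      have hmem : ∀ (l : List V.obj.left.left.affineOpens) (x : V.obj.left.left),
          x ∈ l.foldr (fun B A => A ⊔ B.1) ⊥ ↔ ∃ B ∈ l, x ∈ B.1 := by
        intro l x
        induction l with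
        | nil => simp
        | cons a l hl => simp only [List.foldr_cons, List.mem_cons, exists_eq_or_imp, Opens.mem_sup, hl, or_comm]
      refine Opens.ext (Set.ext fun x => ⟨fun hx => ?_, ?_⟩)
      · by_cases hx' : x ∈ L (m + 1)
        · exact Or.inl hx'
        · obtain ⟨v, hv⟩ := hS.cover x hx hx'
          obtain ⟨B, hB', hvB⟩ : ∃ B ∈ s, v ∈ B.1 := by
            have : v ∈ (⊤ : V.obj.left.left.Opens) := trivial
            rw [hcov] at this
            simpa [Opens.mem_iSup] using this
          exact Or.inr ⟨v, (hmem _ v).2 ⟨B, by simpa using hB', hvB⟩, hv⟩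
      · rintro (hx | ⟨v, -, rfl⟩)
        · exact hS.le hx
        · exact hS.inB v
  simpa [hL0] using main N 0 (by omega)

theorem compactSpace_prodObj [QuasiSeparatedSpace ↥S] (hqs : IsQuasiSeparatedSp X) (V W : EtOver X)
    [CompactSpace V.obj.left.left] [CompactSpace W.obj.left.left] :
    CompactSpace (EtOver.prodObj V W).obj.left.left := by
  have sq : IsPullback ((yon S).map (W.property.1.fst' V.obj.hom))
      ((yon S).map (W.property.1.snd V.obj.hom)) W.obj.hom V.obj.hom := by
    rw [Functor.relativelyRepresentable.map_fst']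
    exact W.property.1.isPullback V.obj.hom
  exact Groth.L23.compactSpace_of_qs hqs sq

theorem subsingleton_sect_of_isEmpty (M : ModEt X) {E : EtOver X} [IsEmpty E.obj.left.left] (s t : sectModEt M E) :
    s = t :=
  eq_of_cover M (ι := PEmpty.{1}) (V := PEmpty.elim) (c := fun i => i.elim) (fun x => isEmptyElim x) fun i => i.elim

variable {M : ModEt X} [M.IsQuasicoherent]

/-- One step of extending finitely generated submodules. -/
theorem exists_step [QuasiSeparatedSpace ↥S] (hqs : IsQuasiSeparatedSp X) [IsAffine V.obj.left.left]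
    (h : Sq L' L V) (hc : IsCompact (preOpen L' V : Set V.obj.left.left)) (R : RegSub M L') (hR : R.FG)
    {E₀ : EtOver X} [IsAffine E₀.obj.left.left] (T₀ : Finset (sectModEt M E₀))
    (hT₀ : ∀ (W : EtOver X) [IsAffine W.obj.left.left] (hW : InB L' W) (g : W ⟶ E₀),
      ∀ s ∈ T₀, res M g s ∈ R.P W hW) :
    ∃ R' : RegSub M L, R'.FG ∧
      (∀ (W : EtOver X) [IsAffine W.obj.left.left] (hW : InB L' W), R'.P W (hW.mono h.le) = R.P W hW) ∧
      ∀ (W : EtOver X) [IsAffine W.obj.left.left] (hW : InB L W) (g : W ⟶ E₀),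
        ∀ s ∈ T₀, res M g s ∈ R'.P W hW := by
  classical
  haveI : CompactSpace (openObj V (preOpen L' V)).obj.left.left := isCompact_iff_compactSpace.1 hc
  obtain ⟨ι, _, D, d, hD, -, hd⟩ :=
    exists_finite_cover (E := openObj V (preOpen L' V)) ((etTop X).top_mem _)
  haveI := hD
  cases nonempty_fintype ι
  let e : ∀ i, D i ⟶ V := fun i => d i ≫ openι V (preOpen L' V)
  have hin : ∀ i, InB L' (D i) := fun i => (inB_openObj L' V).comp (d i)
  let K : Set (sectModEt M V) := {t | ∀ i, res M (e i) t ∈ R.P (D i) (hin i)}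
  have hK : ∀ {W : EtOver X} [IsAffine W.obj.left.left] (k : W ⟶ V) {z : sectModEt M W},
      (∀ (W' : EtOver X) [IsAffine W'.obj.left.left] (c : W' ⟶ W) (hW' : InB L' W'),
        res M c z ∈ R.P W' hW') → z ∈ Submodule.span (Γ₀ W) (res M k '' K) := by
    intro W _ k z hz
    refine mem_push_kerSub M k e (fun i => R.P (D i) (hin i)) fun i => ?_
    haveI := isAffine_pullback k (e i)
    exact R.mem_push _ (hin i) (hz _ _ _)
  -- a cover of the product with the object carrying the given sections
  haveI := compactSpace_prodObj hqs E₀ V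
  obtain ⟨κ, _, Z, c, hZ, -, hc'⟩ := exists_finite_cover (E := EtOver.prodObj E₀ V) ((etTop X).top_mem _)
  haveI := hZ
  cases nonempty_fintype κ
  have hT₁ : ∀ (i : ι) (z : sectModEt M (D i)), z ∈ R.P (D i) (hin i) →
      ∃ T : Finset (sectModEt M V), (T : Set (sectModEt M V)) ⊆ K ∧
        z ∈ Submodule.span (Γ₀ (D i)) (res M (e i) '' T) := by
    intro i z hz
    obtain ⟨T', hT', hzT⟩ := Submodule.mem_span_finite_of_mem_span
      (hK (e i) (z := z) fun W' _ a _ => R.res_mem a (hin i) hz)
    obtain ⟨T, hT, rfl⟩ := Finset.subset_set_image_iff.1 hT'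
    exact ⟨T, hT, by simpa using hzT⟩
  have hT₂ : ∀ (k : κ) (s : sectModEt M E₀), s ∈ T₀ → ∃ T : Finset (sectModEt M V), (T : Set (sectModEt M V)) ⊆ K ∧
        res M (c k ≫ EtOver.prodFst E₀ V) s ∈
          Submodule.span (Γ₀ (Z k)) (res M (c k ≫ EtOver.prodSnd E₀ V) '' T) := by
    intro k s hs
    obtain ⟨T', hT', hzT⟩ := Submodule.mem_span_finite_of_mem_span
      (hK (c k ≫ EtOver.prodSnd E₀ V) (z := res M (c k ≫ EtOver.prodFst E₀ V) s) fun W' _ a hW' => by
        rw [← res_comp]
        exact hT₀ W' hW' _ s hs)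
    obtain ⟨T, hT, rfl⟩ := Finset.subset_set_image_iff.1 hT'
    exact ⟨T, hT, by simpa using hzT⟩
  choose S₁ hS₁ using fun i => hR (D i) (hin i)
  choose T₁ hT₁K hT₁ using hT₁
  choose T₂ hT₂K hT₂ using hT₂
  let T : Finset (sectModEt M V) :=
    (Finset.univ.biUnion fun i => (S₁ i).attach.biUnion fun z => T₁ i z.1 (hS₁ i ▸ Submodule.subset_span z.2)) ∪
      Finset.univ.biUnion fun k => T₀.attach.biUnion fun s => T₂ k s.1 s.2
  let G : Submodule (Γ₀ V) (sectModEt M V) := Submodule.span _ (T : Set (sectModEt M V))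
  have hG : ∀ (W : EtOver X) [IsAffine W.obj.left.left] (hW : InB L' W) (k : W ⟶ V), push M k G = R.P W hW := by
    intro W _ hW k
    have hcov : ∀ w : W.obj.left.left, ∃ i, w ∈ Set.range (EtOver.pullbackFst k (e i)).hom.left.left := by
      intro w
      have hw : k.hom.left.left w ∈ (preOpen L' V : Set V.obj.left.left) := by
        show Points.ofPt V.obj.hom _ ∈ L'
        rw [← ofPt_map]
        exact hW w
      obtain ⟨i, v, hv⟩ := hd ⟨_, hw⟩
      obtain ⟨p, hp, -⟩ := Scheme.exists_preimage_of_isPullback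
        ((EtOver.isPullback k (e i)).map (EtOver.toScheme X)) w v
          ((congrArg (openι V (preOpen L' V)).hom.left.left hv).trans (rfl : _ = k.hom.left.left w)).symm
      exact ⟨i, p, hp⟩
    refine le_antisymm (Submodule.span_le.2 ?_) fun z hz => ?_
    · rintro _ ⟨t, ht, rfl⟩
      refine R.mem_of_local hW fun w => ?_
      obtain ⟨i, hi⟩ := hcov w
      haveI := isAffine_pullback k (e i)
      refine ⟨_, inferInstance, EtOver.pullbackFst k (e i), hi, ?_⟩
      rw [res_congr M (EtOver.pullback_condition k (e i))]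
      refine R.res_mem (EtOver.pullbackSnd k (e i)) (hin i) ?_
      induction ht using Submodule.span_induction with
      | mem x hx =>
        simp only [T, Finset.coe_union, Finset.coe_biUnion, Set.mem_union, Set.mem_iUnion] at hx
        rcases hx with ⟨j, -, y, -, hx⟩ | ⟨j, -, y, -, hx⟩
        · exact hT₁K j _ _ hx i
        · exact hT₂K j _ _ hx i
      | zero => rw [map_zero]; exact zero_mem _
      | add x y _ _ hx hy => rw [map_add]; exact add_mem hx hy
      | smul r x _ hx => rw [res_smul]; exact Submodule.smul_mem _ _ hx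
    · refine EtSub.mem_of_local M _ fun w => ?_
      obtain ⟨i, hi⟩ := hcov w
      haveI := isAffine_pullback k (e i)
      refine ⟨_, inferInstance, EtOver.pullbackFst k (e i), hi, ?_⟩
      rw [← push_comp, EtOver.pullback_condition, push_comp]
      refine push_mono M _ ?_ (R.mem_push (EtOver.pullbackSnd k (e i)) (hin i) (R.res_mem _ hW hz))
      rw [← hS₁ i, Submodule.span_le]
      intro y hy
      show y ∈ push M (e i) G
      rw [push_span]
      refine Submodule.span_mono (Set.image_mono fun t ht => ?_) (hT₁ i y (hS₁ i ▸ Submodule.subset_span hy))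
      simp only [T, Finset.coe_union, Finset.coe_biUnion, Set.mem_union, Set.mem_iUnion]
      exact Or.inl ⟨i, Finset.mem_univ _, ⟨y, hy⟩, Finset.mem_attach _ _, ht⟩
  refine ⟨glue h R G hG, glue_fg h R G hG hR ⟨T, rfl⟩, fun W _ hW => glue_old h R G hG hW,
    fun W _ hW g s hs W' _ a Q hQ => ?_⟩
  rw [← res_comp]
  rcases hQ.good with hin' | ⟨⟨b⟩⟩
  · rw [hQ.old hin']
    exact hT₀ W' hin' _ s hs
  · rw [hQ.hom b]
    refine EtSub.mem_of_local M _ fun w => ?_
    obtain ⟨j, hj⟩ := hc'.pullback (pl (a ≫ g) b) w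
    obtain ⟨W'', hW'', q, ⟨v, hv⟩, -⟩ := exists_affine_nhd _ hj.choose ⊤ trivial
    haveI := hW''
    refine ⟨W'', hW'', q ≫ EtOver.pullbackFst (pl (a ≫ g) b) (c j), ⟨v, ?_⟩, ?_⟩
    · rw [← hj.choose_spec, ← hv]
      rfl
    · have hcond := EtOver.pullback_condition (pl (a ≫ g) b) (c j)
      have e₁ := congrArg (fun m => q ≫ m ≫ EtOver.prodFst E₀ V) hcond
      have e₂ := congrArg (fun m => q ≫ m ≫ EtOver.prodSnd E₀ V) hcond
      simp only [Category.assoc, pl_fst, pl_snd] at e₁ e₂
      rw [← push_comp, ← res_comp]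
      simp only [Category.assoc]
      rw [e₁, e₂, ← Category.assoc q, ← Category.assoc q, res_comp, push_comp]
      refine res_mem_push M _ (Submodule.span_mono (Set.image_mono fun t ht => ?_) (hT₂ j s hs))
      refine Submodule.subset_span ?_
      simp only [T, Finset.coe_union, Finset.coe_biUnion, Set.mem_union, Set.mem_iUnion]
      exact Or.inr ⟨j, Finset.mem_univ _, ⟨s, hs⟩, Finset.mem_attach _ _, ht⟩

/-- Finitely many sections lie in a finitely generated quasi-coherent submodule. -/
theorem exists_regSub [QuasiSeparatedSpace ↥S] (hX : IsAlgSpace X) (hqc : IsQuasiCompactSp X)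
    (hqs : IsQuasiSeparatedSp X) {E₀ : EtOver X} [IsAffine E₀.obj.left.left] (T₀ : Finset (sectModEt M E₀)) :
    ∃ R : RegSub M (⊤ : Opens (Points X)), R.FG ∧ ∀ s ∈ T₀, s ∈ R.P E₀ fun _ => trivial := by
  let C : Opens (Points X) → Prop := fun L => ∃ R : RegSub M L, R.FG ∧
    ∀ (W : EtOver X) [IsAffine W.obj.left.left] (hW : InB L W) (g : W ⟶ E₀), ∀ s ∈ T₀, res M g s ∈ R.P W hW
  have bot : C ⊥ := by
    refine ⟨{ P := fun _ _ _ => ⊥, res_mem := ?_, mem_push := ?_ }, fun _ _ _ => Submodule.fg_bot,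
      fun W _ hW g s _ => ?_⟩
    · intro E E' _ _ g _ s hs
      rw [(Submodule.mem_bot _).1 hs, map_zero]
      exact zero_mem _
    · intro E E' _ _ g _ z hz
      rw [(Submodule.mem_bot _).1 hz]
      exact zero_mem _
    · haveI : IsEmpty W.obj.left.left := ⟨fun w => hW w⟩
      exact (Submodule.mem_bot _).2 (subsingleton_sect_of_isEmpty M _ _)
  obtain ⟨R, hR, hs⟩ := induction_affine hX hqc hqs C bot fun L' L V hV h hc ⟨R, hR, hs⟩ => by
    haveI := hV
    obtain ⟨R', hR', -, hs'⟩ := exists_step hqs h hc R hR T₀ hs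
    exact ⟨R', hR', hs'⟩
  exact ⟨R, hR, fun s hs' => by simpa using hs E₀ (fun _ => trivial) (𝟙 E₀) s hs'⟩

end Groth.L09.EtSub
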