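import Groth.Agent.L09.EtSub.Gen
import Groth.Agent.L09.EtSub.Levels
import Groth.Agent.L09.ModEt.WeakAss

/-!
# Morphisms out of quasi-coherent modules by descent along an affine chart
-/

universe u

open CategoryTheory CategoryTheory.Limits AlgebraicGeometry Opposite AlgSp TensorProduct

set_option autoImplicit false
set_option linter.style.haveILetI false
set_option backward.isDefEq.respectTransparency false
set_option backward.isDefEq.respectTransparency.types false

noncomputable section

namespace Groth.L09.EtSub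

open Groth.L09.ModEt Groth.L09.EtAlt

variable {S : Scheme.{u}} {X : Sp S} {E₀ : EtOver X} {G M : ModEt X}

theorem induction_bc [G.IsQuasicoherent] [IsAffine E₀.obj.left.left] {V : EtOver X} [IsAffine V.obj.left.left]
    (a : V ⟶ E₀) {p : sectModEt G V → Prop} (hp : ∀ (b : Γ₀ V) (x : sectModEt G E₀), p (b • res G a x))
    (hadd : ∀ z w, p z → p w → p (z + w)) (z : sectModEt G V) : p z := by
  letI := (pb a).toAlgebra
  obtain ⟨y, rfl⟩ := (bc_of_isQuasicoherent G a).2 z
  induction y using TensorProduct.induction_on with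
  | zero => simpa using hp 0 0
  | tmul b x => exact hp b x
  | add y w hy hw => rw [map_add]; exact hadd _ _ hy hw

variable [IsAffine E₀.obj.left.left] [G.IsQuasicoherent]
  (l : sectModEt G E₀ →ₗ[Γ₀ E₀] sectModEt M E₀)

/-- The map on sections over an affine object over the chart. -/
def ψ {V : EtOver X} (a : V ⟶ E₀) :
    letI := (pb a).toAlgebra
    Γ₀ V ⊗[Γ₀ E₀] sectModEt G E₀ →+ sectModEt M V :=
  letI := (pb a).toAlgebra
  TensorProduct.liftAddHom
    (AddMonoidHom.mk' (fun b => ((DistribSMul.toAddMonoidHom (sectModEt M V) b).comp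
      ((res M a).comp l.toAddMonoidHom)))
      fun b b' => AddMonoidHom.ext fun m => add_smul b b' (res M a (l m)))
    fun r b m => by
      show (pb a r * b) • res M a (l m) = b • res M a (l (r • m))
      rw [map_smul, res_smul, smul_smul, mul_comm]

/-- The extension of a map on sections of the chart. -/
def Lmap {V : EtOver X} [IsAffine V.obj.left.left] (a : V ⟶ E₀) : sectModEt G V →+ sectModEt M V :=
  letI := (pb a).toAlgebra
  (ψ l a).comp (bcEquiv G a (bc_of_isQuasicoherent G a)).symm.toAddEquiv.toAddMonoidHom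

theorem Lmap_smul_res {V : EtOver X} [IsAffine V.obj.left.left] (a : V ⟶ E₀) (b : Γ₀ V) (x : sectModEt G E₀) :
    Lmap l a (b • res G a x) = b • res M a (l x) := by
  letI := (pb a).toAlgebra
  show ψ l a ((bcEquiv G a (bc_of_isQuasicoherent G a)).symm (bcEquiv G a (bc_of_isQuasicoherent G a) (b ⊗ₜ x))) = _
  rw [LinearEquiv.symm_apply_apply]
  rfl

theorem Lmap_res {V : EtOver X} [IsAffine V.obj.left.left] (a : V ⟶ E₀) (x : sectModEt G E₀) :
    Lmap l a (res G a x) = res M a (l x) := by
  have h := Lmap_smul_res l a 1 x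
  rwa [one_smul, one_smul] at h

theorem Lmap_smul {V : EtOver X} [IsAffine V.obj.left.left] (a : V ⟶ E₀) (r : Γ₀ V) (z : sectModEt G V) :
    Lmap l a (r • z) = r • Lmap l a z := by
  refine induction_bc a (p := fun z => Lmap l a (r • z) = r • Lmap l a z) (fun b x => ?_) (fun z w hz hw => ?_) z
  · rw [smul_smul, Lmap_smul_res, Lmap_smul_res, smul_smul]
  · rw [smul_add, map_add, map_add, hz, hw, smul_add]

theorem res_Lmap {V V' : EtOver X} [IsAffine V.obj.left.left] [IsAffine V'.obj.left.left] (h : V' ⟶ V) (a : V ⟶ E₀)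
    (z : sectModEt G V) : res M h (Lmap l a z) = Lmap l (h ≫ a) (res G h z) := by
  refine induction_bc a (p := fun z => res M h (Lmap l a z) = Lmap l (h ≫ a) (res G h z)) (fun b x => ?_)
    (fun z w hz hw => ?_) z
  · rw [Lmap_smul_res, res_smul, res_smul, ← res_comp, ← res_comp, Lmap_smul_res]
  · rw [map_add, map_add, map_add, map_add, hz, hw]

/-- The two extensions along the projections of a covering of the overlap agree on generators. -/
def Desc {κ : Type*} (Z : κ → EtOver X) [∀ k, IsAffine (Z k).obj.left.left]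
    (p₁ p₂ : ∀ k, Z k ⟶ E₀) (T : Set (sectModEt G E₀)) : Prop :=
  ∀ k, ∀ x ∈ T, Lmap l (p₁ k) (res G (p₂ k) x) = res M (p₂ k) (l x)

variable {l} {κ : Type*} {Z : κ → EtOver X} [∀ k, IsAffine (Z k).obj.left.left]
  {c : ∀ k, Z k ⟶ EtOver.prodObj E₀ E₀} {T : Set (sectModEt G E₀)}

theorem Desc.eq_proj (hd : Desc l Z (fun k => c k ≫ EtOver.prodFst E₀ E₀) (fun k => c k ≫ EtOver.prodSnd E₀ E₀) T)
    (hT : Submodule.span (Γ₀ E₀) T = ⊤) (k : κ) (z : sectModEt G (Z k)) :
    Lmap l (c k ≫ EtOver.prodFst E₀ E₀) z = Lmap l (c k ≫ EtOver.prodSnd E₀ E₀) z := by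
  refine induction_bc (c k ≫ EtOver.prodSnd E₀ E₀) (p := fun z => Lmap l (c k ≫ EtOver.prodFst E₀ E₀) z =
    Lmap l (c k ≫ EtOver.prodSnd E₀ E₀) z) (fun b x => ?_) (fun z w hz hw => by rw [map_add, map_add, hz, hw]) z
  rw [Lmap_smul, Lmap_smul, Lmap_res l (c k ≫ EtOver.prodSnd E₀ E₀)]
  refine congrArg (b • ·) ?_
  have hx : x ∈ Submodule.span (Γ₀ E₀) T := by rw [hT]; trivial
  induction hx using Submodule.span_induction with
  | mem y hy => exact hd k y hy
  | zero => rw [map_zero, map_zero, map_zero, map_zero]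
  | add y w _ _ hy hw => rw [map_add, map_add, map_add, map_add, hy, hw]
  | smul r y _ hy => rw [res_smul, Lmap_smul, hy, map_smul, res_smul]

variable (hc : IsCover c)
  (hd : Desc l Z (fun k => c k ≫ EtOver.prodFst E₀ E₀) (fun k => c k ≫ EtOver.prodSnd E₀ E₀) T)
  (hT : Submodule.span (Γ₀ E₀) T = ⊤)
include hc hd hT

theorem Desc.indep {V : EtOver X} [IsAffine V.obj.left.left] (a b : V ⟶ E₀) (z : sectModEt G V) :
    Lmap l a z = Lmap l b z := by
  have hcov := hc.pullback (pl a b)
  choose W hW g hg _hr using fun v : V.obj.left.left =>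
    have h := hcov v
    exists_affine_nhd (EtOver.pullbackObj (pl a b) (c h.choose)) h.choose_spec.choose ⊤ trivial
  let k : V.obj.left.left → κ := fun v => (hcov v).choose
  refine eq_of_cover M (c := fun v => g v ≫ EtOver.pullbackFst (pl a b) (c (k v))) (fun v => ⟨v, ?_⟩) fun v => ?_
  · obtain ⟨w, hw⟩ := hg v
    exact ⟨w, (congrArg (EtOver.pullbackFst (pl a b) (c (k v))).hom.left.left hw).trans (hcov v).choose_spec.choose_spec⟩
  · haveI := hW v
    let q := g v ≫ EtOver.pullbackFst (pl a b) (c (k v))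
    let r := g v ≫ EtOver.pullbackSnd (pl a b) (c (k v))
    have hq : q ≫ pl a b = r ≫ c (k v) := by
      simp only [q, r, Category.assoc, EtOver.pullback_condition]
    have ha : q ≫ a = r ≫ c (k v) ≫ EtOver.prodFst E₀ E₀ :=
      (congrArg (q ≫ ·) (pl_fst a b).symm).trans ((Category.assoc _ _ _).symm.trans
        ((congrArg (· ≫ EtOver.prodFst E₀ E₀) hq).trans (Category.assoc _ _ _)))
    have hb : q ≫ b = r ≫ c (k v) ≫ EtOver.prodSnd E₀ E₀ :=
      (congrArg (q ≫ ·) (pl_snd a b).symm).trans ((Category.assoc _ _ _).symm.trans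
        ((congrArg (· ≫ EtOver.prodSnd E₀ E₀) hq).trans (Category.assoc _ _ _)))
    show res M q (Lmap l a z) = res M q (Lmap l b z)
    rw [res_Lmap, res_Lmap, ha, hb]
    generalize res G q z = y
    refine induction_bc (r ≫ c (k v) ≫ EtOver.prodFst E₀ E₀) (p := fun y => Lmap l _ y = Lmap l _ y)
      (fun t x => ?_) (fun u w hu hw => by rw [map_add, map_add, hu, hw]) y
    rw [res_comp, Lmap_smul, Lmap_smul, ← res_Lmap, ← res_Lmap]
    exact congrArg (fun m => t • res M r m) (hd.eq_proj hT (k v) _)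

variable (hs : RepWith @Surjective E₀.obj.hom)
include hs

omit [IsAffine E₀.obj.left.left] hc hd hT in
theorem exists_chart_cover (E : EtOver X) :
    ∃ (V : E.obj.left.left → EtOver X) (h : ∀ e, V e ⟶ E) (_ : ∀ e, V e ⟶ E₀),
      (∀ e, IsAffine (V e).obj.left.left) ∧ IsCover h := by
  choose W hW g hg _hr using fun e : E.obj.left.left =>
    exists_affine_nhd (EtOver.prodObj E E₀) (isCover_prodFst hs E e).choose_spec.choose ⊤ trivial
  refine ⟨W, fun e => g e ≫ EtOver.prodFst E E₀, fun e => g e ≫ EtOver.prodSnd E E₀, hW, fun e => ⟨e, ?_⟩⟩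
  obtain ⟨w, hw⟩ := hg e
  exact ⟨w, (congrArg (EtOver.prodFst E E₀).hom.left.left hw).trans (isCover_prodFst hs E e).choose_spec.choose_spec⟩

theorem exists_unique_value (E : EtOver X) (s : sectModEt G E) :
    ∃! t : sectModEt M E, ∀ (V : EtOver X) [IsAffine V.obj.left.left] (h : V ⟶ E) (a : V ⟶ E₀),
      res M h t = Lmap l a (res G h s) := by
  obtain ⟨V, h, a, hV, hcov⟩ := exists_chart_cover hs E
  haveI := hV
  have key : ∀ (P : EtOver X) (i j : E.obj.left.left) (p : P ⟶ V i) (q : P ⟶ V j), p ≫ h i = q ≫ h j →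
      res M p (Lmap l (a i) (res G (h i) s)) = res M q (Lmap l (a j) (res G (h j) s)) := by
    intro P i j p q hpq
    choose W hW g hg _hr using fun x : P.obj.left.left => exists_affine_nhd P x ⊤ trivial
    refine eq_of_cover M (c := g) (fun x => ⟨x, hg x⟩) fun x => ?_
    haveI := hW x
    rw [← res_comp, ← res_comp, res_Lmap, res_Lmap, ← res_comp, ← res_comp]
    rw [show (g x ≫ q) ≫ h j = (g x ≫ p) ≫ h i by rw [Category.assoc, Category.assoc, hpq]]
    exact Desc.indep hc hd hT _ _ _
  obtain ⟨t, ht⟩ := exists_glue M hcov (fun i => Lmap l (a i) (res G (h i) s)) fun i j =>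
    key _ i j _ _ (EtOver.pullback_condition _ _)
  refine ⟨t, fun U _ k b => ?_, fun t' ht' => eq_of_cover M hcov fun i => (ht' _ (h i) (a i)).trans (ht i).symm⟩
  choose W hW g hg _hr using fun e : U.obj.left.left =>
    exists_affine_nhd (EtOver.pullbackObj k (h ((hcov.pullback k) e).choose))
      ((hcov.pullback k) e).choose_spec.choose ⊤ trivial
  let i : U.obj.left.left → E.obj.left.left := fun e => ((hcov.pullback k) e).choose
  refine eq_of_cover M (c := fun e => g e ≫ EtOver.pullbackFst k (h (i e))) (fun e => ⟨e, ?_⟩) fun e => ?_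
  · obtain ⟨w, hw⟩ := hg e
    exact ⟨w, (congrArg (EtOver.pullbackFst k (h (i e))).hom.left.left hw).trans
      ((hcov.pullback k) e).choose_spec.choose_spec⟩
  · haveI := hW e
    have hc' : (g e ≫ EtOver.pullbackFst k (h (i e))) ≫ k = (g e ≫ EtOver.pullbackSnd k (h (i e))) ≫ h (i e) := by
      rw [Category.assoc, Category.assoc, EtOver.pullback_condition]
    rw [res_Lmap]
    refine (res_congr M hc' t).trans ?_
    rw [ht, res_Lmap]
    refine Eq.trans (congrArg _ (res_congr G hc' s).symm) ?_
    exact Desc.indep hc hd hT _ _ _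

/-- A map on sections of an affine chart compatible on the overlap extends to a morphism. -/
theorem exists_hom : ∃ f : G ⟶ M, ∀ x, sapp f E₀ x = l x := by
  choose F hF hu using fun (E : EtOver X) (s : sectModEt G E) => exists_unique_value hc hd hT hs E s
  have hadd : ∀ (E : EtOver X) (s s' : sectModEt G E), F E (s + s') = F E s + F E s' := fun E s s' =>
    (hu E _ _ fun V _ h a => by rw [map_add, map_add, map_add, hF E s V h a, hF E s' V h a]).symm
  have hsmul : ∀ (E : EtOver X) (r : Γ₀ E) (s : sectModEt G E), F E (r • s) = r • F E s := fun E r s =>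
    (hu E _ _ fun V _ h a => by rw [res_smul, res_smul, Lmap_smul, hF E s V h a]).symm
  have hres : ∀ (E E' : EtOver X) (g : E' ⟶ E) (s : sectModEt G E), F E' (res G g s) = res M g (F E s) :=
    fun E E' g s => (hu E' _ _ fun V _ h a => by rw [← res_comp, ← res_comp, hF E s V (h ≫ g) a]).symm
  refine ⟨⟨{ app := fun V => ModuleCat.ofHom (X := G.val.obj V) (Y := M.val.obj V)
                { toFun := F V.unop
                  map_add' := hadd V.unop
                  map_smul' := fun r s => hsmul V.unop r.down s }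
             naturality := fun {V W} g => ModuleCat.hom_ext (LinearMap.ext fun s => hres V.unop W.unop g.unop s) }⟩,
    fun x => ?_⟩
  show F E₀ x = l x
  have h := hF E₀ x E₀ (𝟙 E₀) (𝟙 E₀)
  rw [Lmap_res, res_id, res_id] at h
  exact h

omit hc hd hT

/-- Morphisms out of a quasi-coherent module are determined on a surjective affine chart. -/
theorem hom_ext_chart {f f' : G ⟶ M} (h : ∀ x, sapp f E₀ x = sapp f' E₀ x) : f = f' := by
  refine SheafOfModules.Hom.ext (PresheafOfModules.hom_ext fun E => ModuleCat.hom_ext (LinearMap.ext fun s => ?_))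
  show sapp f E.unop s = sapp f' E.unop s
  obtain ⟨V, k, a, hV, hcov⟩ := exists_chart_cover hs E.unop
  refine eq_of_cover M hcov fun i => ?_
  haveI := hV i
  rw [← sapp_res, ← sapp_res]
  refine induction_bc (a i) (p := fun z => sapp f (V i) z = sapp f' (V i) z) (fun b x => ?_)
    (fun z w hz hw => by rw [map_add, map_add, hz, hw]) _
  rw [map_smul, map_smul, sapp_res, sapp_res, h]

end Groth.L09.EtSub
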