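import Groth.Agent.L09.EtSub.FilColim
import Groth.Agent.L09.EtSub.HomDesc
import Groth.Agent.L23.FpSections
import Groth.Agent.L23.QsTop

/-!
# Homs out of finitely presented modules and filtered colimits
-/

universe u

open CategoryTheory CategoryTheory.Limits AlgebraicGeometry Opposite AlgSp

set_option autoImplicit false
set_option linter.style.haveILetI false
set_option backward.isDefEq.respectTransparency false
set_option backward.isDefEq.respectTransparency.types false

noncomputable section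

namespace Groth.L09.EtSub

open Groth.L09.ModEt Groth.L09.EtAlt

variable {S : Scheme.{u}} {X : Sp S} {J : Type (u + 1)} [SmallCategory J] [IsFiltered J] (K : J ⥤ ModEt X)
  {E₀ : EtOver X} [IsAffine E₀.obj.left.left] (hs : RepWith @Surjective E₀.obj.hom)
  {G : ModEt X} [G.IsFinitePresentation] {n : ℕ} (e : Fin n → sectModEt G E₀)
  (he : Submodule.span (Γ₀ E₀) (Set.range e) = ⊤)
include hs he

/-- A morphism killed in the colimit is killed at a stage. -/
theorem exists_zero_stage (j : J) (x : G ⟶ K.obj j) (hx : x ≫ colimit.ι K j = 0) :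
    ∃ (k : J) (f : j ⟶ k), x ≫ K.map f = 0 := by
  obtain ⟨k, f, hf⟩ := exists_zero_finite K (fun _ : Fin n => E₀) j (fun i => sapp x E₀ (e i)) fun i =>
    (congrArg (fun g => sapp g E₀ (e i)) hx : sapp (x ≫ colimit.ι K j) E₀ (e i) = sapp 0 E₀ (e i))
  refine ⟨k, f, hom_ext_chart hs fun z => ?_⟩
  exact LinearMap.congr_fun (LinearMap.ext_on_range he (f := sapp (x ≫ K.map f) E₀) (g := 0) hf) z

/-- A morphism to the colimit comes from a stage. -/
theorem exists_hom_stage [QuasiSeparatedSpace ↥S] (hqs : IsQuasiSeparatedSp X) (φ : G ⟶ colimit K) :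
    ∃ (m : J) (f : G ⟶ K.obj m), f ≫ colimit.ι K m = φ := by
  classical
  choose jj y hy using fun i => exists_stage_affine K E₀ (sapp φ E₀ (e i))
  obtain ⟨j, hj⟩ := IsFiltered.sup_objs_exists (Finset.univ.image jj)
  let z : Fin n → sectModEt (K.obj j) E₀ := fun i =>
    sapp (K.map (hj (Finset.mem_image_of_mem jj (Finset.mem_univ i))).some) E₀ (y i)
  have hz : ∀ i, sapp (colimit.ι K j) E₀ (z i) = sapp φ E₀ (e i) := fun i =>
    (sapp_colimit_w K _ _ _).trans (hy i)
  -- a presentation of the sections on the chart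
  let π : (Fin n → Γ₀ E₀) →ₗ[Γ₀ E₀] sectModEt G E₀ := Fintype.linearCombination (Γ₀ E₀) e
  have hπ : Function.Surjective π := by
    rw [← LinearMap.range_eq_top, Fintype.range_linearCombination, he]
  haveI : Module.FinitePresentation (Γ₀ E₀) (sectModEt G E₀) := Groth.L23.FP.finitePresentation_sectModEt G E₀
  obtain ⟨T, hT⟩ := Module.FinitePresentation.fg_ker π hπ
  have hrel : ∀ r : T, sapp (colimit.ι K j) E₀ (Fintype.linearCombination (Γ₀ E₀) z r.1) = 0 := fun r => by
    have h : π r.1 = 0 := LinearMap.mem_ker.1 (hT.le (Submodule.subset_span r.2))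
    have := congrArg (sapp φ E₀) h
    simp only [π, Fintype.linearCombination_apply, map_sum, map_smul, map_zero] at this ⊢
    simpa only [hz] using this
  obtain ⟨k, g, hg⟩ := exists_zero_finite K (fun _ : T => E₀) j _ hrel
  -- the map on sections of the chart at stage `k`
  let w : Fin n → sectModEt (K.obj k) E₀ := fun i => sapp (K.map g) E₀ (z i)
  let L : (Fin n → Γ₀ E₀) →ₗ[Γ₀ E₀] sectModEt (K.obj k) E₀ := Fintype.linearCombination (Γ₀ E₀) w
  have hker : LinearMap.ker π ≤ LinearMap.ker L := by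
    refine hT.ge.trans (Submodule.span_le.2 fun r hr => LinearMap.mem_ker.2 (Eq.trans ?_ (hg ⟨r, hr⟩)))
    simp only [L, w, Fintype.linearCombination_apply, map_sum, map_smul]
  let l : sectModEt G E₀ →ₗ[Γ₀ E₀] sectModEt (K.obj k) E₀ :=
    ((LinearMap.ker π).liftQ L hker) ∘ₗ (π.quotKerEquivOfSurjective hπ).symm.toLinearMap
  have hle : ∀ i, l (e i) = w i := fun i => by
    have he1 : e i = π (Pi.single i 1) := by
      simp [π, Fintype.linearCombination_apply, Pi.single_apply, ite_smul]
    rw [he1]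
    show (LinearMap.ker π).liftQ L hker ((π.quotKerEquivOfSurjective hπ).symm (π (Pi.single i 1))) = _
    rw [show (π.quotKerEquivOfSurjective hπ).symm (π (Pi.single i 1)) = Submodule.Quotient.mk (Pi.single i 1) from
      (LinearEquiv.symm_apply_eq _).2 rfl]
    show L (Pi.single i 1) = _
    simp [L, Fintype.linearCombination_apply, Pi.single_apply, ite_smul]
  have hlι : ∀ x, sapp (colimit.ι K k) E₀ (l x) = sapp φ E₀ x := LinearMap.congr_fun
    (LinearMap.ext_on_range he (f := (sapp (colimit.ι K k) E₀).comp l) (g := sapp φ E₀) fun i =>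
      (congrArg (sapp (colimit.ι K k) E₀) (hle i)).trans ((sapp_colimit_w K _ _ _).trans (hz i)))
  -- the conditions on the overlap
  haveI := compactSpace_prodObj hqs E₀ E₀
  obtain ⟨κ, _, Z, c, hZ, -, hc⟩ := exists_finite_cover (E := EtOver.prodObj E₀ E₀) ((etTop X).top_mem _)
  haveI := hZ
  let p₁ : ∀ t, Z t ⟶ E₀ := fun t => c t ≫ EtOver.prodFst E₀ E₀
  let p₂ : ∀ t, Z t ⟶ E₀ := fun t => c t ≫ EtOver.prodSnd E₀ E₀
  have hL : ∀ (t : κ) (u : sectModEt G (Z t)),
      sapp (colimit.ι K k) (Z t) (Lmap l (p₁ t) u) = sapp φ (Z t) u := fun t u => by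
    refine induction_bc (p₁ t) (p := fun u => sapp (colimit.ι K k) (Z t) (Lmap l (p₁ t) u) = sapp φ (Z t) u)
      (fun b x => ?_) (fun u v hu hv => by rw [map_add, map_add, map_add, hu, hv]) u
    rw [Lmap_smul_res, map_smul, map_smul, sapp_res, sapp_res, hlι]
  obtain ⟨m, h, hh⟩ := exists_zero_finite K (fun q : κ × Fin n => Z q.1) k
    (fun q => Lmap l (p₁ q.1) (res G (p₂ q.1) (e q.2)) - res (K.obj k) (p₂ q.1) (l (e q.2))) fun q => by
      rw [map_sub, hL, sapp_res, sapp_res, hlι, sub_self]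
  let l' : sectModEt G E₀ →ₗ[Γ₀ E₀] sectModEt (K.obj m) E₀ := (sapp (K.map h) E₀).comp l
  have hL' : ∀ (t : κ) (u : sectModEt G (Z t)), Lmap l' (p₁ t) u = sapp (K.map h) (Z t) (Lmap l (p₁ t) u) :=
    fun t u => by
      refine induction_bc (p₁ t) (p := fun u => Lmap l' (p₁ t) u = sapp (K.map h) (Z t) (Lmap l (p₁ t) u))
        (fun b x => ?_) (fun u v hu hv => by rw [map_add, map_add, map_add, hu, hv]) u
      rw [Lmap_smul_res, Lmap_smul_res, map_smul, sapp_res]
      rfl
  have hd : Desc l' Z p₁ p₂ (Set.range e) := by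
    rintro t _ ⟨i, rfl⟩
    refine (hL' t _).trans (Eq.trans ?_ (sapp_res (K.map h) (p₂ t) (l (e i))))
    exact sub_eq_zero.1 ((map_sub (sapp (K.map h) (Z t)) _ _).symm.trans (hh (t, i)))
  obtain ⟨f, hf⟩ := exists_hom hc hd he hs
  refine ⟨m, f, hom_ext_chart hs fun x => ?_⟩
  refine (sapp_comp f (colimit.ι K m) E₀ x).trans ?_
  rw [hf]
  exact (sapp_colimit_w K _ _ _).trans (hlι x)

omit hs he [G.IsFinitePresentation] in
/-- Homs out of finitely presented modules commute with filtered colimits. -/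
theorem preservesColimit_coyoneda [QuasiSeparatedSpace ↥S] (hX : IsAlgSpace X) (hqc : IsQuasiCompactSp X)
    (hqs : IsQuasiSeparatedSp X) (G : ModEt X) [G.IsFinitePresentation] :
    PreservesColimit K (coyoneda.obj (op G)) := by
  obtain ⟨E₀, hU, hs⟩ : ∃ E₀ : EtOver X, IsAffine E₀.obj.left.left ∧ RepWith @Surjective E₀.obj.hom := by
    obtain ⟨U, p, hU, he, hs⟩ := Groth.L23.Qs.exists_affine_atlas hX hqc
    exact ⟨EtOver.mk p he, hU, hs⟩
  haveI := hU
  haveI : Module.FinitePresentation (Γ₀ E₀) (sectModEt G E₀) := Groth.L23.FP.finitePresentation_sectModEt G E₀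
  obtain ⟨n, e, he'⟩ := Module.Finite.exists_fin (R := Γ₀ E₀) (M := sectModEt G E₀)
  refine preservesColimit_of_preserves_colimit_cocone (colimit.isColimit K)
    (Types.FilteredColimit.isColimitOf' _ _ (fun φ => ?_) fun j x y hxy => ?_)
  · let φ' : G ⟶ colimit K := φ
    obtain ⟨m, f, hf⟩ := exists_hom_stage K hs e he' hqs φ'
    exact ⟨m, f, hf.symm⟩
  · let x' : G ⟶ K.obj j := x
    let y' : G ⟶ K.obj j := y
    have hxy' : x' ≫ colimit.ι K j = y' ≫ colimit.ι K j := hxy
    obtain ⟨k, f, hf⟩ := exists_zero_stage K hs e he' j (x' - y') (by rw [Preadditive.sub_comp, hxy', sub_self])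
    refine ⟨k, f, show x' ≫ K.map f = y' ≫ K.map f from sub_eq_zero.1 ?_⟩
    rw [← Preadditive.sub_comp]
    exact hf

end Groth.L09.EtSub
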