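import Groth.Agent.L09.EtSub.Basic
import Groth.Agent.L09.EtMV.Square
import Groth.Agent.L23.SubQcoh

/-!
# Quasi-coherent submodules over regions and their gluing along squares
-/

universe u

open CategoryTheory CategoryTheory.Limits AlgebraicGeometry Opposite AlgSp TopologicalSpace

set_option autoImplicit false
set_option linter.style.haveILetI false
set_option backward.isDefEq.respectTransparency false
set_option backward.isDefEq.respectTransparency.types false

noncomputable section

namespace Groth.L09.EtSub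

open Groth.L09.ModEt Groth.L09.EtMV Groth.L09.EtAlt

variable {S : Scheme.{u}} {X : Sp S}

/-- A point of an open has an affine neighbourhood object. -/
theorem exists_affine_nhd (W : EtOver X) (w : W.obj.left.left) (B : W.obj.left.left.Opens) (hw : w ∈ B) :
    ∃ (W' : EtOver X) (_ : IsAffine W'.obj.left.left) (c : W' ⟶ W),
      w ∈ Set.range c.hom.left.left ∧ Set.range c.hom.left.left ⊆ B := by
  obtain ⟨_, ⟨(C : W.obj.left.left.Opens), hC, rfl⟩, hwC, hCB⟩ :=
    W.obj.left.left.isBasis_affineOpens.exists_subset_of_mem_open (show w ∈ (B : Set W.obj.left.left) from hw) B.isOpen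
  exact ⟨openObj W C, hC, openι W C, ⟨⟨w, hwC⟩, rfl⟩, by rintro _ ⟨v, rfl⟩; exact hCB v.2⟩

variable (M : ModEt X)

/-- Compatible submodules on the affine objects over a region. -/
structure RegSub (L : Opens (Points X)) where
  /-- the submodule -/
  P : ∀ (E : EtOver X) [IsAffine E.obj.left.left], InB L E → Submodule (Γ₀ E) (sectModEt M E)
  res_mem : ∀ {E E' : EtOver X} [IsAffine E.obj.left.left] [IsAffine E'.obj.left.left] (g : E' ⟶ E)
    (hE : InB L E) {s : sectModEt M E}, s ∈ P E hE → res M g s ∈ P E' (hE.comp g)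
  mem_push : ∀ {E E' : EtOver X} [IsAffine E.obj.left.left] [IsAffine E'.obj.left.left] (g : E' ⟶ E)
    (hE : InB L E) {z : sectModEt M E'}, z ∈ P E' (hE.comp g) → z ∈ push M g (P E hE)

variable {M} {L' L : Opens (Points X)}

/-- All submodules are finitely generated. -/
def RegSub.FG (R : RegSub M L) : Prop :=
  ∀ (E : EtOver X) [IsAffine E.obj.left.left] (hE : InB L E), (R.P E hE).FG

theorem RegSub.push_eq (R : RegSub M L) {E E' : EtOver X} [IsAffine E.obj.left.left] [IsAffine E'.obj.left.left]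
    (g : E' ⟶ E) (hE : InB L E) : push M g (R.P E hE) = R.P E' (hE.comp g) :=
  le_antisymm (Submodule.span_le.2 (by rintro _ ⟨s, hs, rfl⟩; exact R.res_mem g hE hs))
    fun _ hz => R.mem_push g hE hz

theorem RegSub.P_congr (R : RegSub M L) {E : EtOver X} [IsAffine E.obj.left.left] (h h' : InB L E) :
    R.P E h = R.P E h' := rfl

theorem RegSub.mem_of_local [M.IsQuasicoherent] (R : RegSub M L) {E : EtOver X} [IsAffine E.obj.left.left]
    (hE : InB L E) {s : sectModEt M E}
    (h : ∀ e : ↥E.obj.left.left, ∃ (V : EtOver X) (_ : IsAffine V.obj.left.left) (g : V ⟶ E),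
      e ∈ Set.range g.hom.left.left ∧ res M g s ∈ R.P V (hE.comp g)) : s ∈ R.P E hE :=
  EtSub.mem_of_local M _ fun e => by
    obtain ⟨V, hV, g, he, hs⟩ := h e
    haveI := hV
    exact ⟨V, hV, g, he, R.mem_push g hE hs⟩

/-- Submodules over everything give a quasi-coherent submodule. -/
def RegSub.toAffSub (R : RegSub M (⊤ : Opens (Points X))) : Groth.L23.SubQcoh.AffSub M where
  P E _ := R.P E fun _ => trivial
  res_mem g _ hs := R.res_mem g _ hs
  mem_span g _ hz := R.mem_push g _ hz

section Glue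

variable {V : EtOver X} [IsAffine V.obj.left.left] (h : Sq L' L V) [M.IsQuasicoherent] (R : RegSub M L')
  (G : Submodule (Γ₀ V) (sectModEt M V))
  (hG : ∀ (W : EtOver X) [IsAffine W.obj.left.left] (hW : InB L' W) (k : W ⟶ V), push M k G = R.P W hW)

include h hG

omit [IsAffine V.obj.left.left] in
theorem push_unique {W : EtOver X} [IsAffine W.obj.left.left] (k₁ k₂ : W ⟶ V) : push M k₁ G ≤ push M k₂ G := by
  intro t ht
  refine EtSub.mem_of_local M _ fun w => ?_
  obtain ⟨W', hW', c, hc, heq⟩ : ∃ (W' : EtOver X) (_ : IsAffine W'.obj.left.left) (c : W' ⟶ W),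
      w ∈ Set.range c.hom.left.left ∧ push M (c ≫ k₁) G = push M (c ≫ k₂) G := by
    by_cases hw : Points.ofPt W.obj.hom w ∈ L'
    · obtain ⟨W', hW', c, hc, hr⟩ := exists_affine_nhd W w (preOpen L' W) hw
      haveI := hW'
      have hin : InB L' W' := fun v => by
        rw [ofPt_map c v]
        exact hr ⟨v, rfl⟩
      exact ⟨W', hW', c, hc, (hG W' hin _).trans (hG W' hin _).symm⟩
    · obtain ⟨z, hz⟩ := h.sep W k₁ k₂ w hw
      obtain ⟨W', hW', c, ⟨v, hv⟩, -⟩ := exists_affine_nhd _ z ⊤ trivial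
      refine ⟨W', hW', c ≫ EtOver.pullbackFst (pl k₁ k₂) (diagU V), ⟨v, ?_⟩, congrArg (fun m => push M m G) ?_⟩
      · rw [← hz, ← hv]
        rfl
      · have hc := EtOver.pullback_condition (pl k₁ k₂) (diagU V)
        have h₁ := congrArg (fun m => m ≫ EtOver.prodFst V V) hc
        have h₂ := congrArg (fun m => m ≫ EtOver.prodSnd V V) hc
        simp only [diagU, Category.assoc, pl_fst, pl_snd] at h₁ h₂
        rw [Category.assoc, Category.assoc]
        exact congrArg _ (h₁.trans h₂.symm)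
  haveI := hW'
  exact ⟨W', hW', c, hc, by rw [← push_comp, ← heq, push_comp]; exact res_mem_push M c ht⟩

omit h hG

/-- The submodule at a good object. -/
structure Val (W : EtOver X) [IsAffine W.obj.left.left] (Q : Submodule (Γ₀ W) (sectModEt M W)) : Prop where
  good : InB L' W ∨ Nonempty (W ⟶ V)
  old : ∀ hW, Q = R.P W hW
  hom : ∀ k : W ⟶ V, Q = push M k G

variable {R G}

include h hG

omit [IsAffine V.obj.left.left] in
theorem exists_val {W : EtOver X} [IsAffine W.obj.left.left] (hW : InB L' W ∨ Nonempty (W ⟶ V)) :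
    ∃ Q, Val R G W Q := by
  by_cases hin : InB L' W
  · exact ⟨_, Or.inl hin, fun _ => rfl, fun k => (hG W hin k).symm⟩
  · obtain ⟨k⟩ := hW.resolve_left hin
    exact ⟨push M k G, Or.inr ⟨k⟩, fun h' => absurd h' hin,
      fun k' => le_antisymm (push_unique h R G hG k k') (push_unique h R G hG k' k)⟩

omit [IsAffine V.obj.left.left] in
theorem Val.pushed {W W' : EtOver X} [IsAffine W.obj.left.left] [IsAffine W'.obj.left.left] (c : W' ⟶ W)
    {Q : Submodule (Γ₀ W) (sectModEt M W)} (hQ : Val R G W Q) : Val R G W' (EtSub.push M c Q) := by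
  rcases hQ.good with hin | ⟨⟨k⟩⟩
  · rw [hQ.old hin, R.push_eq c hin]
    exact ⟨Or.inl (hin.comp c), fun _ => rfl, fun k' => (hG _ _ k').symm⟩
  · rw [hQ.hom k, ← push_comp]
    exact ⟨Or.inr ⟨c ≫ k⟩, fun hin => hG _ hin _, fun k' =>
      le_antisymm (push_unique h R G hG _ k') (push_unique h R G hG k' _)⟩

omit h hG [IsAffine V.obj.left.left] [M.IsQuasicoherent] in
theorem Val.unique {W : EtOver X} [IsAffine W.obj.left.left] {Q Q' : Submodule (Γ₀ W) (sectModEt M W)}
    (hQ : Val R G W Q) (hQ' : Val R G W Q') : Q = Q' := by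
  rcases hQ.good with hin | ⟨⟨k⟩⟩
  · rw [hQ.old hin, hQ'.old hin]
  · rw [hQ.hom k, hQ'.hom k]

omit hG [IsAffine V.obj.left.left] [M.IsQuasicoherent] in
theorem exists_good_cover {E : EtOver X} [IsAffine E.obj.left.left] (hE : InB L E) :
    ∃ (κ : Type u) (_ : Finite κ) (W : κ → EtOver X) (c : ∀ j, W j ⟶ E), IsCover c ∧
      ∀ j, IsAffine (W j).obj.left.left ∧ (InB L' (W j) ∨ Nonempty (W j ⟶ V)) := by
  have hpt : ∀ e : ↥E.obj.left.left, ∃ (W : EtOver X) (c : W ⟶ E), e ∈ Set.range c.hom.left.left ∧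
      IsAffine W.obj.left.left ∧ (InB L' W ∨ Nonempty (W ⟶ V)) := fun e => by
    obtain ⟨W, k, ⟨w, hw⟩, hgood⟩ := EtMV.exists_cover h hE e
    obtain ⟨W', hW', c, ⟨v, hv⟩, -⟩ := exists_affine_nhd W w ⊤ trivial
    refine ⟨W', c ≫ k, ⟨v, by rw [← hw, ← hv]; rfl⟩, hW', ?_⟩
    rcases hgood with hin | ⟨⟨g⟩⟩
    · exact Or.inl (hin.comp c)
    · exact Or.inr ⟨c ≫ g⟩
  choose W c hc hgood using hpt
  obtain ⟨κ, hκ, a, ha⟩ := exists_finite_sub (c := c) fun e => ⟨e, hc e⟩
  exact ⟨κ, hκ, fun j => W (a j), fun j => c (a j), ha, fun j => hgood (a j)⟩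

variable (R G)

omit h hG [IsAffine V.obj.left.left] [M.IsQuasicoherent] in
/-- The glued submodule on an affine object. -/
def glueP (E : EtOver X) : Submodule (Γ₀ E) (sectModEt M E) where
  carrier := {s | ∀ (W : EtOver X) [IsAffine W.obj.left.left] (g : W ⟶ E) (Q : Submodule (Γ₀ W) (sectModEt M W)),
    Val R G W Q → res M g s ∈ Q}
  add_mem' := fun hs ht W _ g Q hQ => by rw [map_add]; exact add_mem (hs W g Q hQ) (ht W g Q hQ)
  zero_mem' := fun W _ g Q _ => by rw [map_zero]; exact zero_mem _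
  smul_mem' := fun a s hs W _ g Q hQ => by rw [res_smul]; exact Submodule.smul_mem _ _ (hs W g Q hQ)

omit [IsAffine V.obj.left.left] h in
theorem mem_glueP_of_cover (h : Sq L' L V) {E : EtOver X} [IsAffine E.obj.left.left] {κ : Type*} {W : κ → EtOver X}
    [∀ j, IsAffine (W j).obj.left.left] {c : ∀ j, W j ⟶ E} (hc : IsCover c)
    {Q : ∀ j, Submodule (Γ₀ (W j)) (sectModEt M (W j))} (hQ : ∀ j, Val R G (W j) (Q j)) {s : sectModEt M E}
    (hs : ∀ j, res M (c j) s ∈ Q j) : s ∈ glueP R G E := by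
  intro W' _ g Q' hQ'
  refine EtSub.mem_of_local M Q' fun w => ?_
  obtain ⟨j, hj⟩ := hc.pullback g w
  haveI := isAffine_pullback g (c j)
  refine ⟨EtOver.pullbackObj g (c j), inferInstance, EtOver.pullbackFst g (c j), hj, ?_⟩
  rw [Val.unique (hQ'.pushed h hG (EtOver.pullbackFst g (c j))) ((hQ j).pushed h hG (EtOver.pullbackSnd g (c j))),
    res_congr M (EtOver.pullback_condition g (c j))]
  exact res_mem_push M _ (hs j)

omit [IsAffine V.obj.left.left] h in
theorem push_glueP_of_val (h : Sq L' L V) {E E' : EtOver X} [IsAffine E.obj.left.left] [IsAffine E'.obj.left.left]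
    (hE : InB L E) (g : E' ⟶ E) {z : sectModEt M E'} (hz : z ∈ glueP R G E') : z ∈ push M g (glueP R G E) := by
  obtain ⟨κ, _, W, c, hc, hW⟩ := exists_good_cover h hE
  haveI := fun j => (hW j).1
  choose Q hQ using fun j => exists_val h hG (hW j).2
  refine Submodule.span_mono (Set.image_mono ?_) (mem_push_kerSub M g c Q (z := z) fun j => ?_)
  · exact fun s hs => mem_glueP_of_cover R G hG h hc hQ hs
  · haveI := isAffine_pullback g (c j)
    exact hz _ _ _ ((hQ j).pushed h hG _)

/-- Gluing along a square. -/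
def glue : RegSub M L where
  P E _ _ := glueP R G E
  res_mem g _ s hs W _ k Q hQ := by rw [← res_comp]; exact hs W _ Q hQ
  mem_push g hE _ hz := push_glueP_of_val R G hG h hE g hz

omit [IsAffine V.obj.left.left] in
theorem glueP_of_val {E : EtOver X} [IsAffine E.obj.left.left] {Q : Submodule (Γ₀ E) (sectModEt M E)}
    (hQ : Val R G E Q) : glueP R G E = Q :=
  le_antisymm (fun s hs => by simpa using hs E (𝟙 E) Q hQ)
    fun s hs W _ g Q' hQ' => by
      rw [Val.unique hQ' (hQ.pushed h hG g)]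
      exact res_mem_push M g hs

omit [IsAffine V.obj.left.left] in
theorem glue_old {E : EtOver X} [IsAffine E.obj.left.left] (hE : InB L' E) :
    (glue h R G hG).P E (hE.mono h.le) = R.P E hE :=
  glueP_of_val h R G hG ⟨Or.inl hE, fun _ => rfl, fun k => (hG E hE k).symm⟩

theorem glue_self : (glue h R G hG).P V h.inB = G := by
  obtain ⟨Q, hQ⟩ := exists_val h hG (W := V) (Or.inr ⟨𝟙 V⟩)
  exact (glueP_of_val h R G hG hQ).trans ((hQ.hom (𝟙 V)).trans (push_id M G))

omit [IsAffine V.obj.left.left] in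
theorem glue_fg (hR : R.FG) (hGf : G.FG) : (glue h R G hG).FG := by
  classical
  intro E _ hE
  obtain ⟨κ, _, W, c, hc, hW⟩ := exists_good_cover h hE
  cases nonempty_fintype κ
  haveI := fun j => (hW j).1
  choose Q hQ using fun j => exists_val h hG (hW j).2
  have hQf : ∀ j, (Q j).FG := fun j => by
    rcases (hQ j).good with hin | ⟨⟨k⟩⟩
    · rw [(hQ j).old hin]
      exact hR _ hin
    · rw [(hQ j).hom k]
      exact push_fg M k hGf
  have hle : ∀ j, Q j ≤ push M (c j) (glueP R G E) := fun j z hz =>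
    push_glueP_of_val R G hG h hE (c j) ((glueP_of_val h R G hG (hQ j)).symm ▸ hz)
  choose S hS using hQf
  have hT : ∀ (j) (z : sectModEt M (W j)), z ∈ S j → ∃ T : Finset (sectModEt M E),
      (T : Set (sectModEt M E)) ⊆ glueP R G E ∧ z ∈ Submodule.span (Γ₀ (W j)) (res M (c j) '' T) := by
    intro j z hz
    obtain ⟨T', hT', hzT⟩ := Submodule.mem_span_finite_of_mem_span
      (hle j (hS j ▸ Submodule.subset_span hz))
    obtain ⟨T, hT, rfl⟩ := Finset.subset_set_image_iff.1 hT'
    exact ⟨T, hT, by simpa using hzT⟩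
  choose T hTsub hTmem using hT
  refine ⟨Finset.univ.biUnion fun j => (S j).attach.biUnion fun z => T j z.1 z.2, le_antisymm
    (Submodule.span_le.2 ?_) fun s hs => ?_⟩
  · intro t ht
    simp only [Finset.coe_biUnion, Set.mem_iUnion, Finset.mem_coe] at ht
    obtain ⟨j, -, z, -, ht⟩ := ht
    exact hTsub j z.1 z.2 ht
  · refine EtSub.mem_of_local M _ fun e => ?_
    obtain ⟨j, hj⟩ := hc e
    refine ⟨W j, inferInstance, c j, hj, ?_⟩
    have hs' : res M (c j) s ∈ Submodule.span (Γ₀ (W j)) (S j : Set (sectModEt M (W j))) :=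
      (hS j).symm ▸ hs (W j) (c j) (Q j) (hQ j)
    rw [push_span]
    refine Submodule.span_le.2 (fun z hz => ?_) hs'
    refine Submodule.span_mono (Set.image_mono fun t ht => ?_) (hTmem j z hz)
    simp only [Finset.coe_biUnion, Set.mem_iUnion, Finset.mem_coe]
    exact ⟨j, Finset.mem_univ _, ⟨z, hz⟩, Finset.mem_attach _ _, ht⟩

end Glue

end Groth.L09.EtSub
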