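import Groth.Agent.L09.EtSub.Levels
import Groth.Agent.L09.ModEt.Closed
import Groth.Agent.L23.FtCriterion
import Groth.Agent.L23.FpNoeth

/-!
# Quasi-coherent submodules of finite type
-/

universe u

open CategoryTheory CategoryTheory.Limits AlgebraicGeometry Opposite AlgSp TopologicalSpace

set_option autoImplicit false
set_option linter.style.haveILetI false
set_option backward.isDefEq.respectTransparency false
set_option backward.isDefEq.respectTransparency.types false

noncomputable section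

namespace Groth.L09.EtSub

open Groth.L09.ModEt Groth.L09.EtMV Groth.L23.SubQcoh

variable {S : Scheme.{u}} {X : Sp S} {M : ModEt X}

theorem sapp_comp {A B C : ModEt X} (f : A ⟶ B) (g : B ⟶ C) (E : EtOver X) (x : sectModEt A E) :
    sapp (f ≫ g) E x = sapp g E (sapp f E x) := rfl

/-- A map landing in a submodule on affine objects factors through it. -/
theorem exists_lift [M.IsQuasicoherent] (A : AffSub M) {N : ModEt X} (φ : N ⟶ M)
    (h : ∀ (E : EtOver X) [IsAffine E.obj.left.left] (x : sectModEt N E), sapp φ E x ∈ A.P E) :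
    ∃ ψ : N ⟶ A.mod, ψ ≫ A.ι = φ := by
  have hmem : ∀ (E : (EtOver X)ᵒᵖ) (x : N.val.obj E), (φ.val.app E).hom x ∈ A.sub.obj E := fun E x W _ g => by
    rw [show res M g ((φ.val.app E).hom x) = sapp φ W (res N g x) from (sapp_res φ g x).symm]
    exact h W _
  refine ⟨⟨{ app := fun E => ModuleCat.ofHom ((φ.val.app E).hom.codRestrict (A.sub.obj E) (hmem E))
             naturality := fun {E E'} f => ?_ }⟩, ?_⟩
  · ext x
    exact Subtype.ext (sapp_res φ f.unop x)
  · ext E x
    rfl

/-- The image on affine objects of a quasi-coherent submodule. -/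
def ofHom {N : ModEt X} (φ : N ⟶ M) [N.IsQuasicoherent] : AffSub M where
  P E _ := LinearMap.range (sapp φ E)
  res_mem g s hs := by
    obtain ⟨x, rfl⟩ := hs
    exact ⟨_, sapp_res φ g x⟩
  mem_span {E E'} _ _ g z hz := by
    obtain ⟨x, rfl⟩ := hz
    letI := (pb g).toAlgebra
    obtain ⟨y, rfl⟩ := (bc_of_isQuasicoherent N g).2 x
    rw [θ_sapp]
    induction y using TensorProduct.induction_on with
    | zero => simp
    | tmul b m => rw [LinearMap.lTensor_tmul, θ_tmul]; exact Submodule.smul_mem _ b (res_mem_push M g ⟨m, rfl⟩)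
    | add a b ha hb => rw [map_add, map_add]; exact add_mem ha hb

/-- The sum of two submodules on affine objects. -/
def sup (A B : AffSub M) : AffSub M where
  P E _ := A.P E ⊔ B.P E
  res_mem g s hs := by
    obtain ⟨a, ha, b, hb, rfl⟩ := Submodule.mem_sup.1 hs
    rw [map_add]
    exact Submodule.add_mem_sup (A.res_mem g ha) (B.res_mem g hb)
  mem_span g z hz := by
    obtain ⟨a, ha, b, hb, rfl⟩ := Submodule.mem_sup.1 hz
    exact add_mem (push_mono M g le_sup_left (A.mem_span g ha)) (push_mono M g le_sup_right (B.mem_span g hb))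

theorem isFiniteType_mod [M.IsQuasicoherent] (A : AffSub M)
    (hA : ∀ (E : EtOver X) [IsAffine E.obj.left.left], (A.P E).FG) : A.mod.IsFiniteType := by
  haveI := A.isQuasicoherent
  refine Groth.L23.FP.isFiniteType_of_cover A.mod fun E e => ?_
  obtain ⟨W, hW, c, hc, -⟩ := exists_affine_nhd E e ⊤ trivial
  haveI := hW
  refine ⟨W, hW, c, hc, ?_⟩
  obtain ⟨T, hT⟩ := hA W
  refine ⟨?_⟩
  refine Submodule.fg_of_fg_map_injective (sapp A.ι W) (injective_sapp_of_mono A.ι W) ?_
  rw [Submodule.map_top]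
  refine ⟨T, hT.trans ?_⟩
  exact SetLike.coe_injective (A.range_ι W).symm

variable (M) in
/-- Every local section lies in a quasi-coherent submodule of finite type. -/
theorem exists_affSub_fg [M.IsQuasicoherent] [QuasiSeparatedSpace ↥S] (hX : IsAlgSpace X)
    (hqc : IsQuasiCompactSp X) (hqs : IsQuasiSeparatedSp X) {E₀ : EtOver X} [IsAffine E₀.obj.left.left]
    (T₀ : Finset (sectModEt M E₀)) :
    ∃ A : AffSub M, (∀ (E : EtOver X) [IsAffine E.obj.left.left], (A.P E).FG) ∧ ∀ s ∈ T₀, s ∈ A.P E₀ := by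
  obtain ⟨R, hR, hs⟩ := exists_regSub hX hqc hqs T₀
  exact ⟨R.toAffSub, fun E _ => hR E fun _ => trivial, hs⟩

/-- The zero submodule. -/
def bot (M : ModEt X) : AffSub M where
  P _ _ := ⊥
  res_mem g s hs := by rw [(Submodule.mem_bot _).1 hs, map_zero]; exact zero_mem _
  mem_span g z hz := by rw [(Submodule.mem_bot _).1 hz]; exact zero_mem _

section Colimit

variable [M.IsQuasicoherent] (P : ObjectProperty (Subobject M))

/-- Two subobjects of finite type lie in a third. -/
theorem exists_ub (hP : P = fun N => (Subobject.underlying.obj N).IsQuasicoherent ∧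
    (Subobject.underlying.obj N).IsFiniteType) (N₁ N₂ : P.FullSubcategory) :
    ∃ N : P.FullSubcategory, N₁.obj ≤ N.obj ∧ N₂.obj ≤ N.obj := by
  obtain ⟨h₁, h₁'⟩ := (congrFun hP N₁.obj).mp N₁.property
  obtain ⟨h₂, h₂'⟩ := (congrFun hP N₂.obj).mp N₂.property
  haveI := h₁; haveI := h₁'; haveI := h₂; haveI := h₂'
  let A := sup (ofHom N₁.obj.arrow) (ofHom N₂.obj.arrow)
  haveI := A.isQuasicoherent
  haveI : A.mod.IsFiniteType := isFiniteType_mod A fun E _ => by
    haveI := finite_sectModEt (Subobject.underlying.obj N₁.obj) E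
    haveI := finite_sectModEt (Subobject.underlying.obj N₂.obj) E
    exact (Module.Finite.iff_fg.1 (Module.Finite.range _)).sup (Module.Finite.iff_fg.1 (Module.Finite.range _))
  have hN : P (Subobject.mk A.ι) := (congrFun hP _).mpr
    ⟨(SheafOfModules.isQuasicoherent (OEtRing X)).prop_of_iso (Subobject.underlyingIso A.ι).symm A.isQuasicoherent,
      Groth.L23.FP.isFiniteType_of_epi (Subobject.underlyingIso A.ι).inv⟩
  refine ⟨⟨_, hN⟩, ?_, ?_⟩
  · obtain ⟨ψ, hψ⟩ := exists_lift A N₁.obj.arrow fun E _ x => Submodule.mem_sup_left ⟨x, rfl⟩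
    exact Subobject.le_mk_of_comm ψ hψ
  · obtain ⟨ψ, hψ⟩ := exists_lift A N₂.obj.arrow fun E _ x => Submodule.mem_sup_right ⟨x, rfl⟩
    exact Subobject.le_mk_of_comm ψ hψ

/-- Every affine section lifts to a submodule of finite type. -/
theorem exists_mem (hP : P = fun N => (Subobject.underlying.obj N).IsQuasicoherent ∧
    (Subobject.underlying.obj N).IsFiniteType) [QuasiSeparatedSpace ↥S] (hX : IsAlgSpace X)
    (hqc : IsQuasiCompactSp X) (hqs : IsQuasiSeparatedSp X) {W : EtOver X} [IsAffine W.obj.left.left]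
    (s : sectModEt M W) :
    ∃ (N : P.FullSubcategory) (x : sectModEt ((P.ι ⋙ Subobject.underlying).obj N) W), sapp N.obj.arrow W x = s := by
  obtain ⟨A, hA, hs⟩ := exists_affSub_fg M hX hqc hqs {s}
  haveI := isFiniteType_mod A hA
  have hN : P (Subobject.mk A.ι) := (congrFun hP _).mpr
    ⟨(SheafOfModules.isQuasicoherent (OEtRing X)).prop_of_iso (Subobject.underlyingIso A.ι).symm A.isQuasicoherent,
      Groth.L23.FP.isFiniteType_of_epi (Subobject.underlyingIso A.ι).inv⟩
  have hs' : s ∈ Set.range (A.ι.val.app (op W)).hom := by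
    rw [A.range_ι]
    exact hs s (Finset.mem_singleton_self s)
  obtain ⟨x, hx⟩ := hs'
  refine ⟨⟨_, hN⟩, sapp (Subobject.underlyingIso A.ι).inv W x, ?_⟩
  exact ((sapp_comp _ _ W x).symm.trans (congrArg (fun f => sapp f W x) (Subobject.underlyingIso_arrow A.ι))).trans hx

variable {P}

/-- Directedness of the submodules. -/
def Dir (P : ObjectProperty (Subobject M)) : Prop :=
  ∀ N₁ N₂ : P.FullSubcategory, ∃ N : P.FullSubcategory, N₁.obj ≤ N.obj ∧ N₂.obj ≤ N.obj

variable (c : Cocone (P.ι ⋙ Subobject.underlying))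

/-- A section lifts to a submodule with the given value. -/
def Rel (E : EtOver X) (s : sectModEt M E) (t : sectModEt c.pt E) : Prop :=
  ∃ (N : P.FullSubcategory) (x : sectModEt ((P.ι ⋙ Subobject.underlying).obj N) E),
    sapp N.obj.arrow E x = s ∧ sapp (c.ι.app N) E x = t

/-- A section lifts locally with the given values. -/
def LocRel (E : EtOver X) (s : sectModEt M E) (t : sectModEt c.pt E) : Prop :=
  ∀ e : E.obj.left.left, ∃ (W : EtOver X) (g : W ⟶ E),
    e ∈ Set.range g.hom.left.left ∧ Rel c W (res M g s) (res c.pt g t)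

omit [M.IsQuasicoherent] in
theorem Rel.res {E E' : EtOver X} {s t} (h : Rel c E s t) (g : E' ⟶ E) :
    Rel c E' (ModEt.res M g s) (ModEt.res c.pt g t) := by
  obtain ⟨N, x, rfl, rfl⟩ := h
  exact ⟨N, ModEt.res _ g x, sapp_res N.obj.arrow g x, sapp_res (c.ι.app N) g x⟩

omit [M.IsQuasicoherent] in
theorem sapp_up {N₁ N : P.FullSubcategory} (h : N₁.obj ≤ N.obj) (E : EtOver X)
    (x : sectModEt ((P.ι ⋙ Subobject.underlying).obj N₁) E) :
    sapp N.obj.arrow E (sapp (Subobject.ofLE _ _ h) E x) = sapp N₁.obj.arrow E x ∧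
      sapp (c.ι.app N) E (sapp (Subobject.ofLE _ _ h) E x) = sapp (c.ι.app N₁) E x := by
  refine ⟨(sapp_comp _ _ E x).symm.trans (congrArg (fun f => sapp f E x) (Subobject.ofLE_arrow h)), ?_⟩
  refine (sapp_comp (Subobject.ofLE _ _ h) (c.ι.app N) E x).symm.trans (congrArg (fun f => sapp f E x) ?_)
  exact c.w (show N₁ ⟶ N from ObjectProperty.homMk (homOfLE h))

variable {c} (hd : Dir P)
include hd

omit [M.IsQuasicoherent] in
theorem Rel.unique {E : EtOver X} {s t t'} (h : Rel c E s t) (h' : Rel c E s t') : t = t' := by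
  obtain ⟨N₁, x₁, hs₁, rfl⟩ := h
  obtain ⟨N₂, x₂, hs₂, rfl⟩ := h'
  obtain ⟨N, h₁, h₂⟩ := hd N₁ N₂
  rw [← (sapp_up c h₁ E x₁).2, ← (sapp_up c h₂ E x₂).2]
  refine congrArg _ (injective_sapp_of_mono N.obj.arrow E ?_)
  exact ((sapp_up c h₁ E x₁).1.trans hs₁).trans ((sapp_up c h₂ E x₂).1.trans hs₂).symm

omit [M.IsQuasicoherent] in
theorem Rel.add {E : EtOver X} {s t s' t'} (h : Rel c E s t) (h' : Rel c E s' t') : Rel c E (s + s') (t + t') := by
  obtain ⟨N₁, x₁, rfl, rfl⟩ := h
  obtain ⟨N₂, x₂, rfl, rfl⟩ := h'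
  obtain ⟨N, h₁, h₂⟩ := hd N₁ N₂
  exact ⟨N, sapp (Subobject.ofLE _ _ h₁) E x₁ + sapp (Subobject.ofLE _ _ h₂) E x₂,
    (map_add _ _ _).trans (congrArg₂ (· + ·) (sapp_up c h₁ E x₁).1 (sapp_up c h₂ E x₂).1),
    (map_add _ _ _).trans (congrArg₂ (· + ·) (sapp_up c h₁ E x₁).2 (sapp_up c h₂ E x₂).2)⟩

omit [M.IsQuasicoherent] in
theorem LocRel.unique {E : EtOver X} {s t t'} (h : LocRel c E s t) (h' : LocRel c E s t') : t = t' := by
  choose W g hg hr using h
  choose W' g' hg' hr' using h'
  have hcov : IsCover g := fun e => ⟨e, hg e⟩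
  refine eq_of_cover c.pt hcov fun e => ?_
  have hcov' : IsCover g' := fun e' => ⟨e', hg' e'⟩
  refine eq_of_cover c.pt (hcov'.pullback (g e)) fun e' => ?_
  refine Rel.unique hd ((hr e).res c (EtOver.pullbackFst (g e) (g' e'))) ?_
  rw [res_congr M (EtOver.pullback_condition (g e) (g' e')), res_congr c.pt (EtOver.pullback_condition (g e) (g' e'))]
  exact (hr' e').res c _

omit [M.IsQuasicoherent] in
theorem exists_locRel (hsurj : ∀ (W : EtOver X) [IsAffine W.obj.left.left] (s : sectModEt M W),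
      ∃ (N : P.FullSubcategory) (x : sectModEt ((P.ι ⋙ Subobject.underlying).obj N) W), sapp N.obj.arrow W x = s)
    (E : EtOver X) (s : sectModEt M E) : ∃ t, LocRel c E s t := by
  choose W hW g hg _hr using fun e : E.obj.left.left => exists_affine_nhd E e ⊤ trivial
  choose N x hx using fun e => haveI := hW e; hsurj (W e) (res M (g e) s)
  obtain ⟨t, ht⟩ := exists_glue c.pt (c := g) (fun e => ⟨e, hg e⟩) (fun e => sapp (c.ι.app (N e)) _ (x e))
    fun i j => by
      refine Rel.unique hd (Rel.res c ⟨N i, x i, hx i, rfl⟩ (EtOver.pullbackFst (g i) (g j))) ?_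
      rw [res_congr M (EtOver.pullback_condition (g i) (g j))]
      exact Rel.res c ⟨N j, x j, hx j, rfl⟩ _
  exact ⟨t, fun e => ⟨W e, g e, hg e, N e, x e, hx e, (ht e).symm⟩⟩

omit [M.IsQuasicoherent] in
/-- A directed family of submodules through which all affine sections factor is a colimit. -/
theorem nonempty_isColimit (ι : P.ι ⋙ Subobject.underlying ⟶ (Functor.const P.FullSubcategory).obj M)
    (hι : ∀ N : P.FullSubcategory, ι.app N = N.obj.arrow)
    (hsurj : ∀ (W : EtOver X) [IsAffine W.obj.left.left] (s : sectModEt M W),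
      ∃ (N : P.FullSubcategory) (x : sectModEt ((P.ι ⋙ Subobject.underlying).obj N) W), sapp N.obj.arrow W x = s) :
    Nonempty (IsColimit (Cocone.mk M ι)) := by
  choose f hf using fun (c : Cocone (P.ι ⋙ Subobject.underlying)) => exists_locRel (c := c) hd hsurj
  have hres : ∀ (c : Cocone (P.ι ⋙ Subobject.underlying)) {E E' : EtOver X} (g : E' ⟶ E) (s : sectModEt M E),
      f c E' (res M g s) = res c.pt g (f c E s) := fun c E E' g s => by
    refine LocRel.unique hd (hf c E' _) fun e' => ?_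
    obtain ⟨W, k, hk, hr⟩ := hf c E s (g.hom.left.left e')
    obtain ⟨p, hp, -⟩ := Scheme.exists_preimage_of_isPullback
      ((EtOver.isPullback g k).map (EtOver.toScheme X)) e' hk.choose hk.choose_spec.symm
    refine ⟨_, EtOver.pullbackFst g k, ⟨p, hp⟩, ?_⟩
    rw [res_congr M (EtOver.pullback_condition g k), res_congr c.pt (EtOver.pullback_condition g k)]
    exact hr.res c _
  have hadd : ∀ (c : Cocone (P.ι ⋙ Subobject.underlying)) (E : EtOver X) (s s' : sectModEt M E),
      f c E (s + s') = f c E s + f c E s' := fun c E s s' => by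
    refine LocRel.unique hd (hf c E _) fun e => ?_
    obtain ⟨W, k, hk, hr⟩ := hf c E s e
    obtain ⟨W', k', hk', hr'⟩ := hf c E s' e
    obtain ⟨p, hp, -⟩ := Scheme.exists_preimage_of_isPullback ((EtOver.isPullback k k').map (EtOver.toScheme X))
      hk.choose hk'.choose (hk.choose_spec.trans hk'.choose_spec.symm)
    refine ⟨_, EtOver.pullbackFst k k' ≫ k, ⟨p, ?_⟩, ?_⟩
    · rw [← hk.choose_spec]
      exact congrArg k.hom.left.left hp
    · rw [map_add, map_add, res_comp, res_comp, res_comp, res_comp]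
      refine Rel.add hd (hr.res c _) ?_
      rw [res_congr M (EtOver.pullback_condition k k'), res_congr c.pt (EtOver.pullback_condition k k')]
      exact hr'.res c _
  have hsmul : ∀ (c : Cocone (P.ι ⋙ Subobject.underlying)) (E : EtOver X) (a : Γ₀ E) (s : sectModEt M E),
      f c E (a • s) = a • f c E s := fun c E a s => by
    refine LocRel.unique hd (hf c E _) fun e => ?_
    obtain ⟨W, k, hk, N, x, hx, hx'⟩ := hf c E s e
    refine ⟨W, k, hk, N, pb k a • x, ?_, ?_⟩
    · rw [map_smul, res_smul, hx]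
    · rw [map_smul, res_smul, hx']
  let dhom : ∀ c : Cocone (P.ι ⋙ Subobject.underlying), M ⟶ c.pt := fun c =>
    ⟨{ app := fun E => ModuleCat.ofHom
        { toFun := f c E.unop
          map_add' := hadd c E.unop
          map_smul' := fun r s => hsmul c E.unop r.down s }
       naturality := fun {E E'} g => by
        ext s
        exact hres c g.unop s }⟩
  refine ⟨{ desc := dhom, fac := fun c N => ?_, uniq := fun c m hm => ?_ }⟩
  · ext E x
    show f c E.unop (sapp (ι.app N) E.unop x) = sapp (c.ι.app N) E.unop x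
    refine LocRel.unique hd (hf c _ _) fun e => ⟨E.unop, 𝟙 _, ⟨e, rfl⟩, N, x, ?_, ?_⟩
    · rw [res_id, hι]; rfl
    · rw [res_id]
  · ext E s
    show sapp m E.unop s = f c E.unop s
    refine LocRel.unique hd (fun e => ?_) (hf c _ s)
    obtain ⟨W, k, hk, N, x, hx, -⟩ := hf c E.unop s e
    refine ⟨W, k, hk, N, x, hx, ?_⟩
    rw [← hm N]
    show sapp m W (sapp (ι.app N) W x) = _
    rw [hι]
    exact (congrArg (sapp m W) hx).trans (sapp_res m k s)

end Colimit

end Groth.L09.EtSub
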